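import Cfsg.Agent.Lib.OverLat.A8.Common
import Cfsg.Agent.Lib.OverLat.A8.Amb

set_option autoImplicit false
set_option linter.unusedSectionVars false
set_option maxRecDepth 1000000

namespace Cfsg.Agent.Lib.OverLat.A8.GL4

open Cfsg.Agent.Lib.PermComp.Core Cfsg.Agent.Lib.OverLat.Core Cfsg.Agent.Lib.OverLat.Basic Cfsg.Agent.Lib.OverLat.A8.Common

def a_T : List Nat := [nat_lit 0x8c73aa, nat_lit 0x972e19]
def a_prog : List (Nat × Nat × Nat) := [(nat_lit 1, nat_lit 0, nat_lit 0), (nat_lit 0, nat_lit 1, nat_lit 2), (nat_lit 0, nat_lit 0, nat_lit 2), (nat_lit 0, nat_lit 0, nat_lit 4), (nat_lit 0, nat_lit 0, nat_lit 5), (nat_lit 0, nat_lit 0, nat_lit 6), (nat_lit 0, nat_lit 0, nat_lit 7), (nat_lit 0, nat_lit 0, nat_lit 7), (nat_lit 0, nat_lit 0, nat_lit 8), (nat_lit 0, nat_lit 10, nat_lit 10), (nat_lit 0, nat_lit 0, nat_lit 11), (nat_lit 0, nat_lit 0, nat_lit 12), (nat_lit 0, nat_lit 0, nat_lit 13), (nat_lit 0, nat_lit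 0, nat_lit 13), (nat_lit 0, nat_lit 0, nat_lit 14), (nat_lit 0, nat_lit 0, nat_lit 16), (nat_lit 0, nat_lit 0, nat_lit 16), (nat_lit 0, nat_lit 0, nat_lit 18), (nat_lit 0, nat_lit 17, nat_lit 17), (nat_lit 0, nat_lit 0, nat_lit 1), (nat_lit 0, nat_lit 21, nat_lit 20), (nat_lit 0, nat_lit 0, nat_lit 22), (nat_lit 0, nat_lit 0, nat_lit 23), (nat_lit 0, nat_lit 0, nat_lit 24), (nat_lit 0, nat_lit 0, nat_lit 25), (nat_lit 0, nat_lit 24, nat_lit 0), (nat_lit 1, nat_lit 17, nat_lit 0), (nat_lit 1, nat_lit 1, nat_lit 0), (nat_lit 0, nat_lit 19, nat_lit 19), (nat_lit 0, nat_lit 0, nat_lit 20), (nat_lit 0, nat_lit 0, nat_lit 10), (nat_lit 0, nat_lit 0, nat_lit 11), (nat_lit 0, nat_lit 0, nat_lit 23), (nat_lit 0, nat_lit 0, nat_lit 7), (nat_lit 0, nat_lit 7, nat_lit 6), (nat_lit 0, nat_lit 0, nat_lit 1), (nat_lit 0, nat_lit 10, nat_lit 27), (nat_lit 0, nat_lit 0, nat_lit 11), (nat_lit 0, nat_lit 0, nat_lit 29), (nat_lit 0,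 nat_lit 0, nat_lit 19), (nat_lit 0, nat_lit 0, nat_lit 20), (nat_lit 0, nat_lit 0, nat_lit 32), (nat_lit 0, nat_lit 15, nat_lit 0), (nat_lit 0, nat_lit 23, nat_lit 34), (nat_lit 0, nat_lit 0, nat_lit 35), (nat_lit 0, nat_lit 0, nat_lit 25), (nat_lit 0, nat_lit 0, nat_lit 37), (nat_lit 0, nat_lit 0, nat_lit 27), (nat_lit 0, nat_lit 0, nat_lit 28), (nat_lit 0, nat_lit 0, nat_lit 23), (nat_lit 0, nat_lit 0, nat_lit 24), (nat_lit 0, nat_lit 0, nat_lit 42), (nat_lit 0, nat_lit 17, nat_lit 24), (nat_lit 0, nat_lit 0, nat_lit 1), (nat_lit 1, nat_lit 18, nat_lit 0), (nat_lit 1, nat_lit 1, nat_lit 0), (nat_lit 0, nat_lit 2, nat_lit 20), (nat_lit 0, nat_lit 0, nat_lit 14), (nat_lit 0, nat_lit 0, nat_lit 15), (nat_lit 0, nat_lit 0, nat_lit 16), (nat_lit 0, nat_lit 0, nat_lit 17), (nat_lit 0, nat_lit 0, nat_lit 7), (nat_lit 0, nat_lit 0, nat_lit 19), (nat_lit 0, nat_lit 0, nat_lit 27), (nat_lit 0, nat_lit 21, nat_lit 10), (nat_lit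 0, nat_lit 0, nat_lit 29), (nat_lit 0, nat_lit 0, nat_lit 30), (nat_lit 0, nat_lit 0, nat_lit 24), (nat_lit 0, nat_lit 0, nat_lit 32), (nat_lit 0, nat_lit 0, nat_lit 15), (nat_lit 0, nat_lit 0, nat_lit 27), (nat_lit 0, nat_lit 0, nat_lit 28), (nat_lit 0, nat_lit 0, nat_lit 36), (nat_lit 0, nat_lit 0, nat_lit 19), (nat_lit 0, nat_lit 19, nat_lit 18), (nat_lit 0, nat_lit 0, nat_lit 1), (nat_lit 0, nat_lit 0, nat_lit 0), (nat_lit 0, nat_lit 0, nat_lit 13), (nat_lit 0, nat_lit 0, nat_lit 2), (nat_lit 0, nat_lit 0, nat_lit 15), (nat_lit 0, nat_lit 0, nat_lit 16), (nat_lit 0, nat_lit 0, nat_lit 17), (nat_lit 0, nat_lit 0, nat_lit 18), (nat_lit 0, nat_lit 0, nat_lit 19), (nat_lit 0, nat_lit 7, nat_lit 8), (nat_lit 0, nat_lit 0, nat_lit 9), (nat_lit 0, nat_lit 0, nat_lit 22), (nat_lit 0, nat_lit 0, nat_lit 11), (nat_lit 0, nat_lit 0, nat_lit 12), (nat_lit 0, nat_lit 0, nat_lit 25), (nat_lit 0, nat_lit 0, nat_lit 14), (nat_lit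 0, nat_lit 7, nat_lit 0), (nat_lit 0, nat_lit 0, nat_lit 1), (nat_lit 0, nat_lit 0, nat_lit 9), (nat_lit 0, nat_lit 0, nat_lit 3), (nat_lit 0, nat_lit 0, nat_lit 4), (nat_lit 0, nat_lit 0, nat_lit 12)]
def a_lev0 : Lev := ⟨nat_lit 0, [nat_lit 0x9ee688, nat_lit 0xbf4688, nat_lit 0x5f5708, nat_lit 0xddca88, nat_lit 0xf93a60, nat_lit 0x8c73aa], [(nat_lit 2, nat_lit 0x8c73aa, nat_lit 0), (nat_lit 4, nat_lit 0x5f5708, nat_lit 2), (nat_lit 1, nat_lit 0xf93a60, nat_lit 2), (nat_lit 6, nat_lit 0x8c73aa, nat_lit 2), (nat_lit 5, nat_lit 0x5f5708, nat_lit 4), (nat_lit 3, nat_lit 0xf93a60, nat_lit 4), (nat_lit 7, nat_lit 0x8c73aa, nat_lit 4)], nat_lit 0xff, nat_lit 0x56b1fe54ac6cc42bdac23f45419f38c73aa747991fac688, nat_lit 0x11a377e1c5713c4c9d478d1d4731e588fc1d8b3e45fac688⟩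
def a_lev1 : Lev := ⟨nat_lit 1, [nat_lit 0x9ee688, nat_lit 0xbf4688, nat_lit 0x5f5708, nat_lit 0xddca88, nat_lit 0xf93a60], [(nat_lit 4, nat_lit 0xf93a60, nat_lit 1), (nat_lit 6, nat_lit 0x9ee688, nat_lit 4), (nat_lit 5, nat_lit 0x5f5708, nat_lit 4), (nat_lit 3, nat_lit 0xf93a60, nat_lit 4), (nat_lit 7, nat_lit 0x9ee688, nat_lit 6), (nat_lit 2, nat_lit 0xf93a60, nat_lit 5)], nat_lit 0xfe, nat_lit 0xd13a789d3a705e3c68f93a60f8d5183ddd10fac688000000, nat_lit 0x3de950c5f950ccd9d0f99950fa22e8ce2a78fac688000000⟩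
def a_lev2 : Lev := ⟨nat_lit 3, [nat_lit 0x9ee688, nat_lit 0xbf4688, nat_lit 0x5f5708, nat_lit 0xddca88], [(nat_lit 5, nat_lit 0xddca88, nat_lit 3), (nat_lit 6, nat_lit 0xbf4688, nat_lit 5), (nat_lit 7, nat_lit 0x9ee688, nat_lit 6), (nat_lit 4, nat_lit 0x9ee688, nat_lit 7), (nat_lit 2, nat_lit 0x5f5708, nat_lit 7)], nat_lit 0xfc, nat_lit 0x95ee88f5cc88ddca88d5f888fac688b9f508000000000000, nat_lit 0x737a88ef4a88ddca889f3a88fac6889baac8000000000000⟩
def a_lev3 : Lev := ⟨nat_lit 2, [nat_lit 0x9ee688, nat_lit 0xbf4688, nat_lit 0x5f5708], [(nat_lit 4, nat_lit 0x5f5708, nat_lit 2), (nat_lit 6, nat_lit 0x9ee688, nat_lit 4), (nat_lit 5, nat_lit 0x5f5708, nat_lit 4), (nat_lit 7, nat_lit 0x9ee688, nat_lit 6)], nat_lit 0xf4, nat_lit 0x5a57c853d7888be7485f5708000000fac688000000000000, nat_lit 0x5a57c8aa67c8b17788d627c8000000fac688000000000000⟩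
def a_lev4 : Lev := ⟨nat_lit 5, [nat_lit 0x9ee688, nat_lit 0xbf4688], [(nat_lit 6, nat_lit 0xbf4688, nat_lit 5), (nat_lit 7, nat_lit 0x9ee688, nat_lit 6), (nat_lit 4, nat_lit 0x9ee688, nat_lit 7)], nat_lit 0xf0, nat_lit 0xb3e688bf4688fac688ba7688000000000000000000000000, nat_lit 0xb3e688d7c688fac6889bd688000000000000000000000000⟩
def a_lev5 : Lev := ⟨nat_lit 4, [nat_lit 0x9ee688], [(nat_lit 6, nat_lit 0x9ee688, nat_lit 4), (nat_lit 7, nat_lit 0x9ee688, nat_lit 6)], nat_lit 0xd0, nat_lit 0xd2f6889ee688000000fac688000000000000000000000000, nat_lit 0x9ee688d2f688000000fac688000000000000000000000000⟩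
def a_levels : List Lev := [a_lev0, a_lev1, a_lev2, a_lev3, a_lev4, a_lev5]

def b_T : List Nat := [nat_lit 0xcb8f9eda61253470, nat_lit 0xb27ed4183af65c90]
def b_prog : List (Nat × Nat × Nat) := [(nat_lit 1, nat_lit 1, nat_lit 0), (nat_lit 1, nat_lit 1, nat_lit 0), (nat_lit 0, nat_lit 3, nat_lit 3), (nat_lit 0, nat_lit 0, nat_lit 3), (nat_lit 0, nat_lit 0, nat_lit 4), (nat_lit 0, nat_lit 0, nat_lit 6), (nat_lit 0, nat_lit 0, nat_lit 7), (nat_lit 0, nat_lit 0, nat_lit 7), (nat_lit 0, nat_lit 0, nat_lit 8), (nat_lit 0, nat_lit 0, nat_lit 10), (nat_lit 0, nat_lit 0, nat_lit 11), (nat_lit 0, nat_lit 0, nat_lit 11), (nat_lit 0, nat_lit 0, nat_lit 12), (nat_lit 0, nat_lit 11, nat_lit 0), (nat_lit 0, nat_lit 14, nat_lit 15), (nat_lit 0, nat_lit 0, nat_lit 16), (nat_lit 0, nat_lit 0, nat_lit 16), (nat_lit 0, nat_lit 0, nat_lit 18), (nat_lit 0, nat_lit 0, nat_lit 19), (nat_lit 0, nat_lit 17, nat_lit 18), (nat_lit 0, nat_lit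 0, nat_lit 1), (nat_lit 1, nat_lit 7, nat_lit 0), (nat_lit 1, nat_lit 1, nat_lit 0), (nat_lit 0, nat_lit 9, nat_lit 2), (nat_lit 0, nat_lit 0, nat_lit 10), (nat_lit 0, nat_lit 0, nat_lit 4), (nat_lit 0, nat_lit 4, nat_lit 4), (nat_lit 0, nat_lit 0, nat_lit 4), (nat_lit 0, nat_lit 0, nat_lit 6), (nat_lit 0, nat_lit 0, nat_lit 3), (nat_lit 0, nat_lit 9, nat_lit 9), (nat_lit 0, nat_lit 0, nat_lit 10), (nat_lit 0, nat_lit 0, nat_lit 11), (nat_lit 0, nat_lit 0, nat_lit 19), (nat_lit 0, nat_lit 0, nat_lit 13), (nat_lit 0, nat_lit 0, nat_lit 21), (nat_lit 0, nat_lit 0, nat_lit 22), (nat_lit 0, nat_lit 0, nat_lit 23), (nat_lit 0, nat_lit 0, nat_lit 17), (nat_lit 0, nat_lit 12, nat_lit 17), (nat_lit 0, nat_lit 0, nat_lit 17), (nat_lit 0, nat_lit 0, nat_lit 2), (nat_lit 0, nat_lit 18, nat_lit 21), (nat_lit 0, nat_lit 0, nat_lit 22), (nat_lit 0, nat_lit 0, nat_lit 23), (nat_lit 0, nat_lit 0, nat_lit 24), (nat_lit 0, nat_lit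 0, nat_lit 25), (nat_lit 0, nat_lit 0, nat_lit 33), (nat_lit 0, nat_lit 26, nat_lit 0), (nat_lit 0, nat_lit 18, nat_lit 35), (nat_lit 0, nat_lit 0, nat_lit 29), (nat_lit 0, nat_lit 23, nat_lit 28), (nat_lit 0, nat_lit 0, nat_lit 1), (nat_lit 0, nat_lit 10, nat_lit 39), (nat_lit 0, nat_lit 0, nat_lit 40), (nat_lit 0, nat_lit 0, nat_lit 34), (nat_lit 0, nat_lit 0, nat_lit 35), (nat_lit 0, nat_lit 5, nat_lit 0), (nat_lit 1, nat_lit 28, nat_lit 0), (nat_lit 1, nat_lit 17, nat_lit 0), (nat_lit 1, nat_lit 11, nat_lit 0), (nat_lit 1, nat_lit 3, nat_lit 0), (nat_lit 0, nat_lit 32, nat_lit 32), (nat_lit 0, nat_lit 0, nat_lit 10), (nat_lit 0, nat_lit 0, nat_lit 22), (nat_lit 0, nat_lit 0, nat_lit 35), (nat_lit 0, nat_lit 0, nat_lit 17), (nat_lit 0, nat_lit 0, nat_lit 14), (nat_lit 0, nat_lit 0, nat_lit 15), (nat_lit 0, nat_lit 0, nat_lit 39), (nat_lit 0, nat_lit 9, nat_lit 0), (nat_lit 0, nat_lit 12, nat_lit 12), (nat_lit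 0, nat_lit 14, nat_lit 42), (nat_lit 0, nat_lit 0, nat_lit 31), (nat_lit 0, nat_lit 0, nat_lit 21), (nat_lit 0, nat_lit 0, nat_lit 26), (nat_lit 0, nat_lit 0, nat_lit 18), (nat_lit 0, nat_lit 0, nat_lit 28), (nat_lit 0, nat_lit 0, nat_lit 36), (nat_lit 0, nat_lit 0, nat_lit 49), (nat_lit 0, nat_lit 0, nat_lit 31), (nat_lit 0, nat_lit 0, nat_lit 32), (nat_lit 0, nat_lit 0, nat_lit 33), (nat_lit 0, nat_lit 11, nat_lit 21), (nat_lit 0, nat_lit 0, nat_lit 1), (nat_lit 0, nat_lit 36, nat_lit 43), (nat_lit 0, nat_lit 0, nat_lit 37), (nat_lit 0, nat_lit 0, nat_lit 34), (nat_lit 0, nat_lit 0, nat_lit 39), (nat_lit 0, nat_lit 0, nat_lit 31), (nat_lit 0, nat_lit 0, nat_lit 41), (nat_lit 0, nat_lit 0, nat_lit 33), (nat_lit 0, nat_lit 0, nat_lit 43), (nat_lit 0, nat_lit 0, nat_lit 63), (nat_lit 0, nat_lit 34, nat_lit 35), (nat_lit 0, nat_lit 0, nat_lit 1)]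
def b_lev0 : Lev := ⟨nat_lit 1, [nat_lit 0x89abcdef76543210, nat_lit 0xba98fedc76543210, nat_lit 0xefcdab8976543210, nat_lit 0x7654ab89efcd3210, nat_lit 0xab67ef239854dc10, nat_lit 0xcb8f9eda61253470], [(nat_lit 7, nat_lit 0xcb8f9eda61253470, nat_lit 1), (nat_lit 14, nat_lit 0x7654ab89efcd3210, nat_lit 7), (nat_lit 9, nat_lit 0xab67ef239854dc10, nat_lit 7), (nat_lit 6, nat_lit 0xcb8f9eda61253470, nat_lit 7), (nat_lit 10, nat_lit 0xba98fedc76543210, nat_lit 14), (nat_lit 15, nat_lit 0xefcdab8976543210, nat_lit 14), (nat_lit 11, nat_lit 0xab67ef239854dc10, nat_lit 14), (nat_lit 13, nat_lit 0xba98fedc76543210, nat_lit 9), (nat_lit 8, nat_lit 0xefcdab8976543210, nat_lit 9), (nat_lit 2, nat_lit 0xab67ef239854dc10, nat_lit 9), (nat_lit 12, nat_lit 0xcb8f9eda61253470, nat_lit 15), (nat_lit 5, nat_lit 0x7654ab89efcd3210, nat_lit 13), (nat_lit 3, nat_lit 0xab67ef239854dc10, nat_lit 8), (nat_lit 4, nat_lit 0xcb8f9eda61253470,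 nat_lit 2)], nat_lit 0xfffe, nat_lit 0x4b87965ae12d3cf04a97865bf12c3de07a3e2f6bc18594d059a6d12eb7483fc04f29385ea1c7d6b04ed7c65fb12839a07e3a2b6f81c5d4907f3b2a6e91d5c480cb8f9eda61253470f9acdb8e17423560eb3627fa419c8d50d98cfbae376215409adecf8b216574309bdfce8a31756420fedcba98765432100000000000000000, nat_lit 0x1742e8bdca9f356071248edbca9f3560ac178e35f942db6028b17de46cf539a0e83517ca429fbd608edb7124ca9f35608e35ac17f942db60e853ca71f942db60ca9fe8bd17423560f8bcade9612534709f24e853ac17db60b8fca9ed65217430acdb8ef935421760cadbe8f953427160fedcba98765432100000000000000000⟩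
def b_lev1 : Lev := ⟨nat_lit 2, [nat_lit 0x89abcdef76543210, nat_lit 0xba98fedc76543210, nat_lit 0xefcdab8976543210, nat_lit 0x7654ab89efcd3210, nat_lit 0xab67ef239854dc10], [(nat_lit 12, nat_lit 0xab67ef239854dc10, nat_lit 2), (nat_lit 11, nat_lit 0x89abcdef76543210, nat_lit 12), (nat_lit 8, nat_lit 0xba98fedc76543210, nat_lit 12), (nat_lit 13, nat_lit 0xefcdab8976543210, nat_lit 12), (nat_lit 4, nat_lit 0x7654ab89efcd3210, nat_lit 12), (nat_lit 7, nat_lit 0xab67ef239854dc10, nat_lit 12), (nat_lit 15, nat_lit 0xba98fedc76543210, nat_lit 11), (nat_lit 10, nat_lit 0xefcdab8976543210, nat_lit 11), (nat_lit 14, nat_lit 0xab67ef239854dc10, nat_lit 11), (nat_lit 9, nat_lit 0xefcdab8976543210, nat_lit 8), (nat_lit 3, nat_lit 0xab67ef239854dc10, nat_lit 8), (nat_lit 5, nat_lit 0x7654ab89efcd3210, nat_lit 13), (nat_lit 6, nat_lit 0xab67ef239854dc10, nat_lit 13)], nat_lit 0xfffc, nat_lit 0x9867dc23ab54ef10678923cdba54fe10ba67fe238954cd10ab67ef239854dc10dc679823ef54ab10cd678923fe54ba10fe67ba23cd548910ef67ab23dc549810fe89bacd23546710ef89abcd32547610abfe762398cd4510bafe672389cd5410ba89fecd67542310fedcba987654321000000000000000000000000000000000,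 nat_lit 0x23ba67fecd548910328976cdef54ab10ba23fe67cd548910ab32ef76cd54891067fe23bacd54891076ef32abcd548910fe67ba23cd548910ef76ab32cd548910fe89bacd23546710ef89abcd32547610dc45ef76ba238910dc45fe67ab328910ba89fecd67542310fedcba987654321000000000000000000000000000000000⟩
def b_lev2 : Lev := ⟨nat_lit 4, [nat_lit 0x89abcdef76543210, nat_lit 0xba98fedc76543210, nat_lit 0xefcdab8976543210, nat_lit 0x7654ab89efcd3210], [(nat_lit 13, nat_lit 0x7654ab89efcd3210, nat_lit 4), (nat_lit 10, nat_lit 0x89abcdef76543210, nat_lit 13), (nat_lit 9, nat_lit 0xba98fedc76543210, nat_lit 13), (nat_lit 12, nat_lit 0xefcdab8976543210, nat_lit 13), (nat_lit 5, nat_lit 0x7654ab89efcd3210, nat_lit 13), (nat_lit 14, nat_lit 0xba98fedc76543210, nat_lit 10), (nat_lit 11, nat_lit 0xefcdab8976543210, nat_lit 10), (nat_lit 8, nat_lit 0xefcdab8976543210, nat_lit 9), (nat_lit 15, nat_lit 0xefcdab8976543210, nat_lit 14), (nat_lit 6, nat_lit 0x7654ab89efcd3210,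 nat_lit 14), (nat_lit 7, nat_lit 0x7654ab89efcd3210, nat_lit 15)], nat_lit 0xfff0, nat_lit 0x765489abcdef3210765498badcfe32107654ab89efcd32107654ba98fedc32107654cdef89ab32107654dcfe98ba32107654efcdab8932107654fedcba983210efcd98ba45673210efcd89ab54763210efcdba9867453210fedcba98765432100000000000000000000000000000000000000000000000000000000000000000, nat_lit 0x456789abfedc3210547698bafedc32106745ab89fedc32107654ba98fedc321089ab4567fedc321098ba5476fedc3210ab896745fedc3210ba987654fedc3210efcd98ba45673210efcd89ab54763210efcdba9867453210fedcba98765432100000000000000000000000000000000000000000000000000000000000000000⟩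
def b_lev3 : Lev := ⟨nat_lit 8, [nat_lit 0x89abcdef76543210, nat_lit 0xba98fedc76543210, nat_lit 0xefcdab8976543210], [(nat_lit 15, nat_lit 0x89abcdef76543210, nat_lit 8), (nat_lit 12, nat_lit 0xba98fedc76543210, nat_lit 8), (nat_lit 9, nat_lit 0xefcdab8976543210, nat_lit 8), (nat_lit 11, nat_lit 0xba98fedc76543210, nat_lit 15), (nat_lit 14, nat_lit 0xefcdab8976543210, nat_lit 15), (nat_lit 13, nat_lit 0xefcdab8976543210, nat_lit 12), (nat_lit 10, nat_lit 0xefcdab8976543210, nat_lit 11)], nat_lit 0xff00, nat_lit 0x89abcdef7654321098badcfe76543210ab89efcd76543210ba98fedc76543210cdef89ab76543210dcfe98ba76543210efcdab8976543210fedcba987654321000000000000000000000000000000000000000000000000000000000000000000000000000000000000000000000000000000000000000000000000000000000, nat_lit 0x89abcdef7654321098badcfe76543210ab89efcd76543210ba98fedc76543210cdef89ab76543210dcfe98ba76543210efcdab8976543210fedcba987654321000000000000000000000000000000000000000000000000000000000000000000000000000000000000000000000000000000000000000000000000000000000⟩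
def b_levels : List Lev := [b_lev0, b_lev1, b_lev2, b_lev3]

def d_T : List Nat := [nat_lit 0xa4e178dab27254d5b1e820c07098a2, nat_lit 0x9a9f6ab1305caee6d228214c238061]
def d_prog : List (Nat × Nat × Nat) := [(nat_lit 1, nat_lit 1, nat_lit 0), (nat_lit 1, nat_lit 1, nat_lit 0), (nat_lit 0, nat_lit 3, nat_lit 3), (nat_lit 0, nat_lit 0, nat_lit 3), (nat_lit 0, nat_lit 0, nat_lit 4), (nat_lit 0, nat_lit 0, nat_lit 6), (nat_lit 0, nat_lit 0, nat_lit 7), (nat_lit 0, nat_lit 0, nat_lit 8), (nat_lit 0, nat_lit 0, nat_lit 9), (nat_lit 0, nat_lit 7, nat_lit 7), (nat_lit 0, nat_lit 0, nat_lit 8), (nat_lit 0, nat_lit 0, nat_lit 2), (nat_lit 0, nat_lit 12, nat_lit 12), (nat_lit 0, nat_lit 0, nat_lit 14), (nat_lit 0, nat_lit 0, nat_lit 15), (nat_lit 0, nat_lit 0, nat_lit 15), (nat_lit 0, nat_lit 0, nat_lit 16), (nat_lit 0, nat_lit 0, nat_lit 18), (nat_lit 0, nat_lit 0, nat_lit 19), (nat_lit 0, nat_lit 0, nat_lit 19), (nat_lit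 0, nat_lit 0, nat_lit 21), (nat_lit 0, nat_lit 0, nat_lit 22), (nat_lit 0, nat_lit 0, nat_lit 22), (nat_lit 0, nat_lit 21, nat_lit 22), (nat_lit 0, nat_lit 0, nat_lit 1), (nat_lit 1, nat_lit 13, nat_lit 0), (nat_lit 1, nat_lit 1, nat_lit 0), (nat_lit 0, nat_lit 2, nat_lit 15), (nat_lit 0, nat_lit 0, nat_lit 3), (nat_lit 0, nat_lit 0, nat_lit 4), (nat_lit 0, nat_lit 0, nat_lit 5), (nat_lit 0, nat_lit 0, nat_lit 19), (nat_lit 0, nat_lit 0, nat_lit 7), (nat_lit 0, nat_lit 5, nat_lit 21), (nat_lit 0, nat_lit 0, nat_lit 22), (nat_lit 0, nat_lit 0, nat_lit 10), (nat_lit 0, nat_lit 0, nat_lit 11), (nat_lit 0, nat_lit 0, nat_lit 25), (nat_lit 0, nat_lit 0, nat_lit 13), (nat_lit 0, nat_lit 0, nat_lit 27), (nat_lit 0, nat_lit 0, nat_lit 15), (nat_lit 0, nat_lit 0, nat_lit 16), (nat_lit 0, nat_lit 0, nat_lit 30), (nat_lit 0, nat_lit 17, nat_lit 16), (nat_lit 0, nat_lit 0, nat_lit 1), (nat_lit 1, nat_lit 12, nat_lit 0), (nat_lit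 1, nat_lit 1, nat_lit 0), (nat_lit 0, nat_lit 2, nat_lit 2), (nat_lit 0, nat_lit 0, nat_lit 3), (nat_lit 0, nat_lit 0, nat_lit 4), (nat_lit 0, nat_lit 0, nat_lit 17), (nat_lit 0, nat_lit 0, nat_lit 18), (nat_lit 0, nat_lit 0, nat_lit 7), (nat_lit 0, nat_lit 0, nat_lit 8), (nat_lit 0, nat_lit 0, nat_lit 21), (nat_lit 0, nat_lit 0, nat_lit 22), (nat_lit 0, nat_lit 10, nat_lit 9), (nat_lit 0, nat_lit 0, nat_lit 11), (nat_lit 0, nat_lit 0, nat_lit 2), (nat_lit 0, nat_lit 26, nat_lit 14), (nat_lit 0, nat_lit 0, nat_lit 15), (nat_lit 0, nat_lit 0, nat_lit 16), (nat_lit 0, nat_lit 0, nat_lit 29), (nat_lit 0, nat_lit 0, nat_lit 30), (nat_lit 0, nat_lit 0, nat_lit 31), (nat_lit 0, nat_lit 0, nat_lit 20), (nat_lit 0, nat_lit 0, nat_lit 33), (nat_lit 0, nat_lit 0, nat_lit 22), (nat_lit 0, nat_lit 0, nat_lit 23), (nat_lit 0, nat_lit 22, nat_lit 22), (nat_lit 0, nat_lit 0, nat_lit 1), (nat_lit 1, nat_lit 12, nat_lit 0), (nat_lit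 1, nat_lit 1, nat_lit 0), (nat_lit 0, nat_lit 14, nat_lit 2), (nat_lit 0, nat_lit 0, nat_lit 3), (nat_lit 0, nat_lit 0, nat_lit 16), (nat_lit 0, nat_lit 0, nat_lit 5), (nat_lit 0, nat_lit 0, nat_lit 18), (nat_lit 0, nat_lit 0, nat_lit 19), (nat_lit 0, nat_lit 0, nat_lit 20), (nat_lit 0, nat_lit 0, nat_lit 9), (nat_lit 0, nat_lit 9, nat_lit 8), (nat_lit 0, nat_lit 0, nat_lit 1), (nat_lit 0, nat_lit 9, nat_lit 24), (nat_lit 0, nat_lit 0, nat_lit 13), (nat_lit 0, nat_lit 0, nat_lit 14), (nat_lit 0, nat_lit 14, nat_lit 0), (nat_lit 1, nat_lit 0, nat_lit 0), (nat_lit 0, nat_lit 5, nat_lit 1), (nat_lit 0, nat_lit 0, nat_lit 6), (nat_lit 0, nat_lit 0, nat_lit 3), (nat_lit 0, nat_lit 3, nat_lit 0)]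
def d_lev0 : Lev := ⟨nat_lit 0, [nat_lit 0x94670735ecb56f45256829cc418820, nat_lit 0xa56d794e116b1ee5a928290e618820, nat_lit 0x95dea72e7662634855a82906730820, nat_lit 0x84672bda956b1cf52d28290c710c20, nat_lit 0x95a35bce905392d7ad881182538c80, nat_lit 0xa4e178dab27254d5b1e820c07098a2], [(nat_lit 2, nat_lit 0xa4e178dab27254d5b1e820c07098a2, nat_lit 0), (nat_lit 3, nat_lit 0x84672bda956b1cf52d28290c710c20, nat_lit 2), (nat_lit 6, nat_lit 0xa4e178dab27254d5b1e820c07098a2, nat_lit 2), (nat_lit 7, nat_lit 0x95a35bce905392d7ad881182538c80, nat_lit 3), (nat_lit 1, nat_lit 0xa4e178dab27254d5b1e820c07098a2, nat_lit 3), (nat_lit 4, nat_lit 0xa56d794e116b1ee5a928290e618820, nat_lit 6), (nat_lit 5, nat_lit 0x94670735ecb56f45256829cc418820, nat_lit 7)], nat_lit 0xff, nat_lit 0x9ca30ad2f66b1ee5a92810c01214c7bc654ace164bd8a5b5c83844428c06735ec9c251bd2d55256810c01218e5a4277b4a354b5ca5bd882844638c0495eb0a46766256e53da838805090c3a4e178dab27254d5b1e820c07098a2b5212bd6336bd69639482184029c61bdab49ca307b9ac5a928398a418820,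 nat_lit 0x8c272bdab46b1ee5a9280044331c85bc274956d17254d5b1e838064114c17b58e9c612aded44ad480880331c85a4e17aca36535c95b1e8190e0114c1b42b38de545312f6adc83848201865a4a37b42754bd8a5b5c820827300659de5685235729eb6a5881186709404bdab49ca307b9ac5a928398a418820⟩
def d_lev1 : Lev := ⟨nat_lit 1, [nat_lit 0x94670735ecb56f45256829cc418820, nat_lit 0xa56d794e116b1ee5a928290e618820, nat_lit 0x95dea72e7662634855a82906730820, nat_lit 0x84672bda956b1cf52d28290c710c20, nat_lit 0x95a35bce905392d7ad881182538c80], [(nat_lit 4, nat_lit 0x95a35bce905392d7ad881182538c80, nat_lit 1), (nat_lit 6, nat_lit 0xa56d794e116b1ee5a928290e618820, nat_lit 4), (nat_lit 7, nat_lit 0x95dea72e7662634855a82906730820, nat_lit 4), (nat_lit 5, nat_lit 0x95a35bce905392d7ad881182538c80, nat_lit 4), (nat_lit 2, nat_lit 0x95a35bce905392d7ad881182538c80, nat_lit 7), (nat_lit 3, nat_lit 0x95dea72e7662634855a82906730820, nat_lit 5)], nat_lit 0xfe, nat_lit 0x5de6f93956aa5b16428811023298e09d616a4af15312f6adc81102728cc09da9195eb05b98953da81988111ca095a35bce905392d7ad881182538c8075d535c9f68268dab228310e1114607caea9b9768b1346c2a81948709840bdab49ca307b9ac5a928398a418820000000000000000000000000000000,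 nat_lit 0xb41e9acd8aa49abbc5c80886621ca08d2d3bca156256e53da82046611ca095a35bce905392d7ad881182538c809da9195eb05b98953da81988111ca0b416da492f8dd8a9d5c829c4608c80ac12c9d9eabc96e8d1a8208c538460bdab49ca307b9ac5a928398a418820000000000000000000000000000000⟩
def d_lev2 : Lev := ⟨nat_lit 2, [nat_lit 0x94670735ecb56f45256829cc418820, nat_lit 0xa56d794e116b1ee5a928290e618820, nat_lit 0x95dea72e7662634855a82906730820, nat_lit 0x84672bda956b1cf52d28290c710c20], [(nat_lit 3, nat_lit 0x84672bda956b1cf52d28290c710c20, nat_lit 2), (nat_lit 6, nat_lit 0x95dea72e7662634855a82906730820, nat_lit 3), (nat_lit 7, nat_lit 0x94670735ecb56f45256829cc418820, nat_lit 6), (nat_lit 4, nat_lit 0xa56d794e116b1ee5a928290e618820, nat_lit 6), (nat_lit 5, nat_lit 0x94670735ecb56f45256829cc418820, nat_lit 7)], nat_lit 0xfc, nat_lit 0x8baaa6c9367c1749b2e81948611c20b4dcb95d4f8d12cac1a819c85118207d669bb571b3150752481988711420ac98b9d14d85d2eb45e8194c71102084672bda956b1cf52d28290c710c20bdab49ca307b9ac5a928398a418820000000000000000000000000000000000000000000000000000000000000,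 nat_lit 0x4c2ac5caee7da6a6d228110c538c2095d6eb4dea8552ca45a83088538c209becaaa60cbae4e8b6882184538c2072ef29d94f4b215a45a8214c238c209ca11ad2d7635ee52d28214e610c20bdab49ca307b9ac5a928398a418820000000000000000000000000000000000000000000000000000000000000⟩
def d_lev3 : Lev := ⟨nat_lit 3, [nat_lit 0x94670735ecb56f45256829cc418820, nat_lit 0xa56d794e116b1ee5a928290e618820, nat_lit 0x95dea72e7662634855a82906730820], [(nat_lit 6, nat_lit 0x95dea72e7662634855a82906730820, nat_lit 3), (nat_lit 7, nat_lit 0x94670735ecb56f45256829cc418820, nat_lit 6), (nat_lit 4, nat_lit 0xa56d794e116b1ee5a928290e618820, nat_lit 6), (nat_lit 5, nat_lit 0x94670735ecb56f45256829cc418820, nat_lit 7)], nat_lit 0xf8, nat_lit 0x6cac9aa9d1a2df064ee8310653882095dea72e7662634855a82906730820bb62b9a6af82acca3a4839066288209d1aa62e55726178d9e83986520820bdab49ca307b9ac5a928398a418820000000000000000000000000000000000000000000000000000000000000000000000000000000000000000000,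 nat_lit 0x4d66f55a0c6c6eb74a8819c8628820b414c8ddabacd2f951c820ce628820bb62b9a6af82acca3a48390662882062a16bc56d4beb3951c83988328820bdab49ca307b9ac5a928398a418820000000000000000000000000000000000000000000000000000000000000000000000000000000000000000000⟩
def d_lev4 : Lev := ⟨nat_lit 4, [nat_lit 0x94670735ecb56f45256829cc418820, nat_lit 0xa56d794e116b1ee5a928290e618820], [(nat_lit 6, nat_lit 0xa56d794e116b1ee5a928290e618820, nat_lit 4), (nat_lit 7, nat_lit 0x94670735ecb56f45256829cc418820, nat_lit 6), (nat_lit 5, nat_lit 0x94670735ecb56f45256829cc418820, nat_lit 7)], nat_lit 0xf0, nat_lit 0x84e326b98fbd2d552568310a718820a56d794e116b1ee5a928290e618820639edbd696942334ad48390c518820bdab49ca307b9ac5a928398a418820000000000000000000000000000000000000000000000000000000000000000000000000000000000000000000000000000000000000000000000000, nat_lit 0x7b58eb52b784a714ad4821ca618820a56d794e116b1ee5a928290e6188209c25163daeada97525683948618820bdab49ca307b9ac5a928398a418820000000000000000000000000000000000000000000000000000000000000000000000000000000000000000000000000000000000000000000000000⟩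
def d_lev5 : Lev := ⟨nat_lit 5, [nat_lit 0x94670735ecb56f45256829cc418820], [(nat_lit 6, nat_lit 0x94670735ecb56f45256829cc418820, nat_lit 5), (nat_lit 7, nat_lit 0x94670735ecb56f45256829cc418820, nat_lit 6)], nat_lit 0xe0, nat_lit 0x6bdccaded48ce504ad48314e41882094670735ecb56f45256829cc418820bdab49ca307b9ac5a928398a418820000000000000000000000000000000000000000000000000000000000000000000000000000000000000000000000000000000000000000000000000000000000000000000000000000000, nat_lit 0x94670735ecb56f45256829cc4188206bdccaded48ce504ad48314e418820bdab49ca307b9ac5a928398a418820000000000000000000000000000000000000000000000000000000000000000000000000000000000000000000000000000000000000000000000000000000000000000000000000000000⟩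
def d_levels : List Lev := [d_lev0, d_lev1, d_lev2, d_lev3, d_lev4, d_lev5]

def Ds : List (Nat × Nat × Nat) := [(nat_lit 0x8c73aa, nat_lit 0xcb8f9eda61253470, nat_lit 0xa4e178dab27254d5b1e820c07098a2), (nat_lit 0x972e19, nat_lit 0xb27ed4183af65c90, nat_lit 0x9a9f6ab1305caee6d228214c238061)]

theorem hid2 : ∀ i < 2 ^ 4, app 4 15 0xfedcba9876543210 i = i := by decide +kernel

theorem diag : allL (diagOK 5 31 (2 ^ 4) 4 15 0xfedcba9876543210) Ds = true := by decide +kernel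

theorem check2 : checkAll (2 ^ 4) 4 15 64 0xffffffffffffffff 0xfedcba9876543210 (Ds.map (·.2.1)) b_prog b_levels = true := by decide +kernel

theorem check3 : checkAll (8 + 2 ^ 4) 5 31 120 0xffffffffffffffffffffffffffffff 0xbdab49ca307b9ac5a928398a418820 (Ds.map (·.2.2)) d_prog d_levels = true := by decide +kernel

theorem check1 : checkAll 8 3 7 24 0xffffff idc8 (Ds.map (·.1)) a_prog a_levels = true := by decide +kernel

theorem o1 : orderC d_levels = orderC a_levels := by decide +kernel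

theorem o2 : orderC d_levels = orderC b_levels := by decide +kernel

theorem o3 : orderC b_levels = 20160 := by decide +kernel

def mat0 : GL (Fin 4) (ZMod 2) := ⟨!![1, 0, 1, 0; 1, 0, 0, 1; 1, 1, 1, 0; 0, 0, 0, 1], !![0, 1, 0, 1; 1, 0, 1, 0; 1, 1, 0, 1; 0, 0, 0, 1], by decide +kernel, by decide +kernel⟩

theorem rep0 : ∀ a : Fin 4 → ZMod 2, app 4 15 0xcb8f9eda61253470 (eV 4 a) = eV 4 ((mat0 : Matrix (Fin 4) (Fin 4) (ZMod 2)).mulVec a) := by decide +kernel

def mat1 : GL (Fin 4) (ZMod 2) := ⟨!![1, 0, 0, 0; 0, 0, 1, 0; 0, 1, 1, 0; 1, 1, 0, 1], !![1, 0, 0, 0; 0, 1, 1, 0; 0, 1, 0, 0; 1, 1, 1, 1], by decide +kernel, by decide +kernel⟩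

theorem rep1 : ∀ a : Fin 4 → ZMod 2, app 4 15 0xb27ed4183af65c90 (eV 4 a) = eV 4 ((mat1 : Matrix (Fin 4) (Fin 4) (ZMod 2)).mulVec a) := by decide +kernel

theorem hGL : ∀ c ∈ Ds.map (·.2.1), ∃ g : GL (Fin 4) (ZMod 2), Cfsg.Agent.Lib.PermComp.Core.Rep 4 15 (eV 4) c (rho 4 g) := by
  intro c hc
  simp only [Ds, List.map_cons, List.map_nil, List.mem_cons, List.not_mem_nil, or_false] at hc
  rcases hc with rfl | rfl
  · exact ⟨mat0, rep_of_mat 4 _ _ rep0⟩
  · exact ⟨mat1, rep_of_mat 4 _ _ rep1⟩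

theorem hDs : Ds.map (·.1) = Amb.gA := by decide +kernel

theorem card_GL4 : Nat.card (GL (Fin 4) (ZMod 2)) = 20160 := by
  have : Fact (Nat.Prime 2) := ⟨Nat.prime_two⟩
  rw [Matrix.card_GL_field]
  simp [ZMod.card, Fin.prod_univ_four]

/-- `A₈ ≅ GL₄(2)`. -/
theorem equiv_gl4 : Nonempty (HH Amb.gA ≃* GL (Fin 4) (ZMod 2)) := by
  rw [← hDs]
  obtain ⟨⟨f⟩, hc⟩ := iso_of_checks (e₂ := eV 4) (by norm_num) hid2 diag check1 check2 check3 o1 o2
  obtain ⟨g⟩ := equiv_GL 4 (by rw [card_GL4, hc, o3]) hGL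
  exact ⟨f.trans g⟩

/-- The order of the ambient group. -/
theorem card_amb : Nat.card (HH Amb.gA) = 20160 := by
  obtain ⟨f⟩ := equiv_gl4
  rw [Nat.card_congr f.toEquiv, card_GL4]

end Cfsg.Agent.Lib.OverLat.A8.GL4
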