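import Cfsg.Agent.Lib.OverLat.A8.Common
import Cfsg.Agent.Lib.OverLat.A8.Amb


set_option autoImplicit false
set_option linter.unusedSectionVars false
set_option maxRecDepth 1000000

namespace Cfsg.Agent.Lib.OverLat.A8.N00

open Cfsg.Agent.Lib.PermComp.Core Cfsg.Agent.Lib.OverLat.Core Cfsg.Agent.Lib.OverLat.Basic Cfsg.Agent.Lib.OverLat.A8.Common

def T : List Nat := [nat_lit 0x8c73aa, nat_lit 0x972e19]
def prog : List (Nat × Nat × Nat) := [(nat_lit 1, nat_lit 0, nat_lit 0), (nat_lit 0, nat_lit 1, nat_lit 1), (nat_lit 0, nat_lit 0, nat_lit 3), (nat_lit 0, nat_lit 0, nat_lit 4), (nat_lit 0, nat_lit 0, nat_lit 5), (nat_lit 0, nat_lit 0, nat_lit 5), (nat_lit 0, nat_lit 5, nat_lit 0), (nat_lit 0, nat_lit 8, nat_lit 8), (nat_lit 0, nat_lit 0, nat_lit 9), (nat_lit 0, nat_lit 0, nat_lit 10), (nat_lit 0, nat_lit 0, nat_lit 10), (nat_lit 0, nat_lit 0, nat_lit 11), (nat_lit 0, nat_lit 0, nat_lit 13), (nat_lit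 0, nat_lit 0, nat_lit 14), (nat_lit 0, nat_lit 0, nat_lit 15), (nat_lit 0, nat_lit 0, nat_lit 15), (nat_lit 0, nat_lit 0, nat_lit 17), (nat_lit 0, nat_lit 0, nat_lit 18), (nat_lit 1, nat_lit 11, nat_lit 0), (nat_lit 1, nat_lit 1, nat_lit 0), (nat_lit 0, nat_lit 13, nat_lit 2), (nat_lit 0, nat_lit 0, nat_lit 14), (nat_lit 0, nat_lit 0, nat_lit 15), (nat_lit 0, nat_lit 4, nat_lit 4), (nat_lit 0, nat_lit 0, nat_lit 1), (nat_lit 0, nat_lit 18, nat_lit 18), (nat_lit 0, nat_lit 0, nat_lit 8), (nat_lit 0, nat_lit 0, nat_lit 9), (nat_lit 0, nat_lit 0, nat_lit 21), (nat_lit 0, nat_lit 0, nat_lit 22), (nat_lit 0, nat_lit 0, nat_lit 12), (nat_lit 0, nat_lit 0, nat_lit 24), (nat_lit 0, nat_lit 0, nat_lit 25), (nat_lit 0, nat_lit 0, nat_lit 26), (nat_lit 0, nat_lit 0, nat_lit 16), (nat_lit 0, nat_lit 0, nat_lit 28), (nat_lit 0, nat_lit 17, nat_lit 16), (nat_lit 0, nat_lit 0, nat_lit 1), (nat_lit 1, nat_lit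 13, nat_lit 0), (nat_lit 0, nat_lit 14, nat_lit 14), (nat_lit 0, nat_lit 0, nat_lit 2), (nat_lit 0, nat_lit 0, nat_lit 3), (nat_lit 0, nat_lit 3, nat_lit 3), (nat_lit 0, nat_lit 0, nat_lit 1), (nat_lit 0, nat_lit 6, nat_lit 6), (nat_lit 0, nat_lit 0, nat_lit 7), (nat_lit 0, nat_lit 0, nat_lit 8), (nat_lit 0, nat_lit 0, nat_lit 22), (nat_lit 0, nat_lit 0, nat_lit 23), (nat_lit 0, nat_lit 0, nat_lit 24), (nat_lit 0, nat_lit 0, nat_lit 25), (nat_lit 0, nat_lit 0, nat_lit 13), (nat_lit 0, nat_lit 0, nat_lit 14), (nat_lit 0, nat_lit 0, nat_lit 15), (nat_lit 0, nat_lit 16, nat_lit 29), (nat_lit 0, nat_lit 0, nat_lit 30), (nat_lit 0, nat_lit 0, nat_lit 18), (nat_lit 0, nat_lit 0, nat_lit 32), (nat_lit 0, nat_lit 0, nat_lit 20), (nat_lit 0, nat_lit 0, nat_lit 34), (nat_lit 0, nat_lit 0, nat_lit 22), (nat_lit 0, nat_lit 18, nat_lit 22), (nat_lit 0, nat_lit 0, nat_lit 1), (nat_lit 0, nat_lit 8, nat_lit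 25), (nat_lit 0, nat_lit 0, nat_lit 26), (nat_lit 0, nat_lit 26, nat_lit 0), (nat_lit 1, nat_lit 22, nat_lit 0), (nat_lit 0, nat_lit 4, nat_lit 1), (nat_lit 0, nat_lit 0, nat_lit 24), (nat_lit 0, nat_lit 0, nat_lit 25), (nat_lit 0, nat_lit 0, nat_lit 7), (nat_lit 0, nat_lit 0, nat_lit 5), (nat_lit 0, nat_lit 0, nat_lit 28), (nat_lit 0, nat_lit 0, nat_lit 29), (nat_lit 0, nat_lit 0, nat_lit 11), (nat_lit 0, nat_lit 0, nat_lit 9), (nat_lit 0, nat_lit 0, nat_lit 13), (nat_lit 0, nat_lit 10, nat_lit 0), (nat_lit 0, nat_lit 12, nat_lit 34), (nat_lit 0, nat_lit 0, nat_lit 13), (nat_lit 0, nat_lit 0, nat_lit 17), (nat_lit 0, nat_lit 0, nat_lit 27), (nat_lit 0, nat_lit 0, nat_lit 38), (nat_lit 0, nat_lit 0, nat_lit 17), (nat_lit 0, nat_lit 0, nat_lit 40), (nat_lit 0, nat_lit 0, nat_lit 31), (nat_lit 0, nat_lit 0, nat_lit 8), (nat_lit 0, nat_lit 0, nat_lit 1), (nat_lit 0, nat_lit 0, nat_lit 2), (nat_lit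 0, nat_lit 0, nat_lit 3), (nat_lit 0, nat_lit 0, nat_lit 12)]
def lev0 : Lev := ⟨nat_lit 0, [nat_lit 0xbf4688, nat_lit 0xcece88, nat_lit 0x9ee688, nat_lit 0x8f9ca8, nat_lit 0x9735c8, nat_lit 0x8c73aa], [(nat_lit 2, nat_lit 0x8c73aa, nat_lit 0), (nat_lit 7, nat_lit 0x9735c8, nat_lit 2), (nat_lit 6, nat_lit 0x8c73aa, nat_lit 2), (nat_lit 5, nat_lit 0xbf4688, nat_lit 7), (nat_lit 4, nat_lit 0x9ee688, nat_lit 7), (nat_lit 3, nat_lit 0xcece88, nat_lit 6), (nat_lit 1, nat_lit 0x8f9ca8, nat_lit 4)], nat_lit 0xff, nat_lit 0x684377e54ac66843bd68637cc54bc38c73aac83be1fac688, nat_lit 0x54f9de1c571284f9d310f9d5dc17188fc1d5d9985fac688⟩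
def lev1 : Lev := ⟨nat_lit 2, [nat_lit 0xbf4688, nat_lit 0xcece88, nat_lit 0x9ee688, nat_lit 0x8f9ca8, nat_lit 0x9735c8], [(nat_lit 7, nat_lit 0x9735c8, nat_lit 2), (nat_lit 5, nat_lit 0xbf4688, nat_lit 7), (nat_lit 6, nat_lit 0xcece88, nat_lit 7), (nat_lit 4, nat_lit 0x9ee688, nat_lit 7), (nat_lit 3, nat_lit 0xcece88, nat_lit 6), (nat_lit 1, nat_lit 0x8f9ca8, nat_lit 4)], nat_lit 0xfe, nat_lit 0x9735c895f5889bb548d7b50897e4c8fac6887e6468000000, nat_lit 0x5778c88b7ac8b978c8bf28c8b374c8fac688d0ded0000000⟩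
def lev2 : Lev := ⟨nat_lit 1, [nat_lit 0xbf4688, nat_lit 0xcece88, nat_lit 0x9ee688, nat_lit 0x8f9ca8], [(nat_lit 5, nat_lit 0x8f9ca8, nat_lit 1), (nat_lit 6, nat_lit 0xbf4688, nat_lit 5), (nat_lit 7, nat_lit 0x8f9ca8, nat_lit 5), (nat_lit 3, nat_lit 0xcece88, nat_lit 6), (nat_lit 4, nat_lit 0x9ee688, nat_lit 7)], nat_lit 0xfa, nat_lit 0x3a56b88e9eb08f9ca83f56a09e9c98000000fac688000000, nat_lit 0x3a56b866fca0acfca0d616b8cef2a0000000fac688000000⟩
def lev3 : Lev := ⟨nat_lit 4, [nat_lit 0xbf4688, nat_lit 0xcece88, nat_lit 0x9ee688], [(nat_lit 6, nat_lit 0x9ee688, nat_lit 4), (nat_lit 7, nat_lit 0xbf4688, nat_lit 6), (nat_lit 3, nat_lit 0xcece88, nat_lit 6), (nat_lit 5, nat_lit 0xbf4688, nat_lit 7)], nat_lit 0xf8, nat_lit 0x9776889ee6889bd688fac6889abe88000000000000000000, nat_lit 0x977688d2f688ba7688fac6887af888000000000000000000⟩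
def lev4 : Lev := ⟨nat_lit 3, [nat_lit 0xbf4688, nat_lit 0xcece88], [(nat_lit 7, nat_lit 0xcece88, nat_lit 3), (nat_lit 5, nat_lit 0xbf4688, nat_lit 7), (nat_lit 6, nat_lit 0xcece88, nat_lit 7)], nat_lit 0xe8, nat_lit 0xcece887ecc88ef4a88000000fac688000000000000000000, nat_lit 0x7ecc88cece88f5cc88000000fac688000000000000000000⟩
def lev5 : Lev := ⟨nat_lit 5, [nat_lit 0xbf4688], [(nat_lit 6, nat_lit 0xbf4688, nat_lit 5), (nat_lit 7, nat_lit 0xbf4688, nat_lit 6)], nat_lit 0xe0, nat_lit 0xd7c688bf4688fac688000000000000000000000000000000, nat_lit 0xbf4688d7c688fac688000000000000000000000000000000⟩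
def levels : List Lev := [lev0, lev1, lev2, lev3, lev4, lev5]

theorem valid : allL (validC 8 3 7 idc8) T = true := by decide +kernel

theorem check : checkAll 8 3 7 24 0xffffff idc8 T prog levels = true := by decide +kernel

def targets : List (List Nat) := []
def cert : StepCert where
  N := nat_lit 1
  b := nat_lit 1
  bm := nat_lit 1
  U := nat_lit 0xfac688
  V := nat_lit 0xfac688
  tabsA := [(nat_lit 0x8c73aa, nat_lit 0x0), (nat_lit 0x972e19, nat_lit 0x0)]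
  tabsL := [(nat_lit 0x8c73aa, nat_lit 0x0), (nat_lit 0x972e19, nat_lit 0x0)]
  rt := nat_lit 0x0
  par := nat_lit 0x0
  gi := nat_lit 0x0
  rootMask := nat_lit 0x0
  roots := []

theorem stepc : stepCheck 8 3 7 24 0xffffff idc8 levels targets T cert = true := by decide +kernel

def b_T : List Nat := [nat_lit 0xa863dc, nat_lit 0xd39a1a]
def b_prog : List (Nat × Nat × Nat) := [(nat_lit 1, nat_lit 1, nat_lit 0), (nat_lit 1, nat_lit 1, nat_lit 0), (nat_lit 0, nat_lit 3, nat_lit 3), (nat_lit 0, nat_lit 0, nat_lit 3), (nat_lit 0, nat_lit 0, nat_lit 4), (nat_lit 0, nat_lit 0, nat_lit 6), (nat_lit 0, nat_lit 0, nat_lit 7), (nat_lit 0, nat_lit 0, nat_lit 7), (nat_lit 0, nat_lit 0, nat_lit 8), (nat_lit 0, nat_lit 0, nat_lit 10), (nat_lit 0, nat_lit 0, nat_lit 11), (nat_lit 0, nat_lit 0, nat_lit 11), (nat_lit 0, nat_lit 0, nat_lit 12), (nat_lit 0, nat_lit 12, nat_lit 0), (nat_lit 0, nat_lit 14, nat_lit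 15), (nat_lit 0, nat_lit 0, nat_lit 16), (nat_lit 0, nat_lit 0, nat_lit 16), (nat_lit 0, nat_lit 0, nat_lit 18), (nat_lit 0, nat_lit 0, nat_lit 19), (nat_lit 0, nat_lit 20, nat_lit 19), (nat_lit 0, nat_lit 0, nat_lit 21), (nat_lit 0, nat_lit 0, nat_lit 21), (nat_lit 0, nat_lit 20, nat_lit 0), (nat_lit 1, nat_lit 9, nat_lit 0), (nat_lit 1, nat_lit 1, nat_lit 0), (nat_lit 1, nat_lit 6, nat_lit 0), (nat_lit 0, nat_lit 7, nat_lit 3), (nat_lit 0, nat_lit 0, nat_lit 8), (nat_lit 0, nat_lit 0, nat_lit 9), (nat_lit 0, nat_lit 0, nat_lit 6), (nat_lit 0, nat_lit 0, nat_lit 7), (nat_lit 0, nat_lit 0, nat_lit 12), (nat_lit 0, nat_lit 0, nat_lit 18), (nat_lit 0, nat_lit 0, nat_lit 14), (nat_lit 0, nat_lit 0, nat_lit 20), (nat_lit 0, nat_lit 11, nat_lit 0), (nat_lit 0, nat_lit 22, nat_lit 17), (nat_lit 0, nat_lit 0, nat_lit 23), (nat_lit 0, nat_lit 0, nat_lit 19), (nat_lit 0, nat_lit 0, nat_lit 16), (nat_lit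 0, nat_lit 0, nat_lit 21), (nat_lit 0, nat_lit 17, nat_lit 15), (nat_lit 0, nat_lit 0, nat_lit 1), (nat_lit 0, nat_lit 20, nat_lit 24), (nat_lit 0, nat_lit 0, nat_lit 21), (nat_lit 0, nat_lit 0, nat_lit 26), (nat_lit 0, nat_lit 0, nat_lit 23), (nat_lit 0, nat_lit 0, nat_lit 28), (nat_lit 0, nat_lit 0, nat_lit 25), (nat_lit 0, nat_lit 0, nat_lit 26), (nat_lit 0, nat_lit 25, nat_lit 0), (nat_lit 0, nat_lit 32, nat_lit 32), (nat_lit 0, nat_lit 0, nat_lit 29), (nat_lit 0, nat_lit 0, nat_lit 39), (nat_lit 0, nat_lit 0, nat_lit 35), (nat_lit 0, nat_lit 0, nat_lit 32), (nat_lit 0, nat_lit 0, nat_lit 33), (nat_lit 0, nat_lit 33, nat_lit 33), (nat_lit 0, nat_lit 0, nat_lit 1), (nat_lit 1, nat_lit 23, nat_lit 0), (nat_lit 1, nat_lit 17, nat_lit 0), (nat_lit 0, nat_lit 18, nat_lit 25), (nat_lit 0, nat_lit 0, nat_lit 19), (nat_lit 0, nat_lit 0, nat_lit 12), (nat_lit 0, nat_lit 0, nat_lit 13), (nat_lit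 0, nat_lit 0, nat_lit 29), (nat_lit 0, nat_lit 0, nat_lit 30), (nat_lit 0, nat_lit 0, nat_lit 8), (nat_lit 0, nat_lit 0, nat_lit 9), (nat_lit 0, nat_lit 8, nat_lit 0), (nat_lit 0, nat_lit 34, nat_lit 34), (nat_lit 0, nat_lit 0, nat_lit 12), (nat_lit 0, nat_lit 0, nat_lit 29), (nat_lit 0, nat_lit 0, nat_lit 37), (nat_lit 0, nat_lit 0, nat_lit 23), (nat_lit 0, nat_lit 0, nat_lit 16), (nat_lit 0, nat_lit 0, nat_lit 17), (nat_lit 0, nat_lit 0, nat_lit 41), (nat_lit 0, nat_lit 18, nat_lit 0), (nat_lit 1, nat_lit 9, nat_lit 0), (nat_lit 1, nat_lit 1, nat_lit 0), (nat_lit 0, nat_lit 11, nat_lit 2), (nat_lit 0, nat_lit 0, nat_lit 12), (nat_lit 0, nat_lit 0, nat_lit 13), (nat_lit 0, nat_lit 4, nat_lit 0), (nat_lit 0, nat_lit 6, nat_lit 6), (nat_lit 0, nat_lit 6, nat_lit 5), (nat_lit 0, nat_lit 0, nat_lit 6), (nat_lit 0, nat_lit 0, nat_lit 8), (nat_lit 0, nat_lit 3, nat_lit 19), (nat_lit 0, nat_lit 0,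 nat_lit 11), (nat_lit 0, nat_lit 0, nat_lit 12), (nat_lit 0, nat_lit 0, nat_lit 22), (nat_lit 0, nat_lit 0, nat_lit 14), (nat_lit 0, nat_lit 0, nat_lit 24), (nat_lit 0, nat_lit 0, nat_lit 25), (nat_lit 0, nat_lit 0, nat_lit 17), (nat_lit 0, nat_lit 0, nat_lit 18), (nat_lit 0, nat_lit 0, nat_lit 19), (nat_lit 0, nat_lit 10, nat_lit 0), (nat_lit 1, nat_lit 15, nat_lit 0), (nat_lit 1, nat_lit 1, nat_lit 0), (nat_lit 0, nat_lit 2, nat_lit 2), (nat_lit 0, nat_lit 0, nat_lit 18), (nat_lit 0, nat_lit 0, nat_lit 19), (nat_lit 0, nat_lit 0, nat_lit 20), (nat_lit 0, nat_lit 0, nat_lit 6), (nat_lit 0, nat_lit 0, nat_lit 7), (nat_lit 0, nat_lit 0, nat_lit 8), (nat_lit 0, nat_lit 8, nat_lit 7), (nat_lit 0, nat_lit 0, nat_lit 1)]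
def b_lev0 : Lev := ⟨nat_lit 0, [nat_lit 0xd7c688, nat_lit 0xf35688, nat_lit 0xdeb888, nat_lit 0xabbd08, nat_lit 0x47c7a8, nat_lit 0xa863dc], [(nat_lit 4, nat_lit 0xa863dc, nat_lit 0), (nat_lit 5, nat_lit 0xf35688, nat_lit 4), (nat_lit 3, nat_lit 0xdeb888, nat_lit 4), (nat_lit 6, nat_lit 0xa863dc, nat_lit 4), (nat_lit 7, nat_lit 0xd7c688, nat_lit 5), (nat_lit 1, nat_lit 0xa863dc, nat_lit 3), (nat_lit 2, nat_lit 0xabbd08, nat_lit 6)], nat_lit 0xff, nat_lit 0xa8439f1e274ec843dda863dca873a315cdca1e56b1fac688, nat_lit 0xbc39dc1570f5c439d53839d8b919d4f4a0fc65687fac688⟩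
def b_lev1 : Lev := ⟨nat_lit 1, [nat_lit 0xd7c688, nat_lit 0xf35688, nat_lit 0xdeb888, nat_lit 0xabbd08, nat_lit 0x47c7a8], [(nat_lit 5, nat_lit 0x47c7a8, nat_lit 1), (nat_lit 7, nat_lit 0xd7c688, nat_lit 5), (nat_lit 6, nat_lit 0xf35688, nat_lit 5), (nat_lit 2, nat_lit 0x47c7a8, nat_lit 7), (nat_lit 4, nat_lit 0xf35688, nat_lit 6), (nat_lit 3, nat_lit 0xdeb888, nat_lit 4)], nat_lit 0xfe, nat_lit 0x47477847d73047c7a847e760477958d4c7d0fac688000000, nat_lit 0x3547f0a627f0a8c7f0b117f09533f05f4668fac688000000⟩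
def b_lev2 : Lev := ⟨nat_lit 2, [nat_lit 0xd7c688, nat_lit 0xf35688, nat_lit 0xdeb888, nat_lit 0xabbd08], [(nat_lit 4, nat_lit 0xabbd08, nat_lit 2), (nat_lit 5, nat_lit 0xf35688, nat_lit 4), (nat_lit 3, nat_lit 0xdeb888, nat_lit 4), (nat_lit 7, nat_lit 0xd7c688, nat_lit 5), (nat_lit 6, nat_lit 0xf35688, nat_lit 5)], nat_lit 0xfc, nat_lit 0xab39c88bbb88cbb948abbd08ab4ec8fac688000000000000, nat_lit 0x57b988a9f988bd3988afa98877c588fac688000000000000⟩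
def b_lev3 : Lev := ⟨nat_lit 3, [nat_lit 0xd7c688, nat_lit 0xf35688, nat_lit 0xdeb888], [(nat_lit 4, nat_lit 0xdeb888, nat_lit 3), (nat_lit 5, nat_lit 0xf35688, nat_lit 4), (nat_lit 7, nat_lit 0xd7c688, nat_lit 5), (nat_lit 6, nat_lit 0xf35688, nat_lit 5)], nat_lit 0xf8, nat_lit 0x9abe88be3c889f3a88deb888fac688000000000000000000, nat_lit 0x7af888cfd888d5f888deb888fac688000000000000000000⟩
def b_lev4 : Lev := ⟨nat_lit 4, [nat_lit 0xd7c688, nat_lit 0xf35688], [(nat_lit 5, nat_lit 0xf35688, nat_lit 4), (nat_lit 7, nat_lit 0xd7c688, nat_lit 5), (nat_lit 6, nat_lit 0xf35688, nat_lit 5)], nat_lit 0xf0, nat_lit 0xd2f688f66688f35688fac688000000000000000000000000, nat_lit 0x9ee688f35688f66688fac688000000000000000000000000⟩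
def b_lev5 : Lev := ⟨nat_lit 5, [nat_lit 0xd7c688], [(nat_lit 7, nat_lit 0xd7c688, nat_lit 5), (nat_lit 6, nat_lit 0xd7c688, nat_lit 7)], nat_lit 0xe0, nat_lit 0xd7c688bf4688fac688000000000000000000000000000000, nat_lit 0xbf4688d7c688fac688000000000000000000000000000000⟩
def b_levels : List Lev := [b_lev0, b_lev1, b_lev2, b_lev3, b_lev4, b_lev5]

def d_T : List Nat := [nat_lit 0xda8e9fbc43071652, nat_lit 0xecf9d8ba45627031]
def d_prog : List (Nat × Nat × Nat) := [(nat_lit 1, nat_lit 1, nat_lit 0), (nat_lit 1, nat_lit 1, nat_lit 0), (nat_lit 0, nat_lit 3, nat_lit 3), (nat_lit 0, nat_lit 0, nat_lit 3), (nat_lit 0, nat_lit 0, nat_lit 4), (nat_lit 0, nat_lit 0, nat_lit 6), (nat_lit 0, nat_lit 0, nat_lit 7), (nat_lit 0, nat_lit 0, nat_lit 8), (nat_lit 0, nat_lit 0, nat_lit 9), (nat_lit 0, nat_lit 7, nat_lit 7), (nat_lit 0, nat_lit 0, nat_lit 8), (nat_lit 0, nat_lit 0, nat_lit 2), (nat_lit 0, nat_lit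 12, nat_lit 12), (nat_lit 0, nat_lit 0, nat_lit 14), (nat_lit 0, nat_lit 0, nat_lit 15), (nat_lit 0, nat_lit 0, nat_lit 15), (nat_lit 0, nat_lit 0, nat_lit 16), (nat_lit 0, nat_lit 0, nat_lit 18), (nat_lit 0, nat_lit 0, nat_lit 19), (nat_lit 0, nat_lit 0, nat_lit 19), (nat_lit 0, nat_lit 0, nat_lit 21), (nat_lit 0, nat_lit 0, nat_lit 22), (nat_lit 0, nat_lit 0, nat_lit 22), (nat_lit 0, nat_lit 21, nat_lit 22), (nat_lit 0, nat_lit 0, nat_lit 1), (nat_lit 1, nat_lit 13, nat_lit 0), (nat_lit 1, nat_lit 1, nat_lit 0), (nat_lit 0, nat_lit 2, nat_lit 15), (nat_lit 0, nat_lit 0, nat_lit 3), (nat_lit 0, nat_lit 0, nat_lit 4), (nat_lit 0, nat_lit 0, nat_lit 5), (nat_lit 0, nat_lit 0, nat_lit 19), (nat_lit 0, nat_lit 0, nat_lit 7), (nat_lit 0, nat_lit 5, nat_lit 21), (nat_lit 0, nat_lit 0, nat_lit 22), (nat_lit 0, nat_lit 0, nat_lit 10), (nat_lit 0, nat_lit 0, nat_lit 11), (nat_lit 0, nat_lit 0, nat_lit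 25), (nat_lit 0, nat_lit 0, nat_lit 13), (nat_lit 0, nat_lit 0, nat_lit 27), (nat_lit 0, nat_lit 0, nat_lit 15), (nat_lit 0, nat_lit 0, nat_lit 16), (nat_lit 0, nat_lit 0, nat_lit 30), (nat_lit 0, nat_lit 17, nat_lit 16), (nat_lit 0, nat_lit 0, nat_lit 1), (nat_lit 1, nat_lit 12, nat_lit 0), (nat_lit 1, nat_lit 1, nat_lit 0), (nat_lit 0, nat_lit 2, nat_lit 2), (nat_lit 0, nat_lit 0, nat_lit 3), (nat_lit 0, nat_lit 0, nat_lit 4), (nat_lit 0, nat_lit 0, nat_lit 17), (nat_lit 0, nat_lit 0, nat_lit 18), (nat_lit 0, nat_lit 0, nat_lit 7), (nat_lit 0, nat_lit 0, nat_lit 8), (nat_lit 0, nat_lit 0, nat_lit 21), (nat_lit 0, nat_lit 0, nat_lit 22), (nat_lit 0, nat_lit 10, nat_lit 9), (nat_lit 0, nat_lit 0, nat_lit 11), (nat_lit 0, nat_lit 0, nat_lit 2), (nat_lit 0, nat_lit 26, nat_lit 14), (nat_lit 0, nat_lit 0, nat_lit 15), (nat_lit 0, nat_lit 0, nat_lit 16), (nat_lit 0, nat_lit 0, nat_lit 29), (nat_lit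 0, nat_lit 0, nat_lit 30), (nat_lit 0, nat_lit 0, nat_lit 31), (nat_lit 0, nat_lit 0, nat_lit 20), (nat_lit 0, nat_lit 0, nat_lit 33), (nat_lit 0, nat_lit 0, nat_lit 22), (nat_lit 0, nat_lit 0, nat_lit 23), (nat_lit 0, nat_lit 22, nat_lit 22), (nat_lit 0, nat_lit 0, nat_lit 1), (nat_lit 1, nat_lit 12, nat_lit 0), (nat_lit 1, nat_lit 1, nat_lit 0), (nat_lit 0, nat_lit 14, nat_lit 2), (nat_lit 0, nat_lit 0, nat_lit 3), (nat_lit 0, nat_lit 0, nat_lit 16), (nat_lit 0, nat_lit 0, nat_lit 5), (nat_lit 0, nat_lit 0, nat_lit 18), (nat_lit 0, nat_lit 0, nat_lit 19), (nat_lit 0, nat_lit 0, nat_lit 20), (nat_lit 0, nat_lit 0, nat_lit 9), (nat_lit 0, nat_lit 9, nat_lit 8), (nat_lit 0, nat_lit 0, nat_lit 1), (nat_lit 0, nat_lit 9, nat_lit 24), (nat_lit 0, nat_lit 0, nat_lit 13), (nat_lit 0, nat_lit 0, nat_lit 14), (nat_lit 0, nat_lit 14, nat_lit 0), (nat_lit 1, nat_lit 0, nat_lit 0), (nat_lit 0, nat_lit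 5, nat_lit 1), (nat_lit 0, nat_lit 0, nat_lit 6), (nat_lit 0, nat_lit 0, nat_lit 3), (nat_lit 0, nat_lit 3, nat_lit 0)]
def d_lev0 : Lev := ⟨nat_lit 0, [nat_lit 0xfedcb8a957643210, nat_lit 0xfedc89ab54763210, nat_lit 0xfed89cab54376210, nat_lit 0xfecd98ab54672310, nat_lit 0xfbc9aed826157340, nat_lit 0xda8e9fbc43071652], [(nat_lit 2, nat_lit 0xda8e9fbc43071652, nat_lit 0), (nat_lit 3, nat_lit 0xfecd98ab54672310, nat_lit 2), (nat_lit 6, nat_lit 0xda8e9fbc43071652, nat_lit 2), (nat_lit 7, nat_lit 0xfbc9aed826157340, nat_lit 3), (nat_lit 1, nat_lit 0xda8e9fbc43071652, nat_lit 3), (nat_lit 4, nat_lit 0xfedc89ab54763210, nat_lit 6), (nat_lit 5, nat_lit 0xfedcb8a957643210, nat_lit 7)], nat_lit 0xff, nat_lit 0x98abefdc230145678fcabd9e71245306a98befdc23014675bfc98dae51267304c8beaf9d72051463da8e9fbc43071652ec9afdb846205731fedcba9876543210, nat_lit 0xab98cdfe01236745e8adbc9f70342561ab98cfed12036745e8adf9cb34702561ac8fdb9e71420635acf89ebd42176035bfae9cd826371504fedcba9876543210⟩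
def d_lev1 : Lev := ⟨nat_lit 1, [nat_lit 0xfedcb8a957643210, nat_lit 0xfedc89ab54763210, nat_lit 0xfed89cab54376210, nat_lit 0xfecd98ab54672310, nat_lit 0xfbc9aed826157340], [(nat_lit 4, nat_lit 0xfbc9aed826157340, nat_lit 1), (nat_lit 6, nat_lit 0xfedc89ab54763210, nat_lit 4), (nat_lit 7, nat_lit 0xfed89cab54376210, nat_lit 4), (nat_lit 5, nat_lit 0xfbc9aed826157340, nat_lit 4), (nat_lit 2, nat_lit 0xfbc9aed826157340, nat_lit 7), (nat_lit 3, nat_lit 0xfed89cab54376210, nat_lit 5)], nat_lit 0xfe, nat_lit 0xf98acedb24135670f8ca9edb24175360fa9debc836412750fbc9aed826157340fcade98b64712530fd8e9bca35471620fedcba98765432100000000000000000, nat_lit 0xfa9b8ced12364750fa9d8cbe41362750fbc9aed826157340fa9debc836412750fbce8da957261340fce9a8bd42657130fedcba98765432100000000000000000⟩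
def d_lev2 : Lev := ⟨nat_lit 2, [nat_lit 0xfedcb8a957643210, nat_lit 0xfedc89ab54763210, nat_lit 0xfed89cab54376210, nat_lit 0xfecd98ab54672310], [(nat_lit 3, nat_lit 0xfecd98ab54672310, nat_lit 2), (nat_lit 6, nat_lit 0xfed89cab54376210, nat_lit 3), (nat_lit 7, nat_lit 0xfedcb8a957643210, nat_lit 6), (nat_lit 4, nat_lit 0xfedc89ab54763210, nat_lit 6), (nat_lit 5, nat_lit 0xfedcb8a957643210, nat_lit 7)], nat_lit 0xfc, nat_lit 0xfe9d8bca35462710fe8dabc937452610fead9bc836472510febd98ca35672410fecd98ab54672310fedcba987654321000000000000000000000000000000000, nat_lit 0xfec9a8db24657310fec9ab8d62457310fec9adb846257310fec9d8ba45627310fecd89ba45762310fedcba987654321000000000000000000000000000000000⟩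
def d_lev3 : Lev := ⟨nat_lit 3, [nat_lit 0xfedcb8a957643210, nat_lit 0xfedc89ab54763210, nat_lit 0xfed89cab54376210], [(nat_lit 6, nat_lit 0xfed89cab54376210, nat_lit 3), (nat_lit 7, nat_lit 0xfedcb8a957643210, nat_lit 6), (nat_lit 4, nat_lit 0xfedc89ab54763210, nat_lit 6), (nat_lit 5, nat_lit 0xfedcb8a957643210, nat_lit 7)], nat_lit 0xf8, nat_lit 0xfed9ac8b64357210fed89cab54376210feda8c9b74365210fedbac9876354210fedcba9876543210000000000000000000000000000000000000000000000000, nat_lit 0xfeda8bc937465210feda89bc43765210feda8c9b74365210fedacb9876435210fedcba9876543210000000000000000000000000000000000000000000000000⟩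
def d_lev4 : Lev := ⟨nat_lit 4, [nat_lit 0xfedcb8a957643210, nat_lit 0xfedc89ab54763210], [(nat_lit 6, nat_lit 0xfedc89ab54763210, nat_lit 4), (nat_lit 7, nat_lit 0xfedcb8a957643210, nat_lit 6), (nat_lit 5, nat_lit 0xfedcb8a957643210, nat_lit 7)], nat_lit 0xf0, nat_lit 0xfedc9a8b64573210fedc89ab54763210fedca89b74653210fedcba98765432100000000000000000000000000000000000000000000000000000000000000000, nat_lit 0xfedc8ab947563210fedc89ab54763210fedc8b9a75463210fedcba98765432100000000000000000000000000000000000000000000000000000000000000000⟩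
def d_lev5 : Lev := ⟨nat_lit 5, [nat_lit 0xfedcb8a957643210], [(nat_lit 6, nat_lit 0xfedcb8a957643210, nat_lit 5), (nat_lit 7, nat_lit 0xfedcb8a957643210, nat_lit 6)], nat_lit 0xe0, nat_lit 0xfedcb98a65743210fedcb8a957643210fedcba987654321000000000000000000000000000000000000000000000000000000000000000000000000000000000, nat_lit 0xfedcb8a957643210fedcb98a65743210fedcba987654321000000000000000000000000000000000000000000000000000000000000000000000000000000000⟩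
def d_levels : List Lev := [d_lev0, d_lev1, d_lev2, d_lev3, d_lev4, d_lev5]

def Ds : List (Nat × Nat × Nat) := [(nat_lit 0x8c73aa, nat_lit 0xa863dc, nat_lit 0xda8e9fbc43071652), (nat_lit 0x972e19, nat_lit 0xd39a1a, nat_lit 0xecf9d8ba45627031)]
theorem hid2 : ∀ i < 8, app 3 7 0xfac688 i = i := by decide +kernel

theorem diag : allL (diagOK 4 15 8 3 7 0xfac688) Ds = true := by decide +kernel

theorem check2 : checkAll 8 3 7 24 0xffffff 0xfac688 (Ds.map (·.2.1)) b_prog b_levels = true := by decide +kernel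

theorem check3 : checkAll (8 + 8) 4 15 64 0xffffffffffffffff 0xfedcba9876543210 (Ds.map (·.2.2)) d_prog d_levels = true := by decide +kernel

theorem check1 : checkAll 8 3 7 24 0xffffff idc8 (Ds.map (·.1)) prog levels = true := by decide +kernel

theorem o1 : orderC d_levels = orderC levels := by decide +kernel

theorem o2 : orderC d_levels = orderC b_levels := by decide +kernel

theorem o3 : orderC b_levels * 2 = Nat.factorial 8 := by decide +kernel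

theorem self : Excl (HH T) → Target (HH T) := fun _ =>
  target_alt (k := 8) (by norm_num) (by norm_num) (by decide +kernel) hm8 hid2 diag check1 check2 check3 o1 o2 o3

theorem concl : Concl Amb.gA T := by
  refine concl_of_step valid check stepc (by decide +kernel) self ?_
  intro t ht

  simp [targets] at ht

end Cfsg.Agent.Lib.OverLat.A8.N00
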