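import Cfsg.Agent.Lib.OverLat.A8.Common
import Cfsg.Agent.Lib.OverLat.A8.Amb
import Cfsg.Agent.Lib.OverLat.A8.N00

set_option autoImplicit false
set_option linter.unusedSectionVars false
set_option maxRecDepth 1000000

namespace Cfsg.Agent.Lib.OverLat.A8.N01

open Cfsg.Agent.Lib.PermComp.Core Cfsg.Agent.Lib.OverLat.Core Cfsg.Agent.Lib.OverLat.Basic Cfsg.Agent.Lib.OverLat.A8.Common

def T : List Nat := [nat_lit 0xe25c53, nat_lit 0xf5ac0c]
def prog : List (Nat × Nat × Nat) := [(nat_lit 1, nat_lit 1, nat_lit 0), (nat_lit 1, nat_lit 1, nat_lit 0), (nat_lit 0, nat_lit 2, nat_lit 2), (nat_lit 0, nat_lit 0, nat_lit 4), (nat_lit 0, nat_lit 0, nat_lit 5), (nat_lit 0, nat_lit 0, nat_lit 6), (nat_lit 0, nat_lit 0, nat_lit 6), (nat_lit 0, nat_lit 6, nat_lit 6), (nat_lit 0, nat_lit 0, nat_lit 1), (nat_lit 0, nat_lit 10, nat_lit 10), (nat_lit 0, nat_lit 0, nat_lit 11), (nat_lit 0, nat_lit 0, nat_lit 12), (nat_lit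 0, nat_lit 0, nat_lit 12), (nat_lit 0, nat_lit 0, nat_lit 13), (nat_lit 0, nat_lit 0, nat_lit 15), (nat_lit 0, nat_lit 0, nat_lit 16), (nat_lit 0, nat_lit 0, nat_lit 17), (nat_lit 0, nat_lit 0, nat_lit 17), (nat_lit 0, nat_lit 0, nat_lit 19), (nat_lit 0, nat_lit 0, nat_lit 20), (nat_lit 0, nat_lit 19, nat_lit 0), (nat_lit 0, nat_lit 22, nat_lit 21), (nat_lit 0, nat_lit 0, nat_lit 23), (nat_lit 0, nat_lit 0, nat_lit 24), (nat_lit 0, nat_lit 22, nat_lit 0), (nat_lit 1, nat_lit 16, nat_lit 0), (nat_lit 1, nat_lit 5, nat_lit 0), (nat_lit 1, nat_lit 2, nat_lit 0), (nat_lit 0, nat_lit 19, nat_lit 19), (nat_lit 0, nat_lit 0, nat_lit 8), (nat_lit 0, nat_lit 0, nat_lit 9), (nat_lit 0, nat_lit 0, nat_lit 22), (nat_lit 0, nat_lit 0, nat_lit 7), (nat_lit 0, nat_lit 0, nat_lit 24), (nat_lit 0, nat_lit 0, nat_lit 9), (nat_lit 0, nat_lit 0, nat_lit 14), (nat_lit 0, nat_lit 0, nat_lit 11), (nat_lit 0, nat_lit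 0, nat_lit 12), (nat_lit 0, nat_lit 0, nat_lit 29), (nat_lit 0, nat_lit 12, nat_lit 11), (nat_lit 0, nat_lit 0, nat_lit 14), (nat_lit 0, nat_lit 0, nat_lit 2), (nat_lit 0, nat_lit 33, nat_lit 21), (nat_lit 0, nat_lit 0, nat_lit 34), (nat_lit 0, nat_lit 0, nat_lit 19), (nat_lit 0, nat_lit 0, nat_lit 20), (nat_lit 0, nat_lit 0, nat_lit 37), (nat_lit 0, nat_lit 0, nat_lit 22), (nat_lit 0, nat_lit 22, nat_lit 21), (nat_lit 0, nat_lit 0, nat_lit 1), (nat_lit 0, nat_lit 7, nat_lit 25), (nat_lit 0, nat_lit 0, nat_lit 26), (nat_lit 0, nat_lit 0, nat_lit 31), (nat_lit 0, nat_lit 0, nat_lit 32), (nat_lit 0, nat_lit 0, nat_lit 33), (nat_lit 0, nat_lit 15, nat_lit 0), (nat_lit 1, nat_lit 14, nat_lit 0), (nat_lit 1, nat_lit 7, nat_lit 0), (nat_lit 0, nat_lit 2, nat_lit 8), (nat_lit 0, nat_lit 0, nat_lit 9), (nat_lit 0, nat_lit 0, nat_lit 18), (nat_lit 0, nat_lit 0, nat_lit 19), (nat_lit 0, nat_lit 0, nat_lit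 6), (nat_lit 0, nat_lit 0, nat_lit 21), (nat_lit 0, nat_lit 0, nat_lit 22), (nat_lit 0, nat_lit 0, nat_lit 9), (nat_lit 0, nat_lit 0, nat_lit 16), (nat_lit 0, nat_lit 0, nat_lit 11), (nat_lit 0, nat_lit 18, nat_lit 12), (nat_lit 0, nat_lit 0, nat_lit 19), (nat_lit 0, nat_lit 0, nat_lit 20), (nat_lit 0, nat_lit 0, nat_lit 15), (nat_lit 0, nat_lit 0, nat_lit 30), (nat_lit 0, nat_lit 0, nat_lit 31), (nat_lit 0, nat_lit 0, nat_lit 18), (nat_lit 0, nat_lit 0, nat_lit 25), (nat_lit 0, nat_lit 19, nat_lit 18), (nat_lit 0, nat_lit 0, nat_lit 20), (nat_lit 0, nat_lit 0, nat_lit 2), (nat_lit 1, nat_lit 11, nat_lit 0), (nat_lit 0, nat_lit 12, nat_lit 12), (nat_lit 0, nat_lit 0, nat_lit 2), (nat_lit 0, nat_lit 0, nat_lit 3), (nat_lit 0, nat_lit 0, nat_lit 15), (nat_lit 0, nat_lit 0, nat_lit 16), (nat_lit 0, nat_lit 0, nat_lit 6), (nat_lit 0, nat_lit 0, nat_lit 7), (nat_lit 0, nat_lit 0, nat_lit 8), (nat_lit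 0, nat_lit 8, nat_lit 0)]
def lev0 : Lev := ⟨nat_lit 0, [nat_lit 0xf66688, nat_lit 0xfa3a88, nat_lit 0xf744c8, nat_lit 0xee9ca0, nat_lit 0xe25c53], [(nat_lit 3, nat_lit 0xe25c53, nat_lit 0), (nat_lit 5, nat_lit 0xfa3a88, nat_lit 3), (nat_lit 2, nat_lit 0xf744c8, nat_lit 3), (nat_lit 6, nat_lit 0xee9ca0, nat_lit 3), (nat_lit 4, nat_lit 0xf66688, nat_lit 5), (nat_lit 1, nat_lit 0xe25c53, nat_lit 2)], nat_lit 0x7f, nat_lit 0xe0d716e1cc55e1ea54e25c53e26a5aee88b1fac688, nat_lit 0xe2266eec4a56f18a56ee5056f1d216e6bc84fac688⟩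
def lev1 : Lev := ⟨nat_lit 1, [nat_lit 0xf66688, nat_lit 0xfa3a88, nat_lit 0xf744c8, nat_lit 0xee9ca0], [(nat_lit 4, nat_lit 0xee9ca0, nat_lit 1), (nat_lit 6, nat_lit 0xf66688, nat_lit 4), (nat_lit 3, nat_lit 0xfa3a88, nat_lit 4), (nat_lit 5, nat_lit 0xf66688, nat_lit 6), (nat_lit 2, nat_lit 0xf744c8, nat_lit 3)], nat_lit 0x7e, nat_lit 0xee1ab0ef18a8ee9ca0f61c98fa1ad0fac688000000, nat_lit 0xe5dca0f4bca0ee9ca0ef52a0f9d460fac688000000⟩
def lev2 : Lev := ⟨nat_lit 2, [nat_lit 0xf66688, nat_lit 0xfa3a88, nat_lit 0xf744c8], [(nat_lit 3, nat_lit 0xf744c8, nat_lit 2), (nat_lit 5, nat_lit 0xfa3a88, nat_lit 3), (nat_lit 4, nat_lit 0xf66688, nat_lit 5), (nat_lit 6, nat_lit 0xf744c8, nat_lit 5)], nat_lit 0x7c, nat_lit 0xf2a788f33548fab508f744c8fac688000000000000, nat_lit 0xeae708f568c8faa8c8f744c8fac688000000000000⟩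
def lev3 : Lev := ⟨nat_lit 3, [nat_lit 0xf66688, nat_lit 0xfa3a88], [(nat_lit 5, nat_lit 0xfa3a88, nat_lit 3), (nat_lit 4, nat_lit 0xf66688, nat_lit 5), (nat_lit 6, nat_lit 0xf66688, nat_lit 4)], nat_lit 0x78, nat_lit 0xf2bc88fa3a88f73888fac688000000000000000000, nat_lit 0xeee888f9d888f73888fac688000000000000000000⟩
def lev4 : Lev := ⟨nat_lit 4, [nat_lit 0xf66688], [(nat_lit 6, nat_lit 0xf66688, nat_lit 4), (nat_lit 5, nat_lit 0xf66688, nat_lit 6)], nat_lit 0x70, nat_lit 0xf66688f35688fac688000000000000000000000000, nat_lit 0xf35688f66688fac688000000000000000000000000⟩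
def levels : List Lev := [lev0, lev1, lev2, lev3, lev4]

theorem valid : allL (validC 8 3 7 idc8) T = true := by decide +kernel

theorem check : checkAll 8 3 7 24 0xffffff idc8 T prog levels = true := by decide +kernel

def targets : List (List Nat) := [N00.T]
def cert : StepCert where
  N := nat_lit 8
  b := nat_lit 3
  bm := nat_lit 7
  U := nat_lit 0x1d66653ee898de10d55e3a467eac0c9c5c53bf4688fac688
  V := nat_lit 0xd01757d2b2b8dc5463c1d9d1ce8f0ace7055d7c688fac688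
  tabsA := [(nat_lit 0x8c73aa, nat_lit 0x85dc3a), (nat_lit 0x972e19, nat_lit 0xccf12a)]
  tabsL := [(nat_lit 0xe25c53, nat_lit 0x73ea50), (nat_lit 0xf5ac0c, nat_lit 0x58fb18)]
  rt := nat_lit 0x249248
  par := nat_lit 0x91a240
  gi := nat_lit 0x201200
  rootMask := nat_lit 0x2
  roots := [(nat_lit 1, nat_lit 0, [nat_lit 0x132d3293, nat_lit 0x29a691])]

theorem stepc : stepCheck 8 3 7 24 0xffffff idc8 levels targets T cert = true := by decide +kernel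

def b_T : List Nat := [nat_lit 0x25c53, nat_lit 0x6e423]
def b_prog : List (Nat × Nat × Nat) := [(nat_lit 1, nat_lit 1, nat_lit 0), (nat_lit 1, nat_lit 1, nat_lit 0), (nat_lit 0, nat_lit 3, nat_lit 3), (nat_lit 0, nat_lit 0, nat_lit 3), (nat_lit 0, nat_lit 0, nat_lit 4), (nat_lit 0, nat_lit 0, nat_lit 6), (nat_lit 0, nat_lit 0, nat_lit 7), (nat_lit 0, nat_lit 0, nat_lit 7), (nat_lit 0, nat_lit 0, nat_lit 8), (nat_lit 0, nat_lit 0, nat_lit 10), (nat_lit 0, nat_lit 0, nat_lit 11), (nat_lit 0, nat_lit 0, nat_lit 11), (nat_lit 0, nat_lit 0, nat_lit 12), (nat_lit 0, nat_lit 12, nat_lit 11), (nat_lit 0, nat_lit 0, nat_lit 1), (nat_lit 0, nat_lit 15, nat_lit 16), (nat_lit 0, nat_lit 0, nat_lit 17), (nat_lit 0, nat_lit 0, nat_lit 17), (nat_lit 0, nat_lit 0, nat_lit 19), (nat_lit 0, nat_lit 0, nat_lit 20), (nat_lit 0, nat_lit 19, nat_lit 19), (nat_lit 0, nat_lit 0, nat_lit 19), (nat_lit 0, nat_lit 0, nat_lit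 20), (nat_lit 0, nat_lit 0, nat_lit 3), (nat_lit 0, nat_lit 25, nat_lit 24), (nat_lit 0, nat_lit 0, nat_lit 26), (nat_lit 0, nat_lit 0, nat_lit 26), (nat_lit 0, nat_lit 13, nat_lit 0), (nat_lit 0, nat_lit 28, nat_lit 28), (nat_lit 0, nat_lit 0, nat_lit 29), (nat_lit 0, nat_lit 0, nat_lit 30), (nat_lit 0, nat_lit 0, nat_lit 32), (nat_lit 0, nat_lit 0, nat_lit 32), (nat_lit 0, nat_lit 0, nat_lit 34), (nat_lit 0, nat_lit 0, nat_lit 35), (nat_lit 0, nat_lit 0, nat_lit 36), (nat_lit 0, nat_lit 0, nat_lit 36), (nat_lit 0, nat_lit 14, nat_lit 0), (nat_lit 1, nat_lit 23, nat_lit 0), (nat_lit 1, nat_lit 11, nat_lit 0), (nat_lit 0, nat_lit 16, nat_lit 2), (nat_lit 0, nat_lit 0, nat_lit 13), (nat_lit 0, nat_lit 0, nat_lit 4), (nat_lit 0, nat_lit 0, nat_lit 5), (nat_lit 0, nat_lit 0, nat_lit 16), (nat_lit 0, nat_lit 0, nat_lit 7), (nat_lit 0, nat_lit 0, nat_lit 22), (nat_lit 0, nat_lit 8, nat_lit 0), (nat_lit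 0, nat_lit 20, nat_lit 20), (nat_lit 0, nat_lit 0, nat_lit 25), (nat_lit 0, nat_lit 0, nat_lit 22), (nat_lit 0, nat_lit 36, nat_lit 23), (nat_lit 0, nat_lit 0, nat_lit 24), (nat_lit 0, nat_lit 0, nat_lit 38), (nat_lit 0, nat_lit 0, nat_lit 39), (nat_lit 0, nat_lit 0, nat_lit 17), (nat_lit 0, nat_lit 0, nat_lit 18), (nat_lit 0, nat_lit 18, nat_lit 17), (nat_lit 0, nat_lit 0, nat_lit 1), (nat_lit 1, nat_lit 11, nat_lit 0), (nat_lit 1, nat_lit 1, nat_lit 0), (nat_lit 0, nat_lit 13, nat_lit 13), (nat_lit 0, nat_lit 0, nat_lit 11), (nat_lit 0, nat_lit 0, nat_lit 15), (nat_lit 0, nat_lit 0, nat_lit 16), (nat_lit 0, nat_lit 0, nat_lit 14), (nat_lit 0, nat_lit 0, nat_lit 15), (nat_lit 0, nat_lit 0, nat_lit 16), (nat_lit 0, nat_lit 0, nat_lit 20), (nat_lit 0, nat_lit 9, nat_lit 8), (nat_lit 0, nat_lit 0, nat_lit 1), (nat_lit 0, nat_lit 23, nat_lit 20), (nat_lit 0, nat_lit 0, nat_lit 13), (nat_lit 0, nat_lit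 0, nat_lit 14), (nat_lit 1, nat_lit 3, nat_lit 0), (nat_lit 0, nat_lit 1, nat_lit 1), (nat_lit 0, nat_lit 0, nat_lit 5), (nat_lit 0, nat_lit 0, nat_lit 6), (nat_lit 0, nat_lit 0, nat_lit 4), (nat_lit 0, nat_lit 0, nat_lit 8), (nat_lit 0, nat_lit 0, nat_lit 9), (nat_lit 0, nat_lit 0, nat_lit 10), (nat_lit 0, nat_lit 0, nat_lit 11), (nat_lit 0, nat_lit 0, nat_lit 12), (nat_lit 0, nat_lit 0, nat_lit 10), (nat_lit 0, nat_lit 0, nat_lit 11), (nat_lit 0, nat_lit 11, nat_lit 0)]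
def b_lev0 : Lev := ⟨nat_lit 0, [nat_lit 0x166688, nat_lit 0xa5788, nat_lit 0x1a3a88, nat_lit 0x1a5650, nat_lit 0x25c53], [(nat_lit 3, nat_lit 0x25c53, nat_lit 0), (nat_lit 5, nat_lit 0x1a3a88, nat_lit 3), (nat_lit 6, nat_lit 0x25c53, nat_lit 3), (nat_lit 4, nat_lit 0x166688, nat_lit 5), (nat_lit 2, nat_lit 0xa5788, nat_lit 6), (nat_lit 1, nat_lit 0x1a5650, nat_lit 2)], nat_lit 0x7f, nat_lit 0x3b0238398aa1ea5412e29b94629d8323ac688, nat_lit 0xb322d894ad18a567282b29702d59887ac688⟩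
def b_lev1 : Lev := ⟨nat_lit 1, [nat_lit 0x166688, nat_lit 0xa5788, nat_lit 0x1a3a88, nat_lit 0x1a5650], [(nat_lit 2, nat_lit 0x1a5650, nat_lit 1), (nat_lit 6, nat_lit 0xa5788, nat_lit 2), (nat_lit 5, nat_lit 0x166688, nat_lit 6), (nat_lit 4, nat_lit 0x166688, nat_lit 5), (nat_lit 3, nat_lit 0x1a3a88, nat_lit 4)], nat_lit 0x7e, nat_lit 0x2b19c14ccd0b56605a52c69594358d1000000, nat_lit 0x1b1e421af2161790ae1c869594358d1000000⟩
def b_lev2 : Lev := ⟨nat_lit 3, [nat_lit 0x166688, nat_lit 0xa5788, nat_lit 0x1a3a88], [(nat_lit 5, nat_lit 0x1a3a88, nat_lit 3), (nat_lit 4, nat_lit 0x166688, nat_lit 5), (nat_lit 6, nat_lit 0x166688, nat_lit 4), (nat_lit 2, nat_lit 0xa5788, nat_lit 6)], nat_lit 0x7c, nat_lit 0x4af2234751173888d634458d6200000000000, nat_lit 0x3ba2233b11173888d63442d63200000000000⟩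
def b_lev3 : Lev := ⟨nat_lit 2, [nat_lit 0x166688, nat_lit 0xa5788], [(nat_lit 6, nat_lit 0xa5788, nat_lit 2), (nat_lit 5, nat_lit 0x166688, nat_lit 6), (nat_lit 4, nat_lit 0x166688, nat_lit 5)], nat_lit 0x74, nat_lit 0x295e2168e90ae708000006b1a200000000000, nat_lit 0x295e22a8f112a788000006b1a200000000000⟩
def b_lev4 : Lev := ⟨nat_lit 4, [nat_lit 0x166688], [(nat_lit 6, nat_lit 0x166688, nat_lit 4), (nat_lit 5, nat_lit 0x166688, nat_lit 6)], nat_lit 0x70, nat_lit 0x599a226ad11ac688000000000000000000000, nat_lit 0x4d5a22ccd11ac688000000000000000000000⟩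
def b_levels : List Lev := [b_lev0, b_lev1, b_lev2, b_lev3, b_lev4]

def d_T : List Nat := [nat_lit 0x8cde9ab70456123, nat_lit 0x9dea8cb75326014]
def d_prog : List (Nat × Nat × Nat) := [(nat_lit 1, nat_lit 1, nat_lit 0), (nat_lit 1, nat_lit 1, nat_lit 0), (nat_lit 0, nat_lit 3, nat_lit 3), (nat_lit 0, nat_lit 0, nat_lit 3), (nat_lit 0, nat_lit 0, nat_lit 4), (nat_lit 0, nat_lit 0, nat_lit 6), (nat_lit 0, nat_lit 0, nat_lit 7), (nat_lit 0, nat_lit 0, nat_lit 8), (nat_lit 0, nat_lit 0, nat_lit 9), (nat_lit 0, nat_lit 7, nat_lit 8), (nat_lit 0, nat_lit 0, nat_lit 1), (nat_lit 0, nat_lit 11, nat_lit 11), (nat_lit 0, nat_lit 0, nat_lit 13), (nat_lit 0, nat_lit 0, nat_lit 14), (nat_lit 0, nat_lit 0, nat_lit 14), (nat_lit 0, nat_lit 0, nat_lit 15), (nat_lit 0, nat_lit 0, nat_lit 17), (nat_lit 0, nat_lit 0, nat_lit 18), (nat_lit 0, nat_lit 0, nat_lit 18), (nat_lit 0, nat_lit 0, nat_lit 20), (nat_lit 0,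 nat_lit 0, nat_lit 21), (nat_lit 0, nat_lit 0, nat_lit 21), (nat_lit 1, nat_lit 11, nat_lit 0), (nat_lit 1, nat_lit 1, nat_lit 0), (nat_lit 0, nat_lit 2, nat_lit 13), (nat_lit 0, nat_lit 0, nat_lit 3), (nat_lit 0, nat_lit 0, nat_lit 4), (nat_lit 0, nat_lit 0, nat_lit 5), (nat_lit 0, nat_lit 0, nat_lit 17), (nat_lit 0, nat_lit 0, nat_lit 7), (nat_lit 0, nat_lit 7, nat_lit 6), (nat_lit 0, nat_lit 0, nat_lit 8), (nat_lit 0, nat_lit 0, nat_lit 2), (nat_lit 0, nat_lit 8, nat_lit 22), (nat_lit 0, nat_lit 0, nat_lit 23), (nat_lit 0, nat_lit 0, nat_lit 13), (nat_lit 0, nat_lit 0, nat_lit 14), (nat_lit 0, nat_lit 0, nat_lit 26), (nat_lit 0, nat_lit 0, nat_lit 16), (nat_lit 0, nat_lit 0, nat_lit 28), (nat_lit 0, nat_lit 0, nat_lit 18), (nat_lit 0, nat_lit 0, nat_lit 19), (nat_lit 0, nat_lit 0, nat_lit 31), (nat_lit 0, nat_lit 11, nat_lit 0), (nat_lit 1, nat_lit 0, nat_lit 0), (nat_lit 0, nat_lit 1, nat_lit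 1), (nat_lit 0, nat_lit 0, nat_lit 2), (nat_lit 0, nat_lit 0, nat_lit 3), (nat_lit 0, nat_lit 0, nat_lit 15), (nat_lit 0, nat_lit 0, nat_lit 16), (nat_lit 0, nat_lit 0, nat_lit 6), (nat_lit 0, nat_lit 0, nat_lit 7), (nat_lit 0, nat_lit 0, nat_lit 19), (nat_lit 0, nat_lit 0, nat_lit 20), (nat_lit 0, nat_lit 9, nat_lit 0), (nat_lit 0, nat_lit 22, nat_lit 11), (nat_lit 0, nat_lit 0, nat_lit 12), (nat_lit 0, nat_lit 0, nat_lit 13), (nat_lit 0, nat_lit 0, nat_lit 25), (nat_lit 0, nat_lit 0, nat_lit 26), (nat_lit 0, nat_lit 0, nat_lit 27), (nat_lit 0, nat_lit 0, nat_lit 17), (nat_lit 0, nat_lit 0, nat_lit 29), (nat_lit 0, nat_lit 0, nat_lit 19), (nat_lit 0, nat_lit 0, nat_lit 20), (nat_lit 1, nat_lit 10, nat_lit 0), (nat_lit 0, nat_lit 11, nat_lit 1), (nat_lit 0, nat_lit 0, nat_lit 12), (nat_lit 0, nat_lit 0, nat_lit 3), (nat_lit 0, nat_lit 0, nat_lit 4), (nat_lit 0, nat_lit 4, nat_lit 0)]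
def d_lev0 : Lev := ⟨nat_lit 0, [nat_lit 0xedca89b75346210, nat_lit 0xedc9ba874653210, nat_lit 0xed89bca74625310, nat_lit 0xe9bdca871253640, nat_lit 0x8cde9ab70456123], [(nat_lit 3, nat_lit 0x8cde9ab70456123, nat_lit 0), (nat_lit 6, nat_lit 0xedca89b75346210, nat_lit 3), (nat_lit 5, nat_lit 0xed89bca74625310, nat_lit 3), (nat_lit 4, nat_lit 0xedc9ba874653210, nat_lit 6), (nat_lit 1, nat_lit 0xe9bdca871253640, nat_lit 6), (nat_lit 2, nat_lit 0xe9bdca871253640, nat_lit 5)], nat_lit 0x7f, nat_lit 0xbcde98a70435126a8decb9702641359cdea8b705361248cde9ab70456123c89ebda70615432db9ea8c70532461edcba9876543210, nat_lit 0xbcde8a970354126bca9e8d74031526bcd8ae973504126bcd89ae73450126b9ea8cd75321046be8dac971524306edcba9876543210⟩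
def d_lev1 : Lev := ⟨nat_lit 1, [nat_lit 0xedca89b75346210, nat_lit 0xedc9ba874653210, nat_lit 0xed89bca74625310, nat_lit 0xe9bdca871253640], [(nat_lit 4, nat_lit 0xe9bdca871253640, nat_lit 1), (nat_lit 5, nat_lit 0xedc9ba874653210, nat_lit 4), (nat_lit 2, nat_lit 0xed89bca74625310, nat_lit 4), (nat_lit 3, nat_lit 0xedca89b75346210, nat_lit 5), (nat_lit 6, nat_lit 0xedc9ba874653210, nat_lit 5)], nat_lit 0x7e, nat_lit 0xebadc9871243560ea9dcb871263450e9bdca871253640e89dcab71256430ec9d8ba71365420edcba9876543210000000000000000, nat_lit 0xebadc9871243560eba9dc874123560ebac9d872413560eba89cd73421560ebd98ca74325160edcba9876543210000000000000000⟩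
def d_lev2 : Lev := ⟨nat_lit 2, [nat_lit 0xedca89b75346210, nat_lit 0xedc9ba874653210, nat_lit 0xed89bca74625310], [(nat_lit 3, nat_lit 0xed89bca74625310, nat_lit 2), (nat_lit 6, nat_lit 0xedca89b75346210, nat_lit 3), (nat_lit 5, nat_lit 0xed89bca74625310, nat_lit 3), (nat_lit 4, nat_lit 0xedc9ba874653210, nat_lit 6)], nat_lit 0x7c, nat_lit 0xedb9ac874523610edac98b72436510ed9abc875623410ed89bca74625310edcba9876543210000000000000000000000000000000, nat_lit 0xed9cab872563410edb8ca973254610ed9abc875623410ed9a8bc75362410edcba9876543210000000000000000000000000000000⟩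
def d_lev3 : Lev := ⟨nat_lit 4, [nat_lit 0xedca89b75346210, nat_lit 0xedc9ba874653210], [(nat_lit 5, nat_lit 0xedc9ba874653210, nat_lit 4), (nat_lit 3, nat_lit 0xedca89b75346210, nat_lit 5), (nat_lit 6, nat_lit 0xedc9ba874653210, nat_lit 5)], nat_lit 0x78, nat_lit 0xedca9b875463210edc9ba874653210edcba9876543210edc9a8b74536210000000000000000000000000000000000000000000000, nat_lit 0xedc9ba874653210edca9b875463210edcba9876543210edc8ab973564210000000000000000000000000000000000000000000000⟩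
def d_lev4 : Lev := ⟨nat_lit 3, [nat_lit 0xedca89b75346210], [(nat_lit 6, nat_lit 0xedca89b75346210, nat_lit 3), (nat_lit 5, nat_lit 0xedca89b75346210, nat_lit 6)], nat_lit 0x68, nat_lit 0xedca89b75346210edc8b9a73645210000000000000000edcba9876543210000000000000000000000000000000000000000000000, nat_lit 0xedc8b9a73645210edca89b75346210000000000000000edcba9876543210000000000000000000000000000000000000000000000⟩
def d_levels : List Lev := [d_lev0, d_lev1, d_lev2, d_lev3, d_lev4]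

def Ds : List (Nat × Nat × Nat) := [(nat_lit 0xe25c53, nat_lit 0x25c53, nat_lit 0x8cde9ab70456123), (nat_lit 0xf5ac0c, nat_lit 0x6e423, nat_lit 0x9dea8cb75326014)]
theorem hid2 : ∀ i < 7, app 3 7 0x1ac688 i = i := by decide +kernel

theorem diag : allL (diagOK 4 15 7 3 7 0x1ac688) Ds = true := by decide +kernel

theorem check2 : checkAll 7 3 7 21 0x1fffff 0x1ac688 (Ds.map (·.2.1)) b_prog b_levels = true := by decide +kernel

theorem check3 : checkAll (8 + 7) 4 15 60 0xfffffffffffffff 0xedcba9876543210 (Ds.map (·.2.2)) d_prog d_levels = true := by decide +kernel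

theorem check1 : checkAll 8 3 7 24 0xffffff idc8 (Ds.map (·.1)) prog levels = true := by decide +kernel

theorem o1 : orderC d_levels = orderC levels := by decide +kernel

theorem o2 : orderC d_levels = orderC b_levels := by decide +kernel

theorem o3 : orderC b_levels * 2 = Nat.factorial 7 := by decide +kernel

theorem self : Excl (HH T) → Target (HH T) := fun _ =>
  target_alt (k := 7) (by norm_num) (by norm_num) (by decide +kernel) hm8 hid2 diag check1 check2 check3 o1 o2 o3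

theorem concl : Concl Amb.gA T := by
  refine concl_of_step valid check stepc (by decide +kernel) self ?_
  intro t ht

  simp only [targets, List.mem_cons, List.not_mem_nil, or_false] at ht
  rcases ht with rfl
  · exact N00.concl

end Cfsg.Agent.Lib.OverLat.A8.N01
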