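import Cfsg.Agent.Lib.OverLat.A8.Common
import Cfsg.Agent.Lib.OverLat.A8.Amb
import Cfsg.Agent.Lib.OverLat.A8.N00

set_option autoImplicit false
set_option linter.unusedSectionVars false
set_option maxRecDepth 1000000

namespace Cfsg.Agent.Lib.OverLat.A8.N02

open Cfsg.Agent.Lib.PermComp.Core Cfsg.Agent.Lib.OverLat.Core Cfsg.Agent.Lib.OverLat.Basic Cfsg.Agent.Lib.OverLat.A8.Common

def T : List Nat := [nat_lit 0x9bd0ca, nat_lit 0x5af303]
def prog : List (Nat × Nat × Nat) := [(nat_lit 1, nat_lit 1, nat_lit 0), (nat_lit 1, nat_lit 1, nat_lit 0), (nat_lit 0, nat_lit 3, nat_lit 3), (nat_lit 0, nat_lit 4, nat_lit 3), (nat_lit 0, nat_lit 0, nat_lit 5), (nat_lit 0, nat_lit 0, nat_lit 6), (nat_lit 0, nat_lit 4, nat_lit 4), (nat_lit 0, nat_lit 0, nat_lit 1), (nat_lit 0, nat_lit 5, nat_lit 8), (nat_lit 0, nat_lit 0, nat_lit 9), (nat_lit 0, nat_lit 0, nat_lit 11), (nat_lit 0, nat_lit 0, nat_lit 12), (nat_lit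 0, nat_lit 0, nat_lit 12), (nat_lit 0, nat_lit 0, nat_lit 14), (nat_lit 0, nat_lit 0, nat_lit 15), (nat_lit 0, nat_lit 0, nat_lit 16), (nat_lit 0, nat_lit 0, nat_lit 16), (nat_lit 0, nat_lit 0, nat_lit 18), (nat_lit 0, nat_lit 17, nat_lit 16), (nat_lit 0, nat_lit 0, nat_lit 1), (nat_lit 0, nat_lit 13, nat_lit 10), (nat_lit 1, nat_lit 13, nat_lit 0), (nat_lit 1, nat_lit 1, nat_lit 0), (nat_lit 0, nat_lit 3, nat_lit 2), (nat_lit 0, nat_lit 0, nat_lit 4), (nat_lit 0, nat_lit 0, nat_lit 5), (nat_lit 0, nat_lit 0, nat_lit 6), (nat_lit 0, nat_lit 0, nat_lit 19), (nat_lit 0, nat_lit 0, nat_lit 20), (nat_lit 0, nat_lit 0, nat_lit 8), (nat_lit 0, nat_lit 0, nat_lit 22), (nat_lit 0, nat_lit 0, nat_lit 23), (nat_lit 0, nat_lit 0, nat_lit 11), (nat_lit 0, nat_lit 11, nat_lit 10), (nat_lit 0, nat_lit 0, nat_lit 12), (nat_lit 0, nat_lit 0, nat_lit 13), (nat_lit 0, nat_lit 0, nat_lit 14), (nat_lit 0, nat_lit 0,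 nat_lit 4), (nat_lit 0, nat_lit 18, nat_lit 18), (nat_lit 0, nat_lit 0, nat_lit 19), (nat_lit 0, nat_lit 0, nat_lit 19), (nat_lit 0, nat_lit 0, nat_lit 21), (nat_lit 0, nat_lit 0, nat_lit 22), (nat_lit 0, nat_lit 0, nat_lit 22), (nat_lit 0, nat_lit 0, nat_lit 36), (nat_lit 0, nat_lit 0, nat_lit 37), (nat_lit 0, nat_lit 0, nat_lit 25), (nat_lit 0, nat_lit 0, nat_lit 27), (nat_lit 0, nat_lit 0, nat_lit 40), (nat_lit 0, nat_lit 13, nat_lit 0), (nat_lit 1, nat_lit 12, nat_lit 0), (nat_lit 0, nat_lit 1, nat_lit 1), (nat_lit 0, nat_lit 0, nat_lit 2), (nat_lit 0, nat_lit 0, nat_lit 15), (nat_lit 0, nat_lit 0, nat_lit 16), (nat_lit 0, nat_lit 0, nat_lit 5), (nat_lit 0, nat_lit 5, nat_lit 5), (nat_lit 0, nat_lit 0, nat_lit 1), (nat_lit 0, nat_lit 2, nat_lit 8), (nat_lit 0, nat_lit 0, nat_lit 21), (nat_lit 0, nat_lit 0, nat_lit 22), (nat_lit 0, nat_lit 10, nat_lit 0), (nat_lit 1, nat_lit 4, nat_lit 0), (nat_lit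 0, nat_lit 1, nat_lit 1), (nat_lit 0, nat_lit 0, nat_lit 2), (nat_lit 0, nat_lit 0, nat_lit 3), (nat_lit 0, nat_lit 0, nat_lit 8), (nat_lit 0, nat_lit 0, nat_lit 5), (nat_lit 0, nat_lit 0, nat_lit 6), (nat_lit 0, nat_lit 0, nat_lit 11), (nat_lit 0, nat_lit 0, nat_lit 12), (nat_lit 0, nat_lit 0, nat_lit 9), (nat_lit 0, nat_lit 0, nat_lit 14), (nat_lit 0, nat_lit 10, nat_lit 10), (nat_lit 0, nat_lit 0, nat_lit 1)]
def lev0 : Lev := ⟨nat_lit 0, [nat_lit 0x9bd688, nat_lit 0xf9d888, nat_lit 0xb9a9c8, nat_lit 0x5b9ae0, nat_lit 0x9bd0ca], [(nat_lit 2, nat_lit 0x9bd0ca, nat_lit 0), (nat_lit 7, nat_lit 0xb9a9c8, nat_lit 2), (nat_lit 3, nat_lit 0x5b9ae0, nat_lit 2), (nat_lit 4, nat_lit 0x9bd688, nat_lit 7), (nat_lit 5, nat_lit 0xb9a9c8, nat_lit 7), (nat_lit 1, nat_lit 0x5b9ae0, nat_lit 4)], nat_lit 0xbf, nat_lit 0x5ab10f000000f9c08d5bb14c3971639bd0ca7951e1fac688, nat_lit 0x1aa9cb000000f84a8bb909cb99117bba740b5a1f43fac688⟩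
def lev1 : Lev := ⟨nat_lit 1, [nat_lit 0x9bd688, nat_lit 0xf9d888, nat_lit 0xb9a9c8, nat_lit 0x5b9ae0], [(nat_lit 4, nat_lit 0x5b9ae0, nat_lit 1), (nat_lit 5, nat_lit 0x9bd688, nat_lit 4), (nat_lit 2, nat_lit 0xb9a9c8, nat_lit 4), (nat_lit 7, nat_lit 0x9bd688, nat_lit 5), (nat_lit 3, nat_lit 0xf9d888, nat_lit 5)], nat_lit 0xbe, nat_lit 0x5a98f80000005a1ee85b9ae05a9f18fa9710fac688000000, nat_lit 0x3ab5e000000078d5e0b995e07aa3e0faa660fac688000000⟩
def lev2 : Lev := ⟨nat_lit 2, [nat_lit 0x9bd688, nat_lit 0xf9d888, nat_lit 0xb9a9c8], [(nat_lit 7, nat_lit 0xb9a9c8, nat_lit 2), (nat_lit 4, nat_lit 0x9bd688, nat_lit 7), (nat_lit 5, nat_lit 0xb9a9c8, nat_lit 7), (nat_lit 3, nat_lit 0xf9d888, nat_lit 5)], nat_lit 0xbc, nat_lit 0xb9a9c80000007a7548f9ab089af4c8fac688000000000000, nat_lit 0x5bbb08000000995ec8f9ab089af4c8fac688000000000000⟩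
def lev3 : Lev := ⟨nat_lit 3, [nat_lit 0x9bd688, nat_lit 0xf9d888], [(nat_lit 4, nat_lit 0xf9d888, nat_lit 3), (nat_lit 5, nat_lit 0x9bd688, nat_lit 4), (nat_lit 7, nat_lit 0x9bd688, nat_lit 5)], nat_lit 0xb8, nat_lit 0xb9ce8800000099fa88f9d888fac688000000000000000000, nat_lit 0x7bca8800000099fa88fa3a88fac688000000000000000000⟩
def lev4 : Lev := ⟨nat_lit 4, [nat_lit 0x9bd688], [(nat_lit 5, nat_lit 0x9bd688, nat_lit 4), (nat_lit 7, nat_lit 0x9bd688, nat_lit 5)], nat_lit 0xb0, nat_lit 0xba76880000009bd688fac688000000000000000000000000, nat_lit 0x9bd688000000ba7688fac688000000000000000000000000⟩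
def levels : List Lev := [lev0, lev1, lev2, lev3, lev4]

theorem valid : allL (validC 8 3 7 idc8) T = true := by decide +kernel

theorem check : checkAll 8 3 7 24 0xffffff idc8 T prog levels = true := by decide +kernel

def targets : List (List Nat) := [N00.T]
def cert : StepCert where
  N := nat_lit 8
  b := nat_lit 3
  bm := nat_lit 7
  U := nat_lit 0x4771638353daef435097740bab7303f350cabf4688fac688
  V := nat_lit 0x9511f356721ef54c589770ca97a199f6640bd7c688fac688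
  tabsA := [(nat_lit 0x8c73aa, nat_lit 0x8fe055), (nat_lit 0x972e19, nat_lit 0xbc8cd4)]
  tabsL := [(nat_lit 0x9bd0ca, nat_lit 0xef1b10), (nat_lit 0x5af303, nat_lit 0xd7c458)]
  rt := nat_lit 0x249248
  par := nat_lit 0xb5a240
  gi := nat_lit 0x200200
  rootMask := nat_lit 0x2
  roots := [(nat_lit 1, nat_lit 0, [nat_lit 0x22d2659, nat_lit 0x2da29a4ca])]

theorem stepc : stepCheck 8 3 7 24 0xffffff idc8 levels targets T cert = true := by decide +kernel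

def b_T : List Nat := [nat_lit 0x5d990, nat_lit 0x8ca1e]
def b_prog : List (Nat × Nat × Nat) := [(nat_lit 1, nat_lit 1, nat_lit 0), (nat_lit 1, nat_lit 1, nat_lit 0), (nat_lit 0, nat_lit 3, nat_lit 3), (nat_lit 0, nat_lit 0, nat_lit 3), (nat_lit 0, nat_lit 0, nat_lit 4), (nat_lit 0, nat_lit 0, nat_lit 6), (nat_lit 0, nat_lit 0, nat_lit 7), (nat_lit 0, nat_lit 0, nat_lit 7), (nat_lit 0, nat_lit 0, nat_lit 8), (nat_lit 0, nat_lit 0, nat_lit 10), (nat_lit 0, nat_lit 0, nat_lit 11), (nat_lit 0, nat_lit 0, nat_lit 11), (nat_lit 0, nat_lit 0, nat_lit 12), (nat_lit 0, nat_lit 12, nat_lit 12), (nat_lit 0, nat_lit 0, nat_lit 1), (nat_lit 0, nat_lit 15, nat_lit 16), (nat_lit 0, nat_lit 0, nat_lit 17), (nat_lit 0, nat_lit 0, nat_lit 17), (nat_lit 0, nat_lit 0, nat_lit 19), (nat_lit 0, nat_lit 0, nat_lit 20), (nat_lit 0, nat_lit 18, nat_lit 0), (nat_lit 1, nat_lit 6, nat_lit 0), (nat_lit 1, nat_lit 1, nat_lit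 0), (nat_lit 0, nat_lit 8, nat_lit 2), (nat_lit 0, nat_lit 0, nat_lit 9), (nat_lit 0, nat_lit 0, nat_lit 4), (nat_lit 0, nat_lit 4, nat_lit 0), (nat_lit 0, nat_lit 6, nat_lit 6), (nat_lit 0, nat_lit 0, nat_lit 7), (nat_lit 0, nat_lit 0, nat_lit 8), (nat_lit 0, nat_lit 0, nat_lit 15), (nat_lit 0, nat_lit 0, nat_lit 10), (nat_lit 0, nat_lit 0, nat_lit 17), (nat_lit 0, nat_lit 0, nat_lit 18), (nat_lit 0, nat_lit 0, nat_lit 19), (nat_lit 0, nat_lit 0, nat_lit 14), (nat_lit 0, nat_lit 13, nat_lit 0), (nat_lit 1, nat_lit 10, nat_lit 0), (nat_lit 1, nat_lit 1, nat_lit 0), (nat_lit 0, nat_lit 12, nat_lit 2), (nat_lit 0, nat_lit 0, nat_lit 3), (nat_lit 0, nat_lit 0, nat_lit 4), (nat_lit 0, nat_lit 0, nat_lit 5), (nat_lit 0, nat_lit 0, nat_lit 6), (nat_lit 0, nat_lit 0, nat_lit 7), (nat_lit 0, nat_lit 0, nat_lit 18), (nat_lit 0, nat_lit 8, nat_lit 7), (nat_lit 0, nat_lit 0, nat_lit 1), (nat_lit 0, nat_lit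 11, nat_lit 11), (nat_lit 0, nat_lit 0, nat_lit 22), (nat_lit 0, nat_lit 0, nat_lit 13), (nat_lit 0, nat_lit 12, nat_lit 12), (nat_lit 0, nat_lit 0, nat_lit 1), (nat_lit 1, nat_lit 5, nat_lit 0), (nat_lit 0, nat_lit 6, nat_lit 6), (nat_lit 0, nat_lit 0, nat_lit 2), (nat_lit 0, nat_lit 0, nat_lit 8), (nat_lit 0, nat_lit 0, nat_lit 9), (nat_lit 0, nat_lit 0, nat_lit 5), (nat_lit 0, nat_lit 0, nat_lit 6), (nat_lit 0, nat_lit 0, nat_lit 7), (nat_lit 0, nat_lit 0, nat_lit 13), (nat_lit 0, nat_lit 8, nat_lit 0)]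
def b_lev0 : Lev := ⟨nat_lit 1, [nat_lit 0x135688, nat_lit 0x1a3a88, nat_lit 0x12a788, nat_lit 0x15858c, nat_lit 0x5d990], [(nat_lit 2, nat_lit 0x5d990, nat_lit 1), (nat_lit 6, nat_lit 0x12a788, nat_lit 2), (nat_lit 4, nat_lit 0x135688, nat_lit 6), (nat_lit 5, nat_lit 0x15858c, nat_lit 6), (nat_lit 3, nat_lit 0x1a3a88, nat_lit 4), (nat_lit 0, nat_lit 0x15858c, nat_lit 4)], nat_lit 0x7f, nat_lit 0x1754c0a78585e5603728c17664358d1055cc4, nat_lit 0x18abc1912e511af09517828e9c358d10e0571⟩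
def b_lev1 : Lev := ⟨nat_lit 0, [nat_lit 0x135688, nat_lit 0x1a3a88, nat_lit 0x12a788, nat_lit 0x15858c], [(nat_lit 4, nat_lit 0x15858c, nat_lit 0), (nat_lit 5, nat_lit 0x135688, nat_lit 4), (nat_lit 3, nat_lit 0x1a3a88, nat_lit 4), (nat_lit 2, nat_lit 0x12a788, nat_lit 4), (nat_lit 6, nat_lit 0x135688, nat_lit 5)], nat_lit 0x7d, nat_lit 0x46153b30a1b5858c942c5d6342800001ac688, nat_lit 0x5ab3305598b0acc570663ca83000001ac688⟩
def b_lev2 : Lev := ⟨nat_lit 2, [nat_lit 0x135688, nat_lit 0x1a3a88, nat_lit 0x12a788], [(nat_lit 6, nat_lit 0x12a788, nat_lit 2), (nat_lit 4, nat_lit 0x135688, nat_lit 6), (nat_lit 5, nat_lit 0x135688, nat_lit 4), (nat_lit 3, nat_lit 0x1a3a88, nat_lit 4)], nat_lit 0x7c, nat_lit 0x4a9e2344e9172708995646b1a200000000000, nat_lit 0x2b9c232ae1172708af2846b1a200000000000⟩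
def b_lev3 : Lev := ⟨nat_lit 3, [nat_lit 0x135688, nat_lit 0x1a3a88], [(nat_lit 5, nat_lit 0x1a3a88, nat_lit 3), (nat_lit 6, nat_lit 0x135688, nat_lit 5), (nat_lit 4, nat_lit 0x1a3a88, nat_lit 5)], nat_lit 0x78, nat_lit 0x4af223475119d888d63440000000000000000, nat_lit 0x3ba2233b111a3a88d63440000000000000000⟩
def b_lev4 : Lev := ⟨nat_lit 4, [nat_lit 0x135688], [(nat_lit 5, nat_lit 0x135688, nat_lit 4), (nat_lit 6, nat_lit 0x135688, nat_lit 5)], nat_lit 0x70, nat_lit 0x599a226ad11ac688000000000000000000000, nat_lit 0x4d5a22ccd11ac688000000000000000000000⟩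
def b_levels : List Lev := [b_lev0, b_lev1, b_lev2, b_lev3, b_lev4]

def d_T : List Nat := [nat_lit 0x9bdcea846750312, nat_lit 0xa9cd8be26571403]
def d_prog : List (Nat × Nat × Nat) := [(nat_lit 1, nat_lit 1, nat_lit 0), (nat_lit 1, nat_lit 1, nat_lit 0), (nat_lit 0, nat_lit 3, nat_lit 3), (nat_lit 0, nat_lit 0, nat_lit 3), (nat_lit 0, nat_lit 0, nat_lit 4), (nat_lit 0, nat_lit 0, nat_lit 6), (nat_lit 0, nat_lit 0, nat_lit 7), (nat_lit 0, nat_lit 0, nat_lit 8), (nat_lit 0, nat_lit 0, nat_lit 9), (nat_lit 0, nat_lit 8, nat_lit 7), (nat_lit 0, nat_lit 0, nat_lit 9), (nat_lit 0, nat_lit 0, nat_lit 2), (nat_lit 0, nat_lit 12, nat_lit 12), (nat_lit 0, nat_lit 0, nat_lit 14), (nat_lit 0, nat_lit 0, nat_lit 15), (nat_lit 0, nat_lit 0, nat_lit 15), (nat_lit 0, nat_lit 0, nat_lit 16), (nat_lit 0, nat_lit 0, nat_lit 18), (nat_lit 0, nat_lit 0, nat_lit 19), (nat_lit 0, nat_lit 0, nat_lit 19), (nat_lit 0, nat_lit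 0, nat_lit 21), (nat_lit 0, nat_lit 0, nat_lit 22), (nat_lit 0, nat_lit 0, nat_lit 22), (nat_lit 0, nat_lit 13, nat_lit 0), (nat_lit 0, nat_lit 24, nat_lit 25), (nat_lit 0, nat_lit 0, nat_lit 25), (nat_lit 0, nat_lit 0, nat_lit 26), (nat_lit 0, nat_lit 0, nat_lit 27), (nat_lit 0, nat_lit 0, nat_lit 29), (nat_lit 0, nat_lit 0, nat_lit 29), (nat_lit 0, nat_lit 20, nat_lit 0), (nat_lit 0, nat_lit 6, nat_lit 32), (nat_lit 0, nat_lit 0, nat_lit 33), (nat_lit 0, nat_lit 0, nat_lit 33), (nat_lit 0, nat_lit 0, nat_lit 34), (nat_lit 0, nat_lit 0, nat_lit 36), (nat_lit 0, nat_lit 0, nat_lit 36), (nat_lit 0, nat_lit 0, nat_lit 38), (nat_lit 0, nat_lit 0, nat_lit 38), (nat_lit 0, nat_lit 0, nat_lit 39), (nat_lit 0, nat_lit 0, nat_lit 41), (nat_lit 0, nat_lit 31, nat_lit 0), (nat_lit 0, nat_lit 29, nat_lit 42), (nat_lit 0, nat_lit 0, nat_lit 43), (nat_lit 0, nat_lit 0, nat_lit 45), (nat_lit 0, nat_lit 0, nat_lit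 46), (nat_lit 0, nat_lit 0, nat_lit 46), (nat_lit 0, nat_lit 0, nat_lit 47), (nat_lit 0, nat_lit 0, nat_lit 49), (nat_lit 0, nat_lit 0, nat_lit 50), (nat_lit 0, nat_lit 48, nat_lit 48), (nat_lit 0, nat_lit 0, nat_lit 1), (nat_lit 0, nat_lit 53, nat_lit 52), (nat_lit 0, nat_lit 0, nat_lit 53), (nat_lit 0, nat_lit 0, nat_lit 54), (nat_lit 0, nat_lit 0, nat_lit 56), (nat_lit 0, nat_lit 0, nat_lit 57), (nat_lit 0, nat_lit 0, nat_lit 58), (nat_lit 0, nat_lit 0, nat_lit 58), (nat_lit 0, nat_lit 0, nat_lit 60), (nat_lit 0, nat_lit 0, nat_lit 60), (nat_lit 0, nat_lit 0, nat_lit 61), (nat_lit 0, nat_lit 61, nat_lit 0), (nat_lit 1, nat_lit 51, nat_lit 0), (nat_lit 1, nat_lit 22, nat_lit 0), (nat_lit 0, nat_lit 41, nat_lit 23), (nat_lit 0, nat_lit 0, nat_lit 3), (nat_lit 0, nat_lit 0, nat_lit 15), (nat_lit 0, nat_lit 0, nat_lit 37), (nat_lit 0, nat_lit 0, nat_lit 6), (nat_lit 0, nat_lit 0, nat_lit 18), (nat_lit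 0, nat_lit 0, nat_lit 47), (nat_lit 0, nat_lit 0, nat_lit 41), (nat_lit 0, nat_lit 8, nat_lit 0), (nat_lit 0, nat_lit 62, nat_lit 11), (nat_lit 0, nat_lit 0, nat_lit 51), (nat_lit 0, nat_lit 0, nat_lit 45), (nat_lit 0, nat_lit 13, nat_lit 0), (nat_lit 1, nat_lit 4, nat_lit 0), (nat_lit 1, nat_lit 1, nat_lit 0), (nat_lit 0, nat_lit 6, nat_lit 2), (nat_lit 0, nat_lit 0, nat_lit 7), (nat_lit 0, nat_lit 0, nat_lit 4), (nat_lit 0, nat_lit 0, nat_lit 5), (nat_lit 0, nat_lit 4, nat_lit 0), (nat_lit 0, nat_lit 6, nat_lit 2), (nat_lit 1, nat_lit 1, nat_lit 0), (nat_lit 0, nat_lit 2, nat_lit 2), (nat_lit 0, nat_lit 0, nat_lit 2), (nat_lit 0, nat_lit 0, nat_lit 4), (nat_lit 0, nat_lit 0, nat_lit 4), (nat_lit 0, nat_lit 0, nat_lit 5), (nat_lit 0, nat_lit 0, nat_lit 7), (nat_lit 0, nat_lit 0, nat_lit 7), (nat_lit 0, nat_lit 0, nat_lit 8), (nat_lit 0, nat_lit 0, nat_lit 10), (nat_lit 0, nat_lit 9, nat_lit 0)]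
def d_lev0 : Lev := ⟨nat_lit 0, [nat_lit 0xebdca9846753210, nat_lit 0xeadbc9836745210, nat_lit 0xeb8cd9a46157230, nat_lit 0xeabd9c836472510, nat_lit 0x9bdcea846750312], [(nat_lit 2, nat_lit 0x9bdcea846750312, nat_lit 0), (nat_lit 5, nat_lit 0xeabd9c836472510, nat_lit 2), (nat_lit 3, nat_lit 0x9bdcea846750312, nat_lit 2), (nat_lit 7, nat_lit 0xebdca9846753210, nat_lit 5), (nat_lit 1, nat_lit 0xeb8cd9a46157230, nat_lit 5), (nat_lit 4, nat_lit 0xeabd9c836472510, nat_lit 5)], nat_lit 0xbf, nat_lit 0xdbace9846350217000000000000000cdabe9876340215ba9dec836270514acbd9e8564720139bdcea8467503128bdce9a46750231edcba9876543210, nat_lit 0xaebdc9806475213000000000000000adebc9876045213ab9edc8462075139bdcea846750312acbd9e856472013acbd89e56471203edcba9876543210⟩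
def d_lev1 : Lev := ⟨nat_lit 2, [nat_lit 0xebdca9846753210, nat_lit 0xeadbc9836745210, nat_lit 0xeb8cd9a46157230, nat_lit 0xeabd9c836472510], [(nat_lit 5, nat_lit 0xeabd9c836472510, nat_lit 2), (nat_lit 7, nat_lit 0xebdca9846753210, nat_lit 5), (nat_lit 1, nat_lit 0xeb8cd9a46157230, nat_lit 5), (nat_lit 4, nat_lit 0xeabd9c836472510, nat_lit 5), (nat_lit 3, nat_lit 0xeadbc9836745210, nat_lit 7)], nat_lit 0xbe, nat_lit 0xeacb9d836542710000000000000000eabd9c836472510e9dacb826735410ecdb9a856742310edcba9876543210edcb98a76542130000000000000000, nat_lit 0xe9cbda826547310000000000000000eb9cda846257310eca9bd856324710ecdb9a856742310edcba9876543210edcb8a976541320000000000000000⟩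
def d_lev2 : Lev := ⟨nat_lit 1, [nat_lit 0xebdca9846753210, nat_lit 0xeadbc9836745210, nat_lit 0xeb8cd9a46157230], [(nat_lit 3, nat_lit 0xeb8cd9a46157230, nat_lit 1), (nat_lit 5, nat_lit 0xeadbc9836745210, nat_lit 3), (nat_lit 7, nat_lit 0xeb8cd9a46157230, nat_lit 3), (nat_lit 4, nat_lit 0xebdca9846753210, nat_lit 7)], nat_lit 0xba, nat_lit 0xeca8b9d56314270000000000000000eb8da9c46173250eda8c9b76315240eb8cd9a46157230000000000000000edcba9876543210000000000000000, nat_lit 0xe8dac9b16735240000000000000000eb8da9c46173250eda8c9b76315240eabd89c36471250000000000000000edcba9876543210000000000000000⟩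
def d_lev3 : Lev := ⟨nat_lit 3, [nat_lit 0xebdca9846753210, nat_lit 0xeadbc9836745210], [(nat_lit 5, nat_lit 0xeadbc9836745210, nat_lit 3), (nat_lit 7, nat_lit 0xebdca9846753210, nat_lit 5), (nat_lit 4, nat_lit 0xebdca9846753210, nat_lit 7)], nat_lit 0xb8, nat_lit 0xeabcd9836457210000000000000000eadbc9836745210eacdb9836574210edcba9876543210000000000000000000000000000000000000000000000, nat_lit 0xeabcd9836457210000000000000000ecabd9856347210ebcad9846537210edcba9876543210000000000000000000000000000000000000000000000⟩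
def d_lev4 : Lev := ⟨nat_lit 4, [nat_lit 0xebdca9846753210], [(nat_lit 5, nat_lit 0xebdca9846753210, nat_lit 4), (nat_lit 7, nat_lit 0xebdca9846753210, nat_lit 5)], nat_lit 0xb0, nat_lit 0xecbda9856473210000000000000000ebdca9846753210edcba9876543210000000000000000000000000000000000000000000000000000000000000, nat_lit 0xebdca9846753210000000000000000ecbda9856473210edcba9876543210000000000000000000000000000000000000000000000000000000000000⟩
def d_levels : List Lev := [d_lev0, d_lev1, d_lev2, d_lev3, d_lev4]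

def Ds : List (Nat × Nat × Nat) := [(nat_lit 0x9bd0ca, nat_lit 0x5d990, nat_lit 0x9bdcea846750312), (nat_lit 0x5af303, nat_lit 0x8ca1e, nat_lit 0xa9cd8be26571403)]
theorem hid2 : ∀ i < 7, app 3 7 0x1ac688 i = i := by decide +kernel

theorem diag : allL (diagOK 4 15 7 3 7 0x1ac688) Ds = true := by decide +kernel

theorem check2 : checkAll 7 3 7 21 0x1fffff 0x1ac688 (Ds.map (·.2.1)) b_prog b_levels = true := by decide +kernel

theorem check3 : checkAll (8 + 7) 4 15 60 0xfffffffffffffff 0xedcba9876543210 (Ds.map (·.2.2)) d_prog d_levels = true := by decide +kernel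

theorem check1 : checkAll 8 3 7 24 0xffffff idc8 (Ds.map (·.1)) prog levels = true := by decide +kernel

theorem o1 : orderC d_levels = orderC levels := by decide +kernel

theorem o2 : orderC d_levels = orderC b_levels := by decide +kernel

theorem o3 : orderC b_levels * 2 = Nat.factorial 7 := by decide +kernel

theorem self : Excl (HH T) → Target (HH T) := fun _ =>
  target_alt (k := 7) (by norm_num) (by norm_num) (by decide +kernel) hm8 hid2 diag check1 check2 check3 o1 o2 o3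

theorem concl : Concl Amb.gA T := by
  refine concl_of_step valid check stepc (by decide +kernel) self ?_
  intro t ht

  simp only [targets, List.mem_cons, List.not_mem_nil, or_false] at ht
  rcases ht with rfl
  · exact N00.concl

end Cfsg.Agent.Lib.OverLat.A8.N02
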