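import Cfsg.Agent.Lib.OverLat.A8.Common
import Cfsg.Agent.Lib.OverLat.A8.Amb
import Cfsg.Agent.Lib.OverLat.A8.N00

set_option autoImplicit false
set_option linter.unusedSectionVars false
set_option maxRecDepth 1000000

namespace Cfsg.Agent.Lib.OverLat.A8.N03

open Cfsg.Agent.Lib.PermComp.Core Cfsg.Agent.Lib.OverLat.Core Cfsg.Agent.Lib.OverLat.Basic Cfsg.Agent.Lib.OverLat.A8.Common

def T : List Nat := [nat_lit 0x2ee117, nat_lit 0x429cfc]
def prog : List (Nat × Nat × Nat) := [(nat_lit 1, nat_lit 1, nat_lit 0), (nat_lit 1, nat_lit 1, nat_lit 0), (nat_lit 0, nat_lit 2, nat_lit 2), (nat_lit 0, nat_lit 0, nat_lit 4), (nat_lit 0, nat_lit 0, nat_lit 5), (nat_lit 0, nat_lit 0, nat_lit 6), (nat_lit 0, nat_lit 0, nat_lit 6), (nat_lit 0, nat_lit 6, nat_lit 6), (nat_lit 0, nat_lit 0, nat_lit 1), (nat_lit 0, nat_lit 10, nat_lit 10), (nat_lit 0, nat_lit 0, nat_lit 11), (nat_lit 0, nat_lit 0, nat_lit 12), (nat_lit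 0, nat_lit 0, nat_lit 12), (nat_lit 0, nat_lit 0, nat_lit 13), (nat_lit 0, nat_lit 0, nat_lit 15), (nat_lit 0, nat_lit 0, nat_lit 16), (nat_lit 0, nat_lit 0, nat_lit 17), (nat_lit 0, nat_lit 0, nat_lit 17), (nat_lit 0, nat_lit 0, nat_lit 19), (nat_lit 0, nat_lit 0, nat_lit 20), (nat_lit 0, nat_lit 18, nat_lit 19), (nat_lit 0, nat_lit 0, nat_lit 1), (nat_lit 0, nat_lit 23, nat_lit 22), (nat_lit 0, nat_lit 0, nat_lit 24), (nat_lit 0, nat_lit 0, nat_lit 25), (nat_lit 0, nat_lit 17, nat_lit 0), (nat_lit 0, nat_lit 16, nat_lit 26), (nat_lit 0, nat_lit 0, nat_lit 27), (nat_lit 0, nat_lit 0, nat_lit 29), (nat_lit 0, nat_lit 0, nat_lit 30), (nat_lit 0, nat_lit 0, nat_lit 30), (nat_lit 0, nat_lit 0, nat_lit 32), (nat_lit 0, nat_lit 0, nat_lit 33), (nat_lit 0, nat_lit 0, nat_lit 34), (nat_lit 0, nat_lit 0, nat_lit 34), (nat_lit 0, nat_lit 0, nat_lit 36), (nat_lit 0, nat_lit 34, nat_lit 0), (nat_lit 1, nat_lit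 28, nat_lit 0), (nat_lit 1, nat_lit 16, nat_lit 0), (nat_lit 0, nat_lit 30, nat_lit 17), (nat_lit 0, nat_lit 0, nat_lit 3), (nat_lit 0, nat_lit 0, nat_lit 4), (nat_lit 0, nat_lit 4, nat_lit 0), (nat_lit 0, nat_lit 17, nat_lit 6), (nat_lit 0, nat_lit 0, nat_lit 18), (nat_lit 0, nat_lit 0, nat_lit 19), (nat_lit 0, nat_lit 0, nat_lit 24), (nat_lit 0, nat_lit 0, nat_lit 25), (nat_lit 0, nat_lit 0, nat_lit 26), (nat_lit 0, nat_lit 0, nat_lit 40), (nat_lit 0, nat_lit 0, nat_lit 24), (nat_lit 0, nat_lit 0, nat_lit 14), (nat_lit 0, nat_lit 0, nat_lit 26), (nat_lit 0, nat_lit 14, nat_lit 0), (nat_lit 1, nat_lit 11, nat_lit 0), (nat_lit 1, nat_lit 1, nat_lit 0), (nat_lit 0, nat_lit 2, nat_lit 13), (nat_lit 0, nat_lit 0, nat_lit 14), (nat_lit 0, nat_lit 0, nat_lit 4), (nat_lit 0, nat_lit 0, nat_lit 16), (nat_lit 0, nat_lit 0, nat_lit 6), (nat_lit 0, nat_lit 0, nat_lit 18), (nat_lit 0, nat_lit 0, nat_lit 8),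 (nat_lit 0, nat_lit 8, nat_lit 0), (nat_lit 0, nat_lit 7, nat_lit 10), (nat_lit 0, nat_lit 0, nat_lit 11), (nat_lit 0, nat_lit 11, nat_lit 10), (nat_lit 0, nat_lit 0, nat_lit 1), (nat_lit 1, nat_lit 4, nat_lit 0), (nat_lit 0, nat_lit 1, nat_lit 5), (nat_lit 0, nat_lit 0, nat_lit 2), (nat_lit 0, nat_lit 0, nat_lit 3), (nat_lit 0, nat_lit 0, nat_lit 8), (nat_lit 0, nat_lit 0, nat_lit 9), (nat_lit 0, nat_lit 0, nat_lit 6), (nat_lit 0, nat_lit 0, nat_lit 11), (nat_lit 0, nat_lit 0, nat_lit 12), (nat_lit 0, nat_lit 8, nat_lit 8), (nat_lit 0, nat_lit 0, nat_lit 1)]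
def lev0 : Lev := ⟨nat_lit 0, [nat_lit 0x7ecc88, nat_lit 0x9ee688, nat_lit 0x5ebd08, nat_lit 0xca99d8, nat_lit 0x2ee117], [(nat_lit 7, nat_lit 0x2ee117, nat_lit 0), (nat_lit 3, nat_lit 0x7ecc88, nat_lit 7), (nat_lit 4, nat_lit 0x9ee688, nat_lit 7), (nat_lit 2, nat_lit 0x5ebd08, nat_lit 7), (nat_lit 6, nat_lit 0xca99d8, nat_lit 7), (nat_lit 1, nat_lit 0x2ee117, nat_lit 7)], nat_lit 0xdf, nat_lit 0x2ee11772a07e0000002ef1943af1133af0e242bfa1fac688, nat_lit 0x12ac7b22ef130000008a8c7b9aa07b9a943b6a99c6fac688⟩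
def lev1 : Lev := ⟨nat_lit 1, [nat_lit 0x7ecc88, nat_lit 0x9ee688, nat_lit 0x5ebd08, nat_lit 0xca99d8], [(nat_lit 3, nat_lit 0xca99d8, nat_lit 1), (nat_lit 6, nat_lit 0x7ecc88, nat_lit 3), (nat_lit 4, nat_lit 0xca99d8, nat_lit 3), (nat_lit 7, nat_lit 0x7ecc88, nat_lit 6), (nat_lit 2, nat_lit 0xca99d8, nat_lit 6)], nat_lit 0xde, nat_lit 0x6a99b8ea98f00000005eb3a0ca99d8deb310fac688000000, nat_lit 0x2abfa0e6b5a0000000ca99d85eb3a0dea858fac688000000⟩
def lev2 : Lev := ⟨nat_lit 2, [nat_lit 0x7ecc88, nat_lit 0x9ee688, nat_lit 0x5ebd08], [(nat_lit 4, nat_lit 0x5ebd08, nat_lit 2), (nat_lit 6, nat_lit 0x9ee688, nat_lit 4), (nat_lit 3, nat_lit 0x5ebd08, nat_lit 4), (nat_lit 7, nat_lit 0x7ecc88, nat_lit 6)], nat_lit 0xdc, nat_lit 0x52e7c852bf880000005ebd088aeec8fac688000000000000, nat_lit 0x52e7c86ae9c8000000cea9c872f588fac688000000000000⟩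
def lev3 : Lev := ⟨nat_lit 4, [nat_lit 0x7ecc88, nat_lit 0x9ee688], [(nat_lit 6, nat_lit 0x9ee688, nat_lit 4), (nat_lit 7, nat_lit 0x7ecc88, nat_lit 6), (nat_lit 3, nat_lit 0x7ecc88, nat_lit 7)], nat_lit 0xd8, nat_lit 0x8efc889ee688000000fac6889abe88000000000000000000, nat_lit 0x8efc88d2f688000000fac6887af888000000000000000000⟩
def lev4 : Lev := ⟨nat_lit 3, [nat_lit 0x7ecc88], [(nat_lit 6, nat_lit 0x7ecc88, nat_lit 3), (nat_lit 7, nat_lit 0x7ecc88, nat_lit 6)], nat_lit 0xc8, nat_lit 0xcece887ecc88000000000000fac688000000000000000000, nat_lit 0x7ecc88cece88000000000000fac688000000000000000000⟩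
def levels : List Lev := [lev0, lev1, lev2, lev3, lev4]

theorem valid : allL (validC 8 3 7 idc8) T = true := by decide +kernel

theorem check : checkAll 8 3 7 24 0xffffff idc8 T prog levels = true := by decide +kernel

def targets : List (List Nat) := [N00.T]
def cert : StepCert where
  N := nat_lit 8
  b := nat_lit 3
  bm := nat_lit 7
  U := nat_lit 0xa53d38b8c1d3ae7191b3a60ea81cfca5e117bf4688fac688
  V := nat_lit 0x2fa9705bc06b8bdc43a3e70a2f85a513aa73d7c688fac688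
  tabsA := [(nat_lit 0x8c73aa, nat_lit 0x225f93), (nat_lit 0x972e19, nat_lit 0x6bdd01)]
  tabsL := [(nat_lit 0x2ee117, nat_lit 0xbce8d0), (nat_lit 0x429cfc, nat_lit 0x537a58)]
  rt := nat_lit 0x249248
  par := nat_lit 0x91b240
  gi := nat_lit 0x208200
  rootMask := nat_lit 0x2
  roots := [(nat_lit 1, nat_lit 0, [nat_lit 0x14536c9, nat_lit 0xb6994cb])]

theorem stepc : stepCheck 8 3 7 24 0xffffff idc8 levels targets T cert = true := by decide +kernel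

def b_T : List Nat := [nat_lit 0xa0d59, nat_lit 0x13335]
def b_prog : List (Nat × Nat × Nat) := [(nat_lit 1, nat_lit 1, nat_lit 0), (nat_lit 1, nat_lit 1, nat_lit 0), (nat_lit 0, nat_lit 2, nat_lit 3), (nat_lit 0, nat_lit 0, nat_lit 4), (nat_lit 0, nat_lit 0, nat_lit 4), (nat_lit 0, nat_lit 0, nat_lit 6), (nat_lit 0, nat_lit 0, nat_lit 7), (nat_lit 0, nat_lit 8, nat_lit 7), (nat_lit 0, nat_lit 0, nat_lit 9), (nat_lit 0, nat_lit 0, nat_lit 9), (nat_lit 0, nat_lit 9, nat_lit 8), (nat_lit 0, nat_lit 0, nat_lit 1), (nat_lit 0, nat_lit 12, nat_lit 12), (nat_lit 0, nat_lit 0, nat_lit 13), (nat_lit 0, nat_lit 0, nat_lit 14), (nat_lit 0, nat_lit 0, nat_lit 16), (nat_lit 0, nat_lit 0, nat_lit 16), (nat_lit 0, nat_lit 0, nat_lit 18), (nat_lit 0, nat_lit 0, nat_lit 19), (nat_lit 0, nat_lit 0, nat_lit 20), (nat_lit 0, nat_lit 0, nat_lit 20), (nat_lit 0, nat_lit 10, nat_lit 0), (nat_lit 1, nat_lit 15, nat_lit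 0), (nat_lit 1, nat_lit 11, nat_lit 0), (nat_lit 0, nat_lit 17, nat_lit 2), (nat_lit 0, nat_lit 0, nat_lit 13), (nat_lit 0, nat_lit 0, nat_lit 4), (nat_lit 0, nat_lit 0, nat_lit 15), (nat_lit 0, nat_lit 0, nat_lit 16), (nat_lit 0, nat_lit 0, nat_lit 7), (nat_lit 0, nat_lit 0, nat_lit 18), (nat_lit 0, nat_lit 7, nat_lit 8), (nat_lit 0, nat_lit 0, nat_lit 1), (nat_lit 0, nat_lit 11, nat_lit 11), (nat_lit 0, nat_lit 0, nat_lit 12), (nat_lit 0, nat_lit 0, nat_lit 23), (nat_lit 0, nat_lit 0, nat_lit 14), (nat_lit 0, nat_lit 0, nat_lit 30), (nat_lit 0, nat_lit 0, nat_lit 26), (nat_lit 0, nat_lit 0, nat_lit 17), (nat_lit 0, nat_lit 0, nat_lit 33), (nat_lit 0, nat_lit 18, nat_lit 17), (nat_lit 0, nat_lit 0, nat_lit 1), (nat_lit 0, nat_lit 31, nat_lit 21), (nat_lit 0, nat_lit 0, nat_lit 32), (nat_lit 0, nat_lit 0, nat_lit 23), (nat_lit 0, nat_lit 0, nat_lit 24), (nat_lit 0, nat_lit 0, nat_lit 25), (nat_lit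 0, nat_lit 6, nat_lit 0), (nat_lit 1, nat_lit 6, nat_lit 0), (nat_lit 0, nat_lit 17, nat_lit 1), (nat_lit 0, nat_lit 0, nat_lit 2), (nat_lit 0, nat_lit 0, nat_lit 9), (nat_lit 0, nat_lit 0, nat_lit 10), (nat_lit 0, nat_lit 0, nat_lit 21), (nat_lit 0, nat_lit 0, nat_lit 22), (nat_lit 0, nat_lit 13, nat_lit 13), (nat_lit 0, nat_lit 0, nat_lit 8), (nat_lit 0, nat_lit 0, nat_lit 25), (nat_lit 0, nat_lit 0, nat_lit 26), (nat_lit 0, nat_lit 0, nat_lit 17), (nat_lit 0, nat_lit 0, nat_lit 28), (nat_lit 0, nat_lit 0, nat_lit 29), (nat_lit 0, nat_lit 0, nat_lit 30), (nat_lit 0, nat_lit 0, nat_lit 15), (nat_lit 0, nat_lit 0, nat_lit 16), (nat_lit 0, nat_lit 0, nat_lit 33), (nat_lit 0, nat_lit 17, nat_lit 0), (nat_lit 1, nat_lit 12, nat_lit 0), (nat_lit 0, nat_lit 13, nat_lit 1), (nat_lit 0, nat_lit 1, nat_lit 1), (nat_lit 0, nat_lit 1, nat_lit 15), (nat_lit 0, nat_lit 0, nat_lit 4), (nat_lit 0, nat_lit 0,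 nat_lit 17), (nat_lit 0, nat_lit 0, nat_lit 18), (nat_lit 0, nat_lit 0, nat_lit 7), (nat_lit 0, nat_lit 0, nat_lit 8), (nat_lit 0, nat_lit 0, nat_lit 9), (nat_lit 0, nat_lit 0, nat_lit 10), (nat_lit 0, nat_lit 8, nat_lit 0)]
def b_lev0 : Lev := ⟨nat_lit 0, [nat_lit 0x15cc88, nat_lit 0x166688, nat_lit 0x10e6a8, nat_lit 0xead08, nat_lit 0xa0d59], [(nat_lit 1, nat_lit 0xa0d59, nat_lit 0), (nat_lit 5, nat_lit 0x10e6a8, nat_lit 1), (nat_lit 3, nat_lit 0xa0d59, nat_lit 1), (nat_lit 4, nat_lit 0x166688, nat_lit 5), (nat_lit 6, nat_lit 0x15cc88, nat_lit 3), (nat_lit 2, nat_lit 0xead08, nat_lit 4)], nat_lit 0x7f, nat_lit 0x3054b9610baa8c5ca0a99ca19c941ab3ac688, nat_lit 0x2b39686728e8394390729b9851aa709ac688⟩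
def b_lev1 : Lev := ⟨nat_lit 2, [nat_lit 0x15cc88, nat_lit 0x166688, nat_lit 0x10e6a8, nat_lit 0xead08], [(nat_lit 4, nat_lit 0xead08, nat_lit 2), (nat_lit 6, nat_lit 0x166688, nat_lit 4), (nat_lit 5, nat_lit 0x15cc88, nat_lit 6), (nat_lit 3, nat_lit 0xead08, nat_lit 6), (nat_lit 1, nat_lit 0x10e6a8, nat_lit 5)], nat_lit 0x7e, nat_lit 0x38ae2344e90ead08ca5646b1a2264cd000000, nat_lit 0x2774232ae10ead08ce2a46b1a229ce2000000⟩
def b_lev2 : Lev := ⟨nat_lit 1, [nat_lit 0x15cc88, nat_lit 0x166688, nat_lit 0x10e6a8], [(nat_lit 5, nat_lit 0x10e6a8, nat_lit 1), (nat_lit 3, nat_lit 0x15cc88, nat_lit 5), (nat_lit 4, nat_lit 0x166688, nat_lit 5), (nat_lit 6, nat_lit 0x15cc88, nat_lit 3)], nat_lit 0x7a, nat_lit 0x42eac21cd518d6a086e4c00000358d1000000, nat_lit 0x17a2a21cd51a16a87315400000358d1000000⟩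
def b_lev3 : Lev := ⟨nat_lit 4, [nat_lit 0x15cc88, nat_lit 0x166688], [(nat_lit 6, nat_lit 0x166688, nat_lit 4), (nat_lit 5, nat_lit 0x15cc88, nat_lit 6), (nat_lit 3, nat_lit 0x15cc88, nat_lit 5)], nat_lit 0x78, nat_lit 0x599a21cb911ac688d1d440000000000000000, nat_lit 0x4d5a21cb911ac688cec440000000000000000⟩
def b_lev4 : Lev := ⟨nat_lit 3, [nat_lit 0x15cc88], [(nat_lit 6, nat_lit 0x15cc88, nat_lit 3), (nat_lit 5, nat_lit 0x15cc88, nat_lit 6)], nat_lit 0x68, nat_lit 0x573221e951000000d63440000000000000000, nat_lit 0x3d2a22b991000000d63440000000000000000⟩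
def b_levels : List Lev := [b_lev0, b_lev1, b_lev2, b_lev3, b_lev4]

def d_T : List Nat := [nat_lit 0xac8edb913560427, nat_lit 0x8ab9ced20516374]
def d_prog : List (Nat × Nat × Nat) := [(nat_lit 1, nat_lit 1, nat_lit 0), (nat_lit 1, nat_lit 1, nat_lit 0), (nat_lit 0, nat_lit 3, nat_lit 3), (nat_lit 0, nat_lit 0, nat_lit 3), (nat_lit 0, nat_lit 0, nat_lit 4), (nat_lit 0, nat_lit 0, nat_lit 6), (nat_lit 0, nat_lit 0, nat_lit 7), (nat_lit 0, nat_lit 0, nat_lit 8), (nat_lit 0, nat_lit 0, nat_lit 9), (nat_lit 0, nat_lit 8, nat_lit 7), (nat_lit 0, nat_lit 0, nat_lit 1), (nat_lit 0, nat_lit 11, nat_lit 11), (nat_lit 0, nat_lit 0, nat_lit 13), (nat_lit 0, nat_lit 0, nat_lit 14), (nat_lit 0, nat_lit 0, nat_lit 14), (nat_lit 0, nat_lit 0, nat_lit 15), (nat_lit 0, nat_lit 0, nat_lit 17), (nat_lit 0, nat_lit 0, nat_lit 18), (nat_lit 0, nat_lit 0, nat_lit 18), (nat_lit 0, nat_lit 0, nat_lit 20), (nat_lit 0,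 nat_lit 0, nat_lit 21), (nat_lit 0, nat_lit 0, nat_lit 21), (nat_lit 0, nat_lit 21, nat_lit 0), (nat_lit 1, nat_lit 12, nat_lit 0), (nat_lit 0, nat_lit 1, nat_lit 13), (nat_lit 0, nat_lit 0, nat_lit 2), (nat_lit 0, nat_lit 0, nat_lit 3), (nat_lit 0, nat_lit 0, nat_lit 4), (nat_lit 0, nat_lit 0, nat_lit 17), (nat_lit 0, nat_lit 0, nat_lit 6), (nat_lit 0, nat_lit 6, nat_lit 6), (nat_lit 0, nat_lit 0, nat_lit 7), (nat_lit 0, nat_lit 0, nat_lit 2), (nat_lit 0, nat_lit 8, nat_lit 22), (nat_lit 0, nat_lit 0, nat_lit 23), (nat_lit 0, nat_lit 0, nat_lit 12), (nat_lit 0, nat_lit 0, nat_lit 13), (nat_lit 0, nat_lit 0, nat_lit 26), (nat_lit 0, nat_lit 0, nat_lit 15), (nat_lit 0, nat_lit 0, nat_lit 28), (nat_lit 0, nat_lit 0, nat_lit 17), (nat_lit 0, nat_lit 0, nat_lit 18), (nat_lit 0, nat_lit 0, nat_lit 31), (nat_lit 0, nat_lit 12, nat_lit 0), (nat_lit 1, nat_lit 11, nat_lit 0), (nat_lit 1, nat_lit 1, nat_lit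 0), (nat_lit 0, nat_lit 2, nat_lit 2), (nat_lit 0, nat_lit 0, nat_lit 3), (nat_lit 0, nat_lit 0, nat_lit 4), (nat_lit 0, nat_lit 0, nat_lit 16), (nat_lit 0, nat_lit 0, nat_lit 17), (nat_lit 0, nat_lit 0, nat_lit 7), (nat_lit 0, nat_lit 0, nat_lit 8), (nat_lit 0, nat_lit 0, nat_lit 20), (nat_lit 0, nat_lit 0, nat_lit 21), (nat_lit 0, nat_lit 10, nat_lit 9), (nat_lit 0, nat_lit 0, nat_lit 11), (nat_lit 0, nat_lit 0, nat_lit 2), (nat_lit 0, nat_lit 25, nat_lit 14), (nat_lit 0, nat_lit 0, nat_lit 15), (nat_lit 0, nat_lit 0, nat_lit 16), (nat_lit 0, nat_lit 0, nat_lit 28), (nat_lit 0, nat_lit 0, nat_lit 29), (nat_lit 0, nat_lit 0, nat_lit 30), (nat_lit 0, nat_lit 0, nat_lit 20), (nat_lit 0, nat_lit 0, nat_lit 32), (nat_lit 0, nat_lit 0, nat_lit 22), (nat_lit 0, nat_lit 0, nat_lit 23), (nat_lit 0, nat_lit 12, nat_lit 0), (nat_lit 1, nat_lit 11, nat_lit 0), (nat_lit 1, nat_lit 1, nat_lit 0), (nat_lit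 0, nat_lit 13, nat_lit 2), (nat_lit 0, nat_lit 0, nat_lit 14), (nat_lit 0, nat_lit 0, nat_lit 4), (nat_lit 0, nat_lit 4, nat_lit 3), (nat_lit 0, nat_lit 0, nat_lit 1)]
def d_lev0 : Lev := ⟨nat_lit 0, [nat_lit 0xedc9ba837546210, nat_lit 0xedcb8a947563210, nat_lit 0xed8c9ba63572410, nat_lit 0xecb8d9a16574320, nat_lit 0xac8edb913560427], [(nat_lit 7, nat_lit 0xac8edb913560427, nat_lit 0), (nat_lit 3, nat_lit 0xedc9ba837546210, nat_lit 7), (nat_lit 4, nat_lit 0xedcb8a947563210, nat_lit 7), (nat_lit 6, nat_lit 0xed8c9ba63572410, nat_lit 7), (nat_lit 1, nat_lit 0xecb8d9a16574320, nat_lit 7), (nat_lit 2, nat_lit 0xed8c9ba63572410, nat_lit 3)], nat_lit 0xdf, nat_lit 0xac8edb91356042798aedcb125307460000000000000008c9edba13570624bc8ed9a16570423c8aedb913560742dbaec8924560731edcba9876543210, nat_lit 0xbad9e8c04526173ba98ced20514673000000000000000bad98ce42506173bade89c46520173bae9c8d24516073beadc8924561703edcba9876543210⟩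
def d_lev1 : Lev := ⟨nat_lit 1, [nat_lit 0xedc9ba837546210, nat_lit 0xedcb8a947563210, nat_lit 0xed8c9ba63572410, nat_lit 0xecb8d9a16574320], [(nat_lit 2, nat_lit 0xecb8d9a16574320, nat_lit 1), (nat_lit 4, nat_lit 0xed8c9ba63572410, nat_lit 2), (nat_lit 3, nat_lit 0xecb8d9a16574320, nat_lit 2), (nat_lit 6, nat_lit 0xedcb8a947563210, nat_lit 4), (nat_lit 7, nat_lit 0xed8c9ba63572410, nat_lit 4)], nat_lit 0xde, nat_lit 0xea89dcb12536470e9c8dba13574260000000000000000e8cadb913567240eb8ac9d26517430ecb8d9a16574320edcba9876543210000000000000000, nat_lit 0xea98dbc13524670eac98db41536270000000000000000eac9b8d34516270e8adb9c36521740eadc89b46532170edcba9876543210000000000000000⟩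
def d_lev2 : Lev := ⟨nat_lit 2, [nat_lit 0xedc9ba837546210, nat_lit 0xedcb8a947563210, nat_lit 0xed8c9ba63572410], [(nat_lit 4, nat_lit 0xed8c9ba63572410, nat_lit 2), (nat_lit 6, nat_lit 0xedcb8a947563210, nat_lit 4), (nat_lit 7, nat_lit 0xed8c9ba63572410, nat_lit 4), (nat_lit 3, nat_lit 0xed8c9ba63572410, nat_lit 6)], nat_lit 0xdc, nat_lit 0xeda8bc932564710ed9cab873542610000000000000000ed8c9ba63572410edb89ca62574310edcba9876543210000000000000000000000000000000, nat_lit 0xed9ac8b24537610edb9ac872546310000000000000000edb98ac47526310ed9c8ab47532610edcba9876543210000000000000000000000000000000⟩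
def d_lev3 : Lev := ⟨nat_lit 4, [nat_lit 0xedc9ba837546210, nat_lit 0xedcb8a947563210], [(nat_lit 6, nat_lit 0xedcb8a947563210, nat_lit 4), (nat_lit 7, nat_lit 0xedc9ba837546210, nat_lit 6), (nat_lit 3, nat_lit 0xedc9ba837546210, nat_lit 7)], nat_lit 0xd8, nat_lit 0xedc98ba43576210edcb8a947563210000000000000000edcba9876543210edca89b46537210000000000000000000000000000000000000000000000, nat_lit 0xedc98ba43576210edcb98a64573210000000000000000edcba9876543210edc8b9a36574210000000000000000000000000000000000000000000000⟩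
def d_lev4 : Lev := ⟨nat_lit 3, [nat_lit 0xedc9ba837546210], [(nat_lit 6, nat_lit 0xedc9ba837546210, nat_lit 3), (nat_lit 7, nat_lit 0xedc9ba837546210, nat_lit 6)], nat_lit 0xc8, nat_lit 0xedca9b863547210edc9ba837546210000000000000000000000000000000edcba9876543210000000000000000000000000000000000000000000000, nat_lit 0xedc9ba837546210edca9b863547210000000000000000000000000000000edcba9876543210000000000000000000000000000000000000000000000⟩
def d_levels : List Lev := [d_lev0, d_lev1, d_lev2, d_lev3, d_lev4]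

def Ds : List (Nat × Nat × Nat) := [(nat_lit 0x2ee117, nat_lit 0xa0d59, nat_lit 0xac8edb913560427), (nat_lit 0x429cfc, nat_lit 0x13335, nat_lit 0x8ab9ced20516374)]
theorem hid2 : ∀ i < 7, app 3 7 0x1ac688 i = i := by decide +kernel

theorem diag : allL (diagOK 4 15 7 3 7 0x1ac688) Ds = true := by decide +kernel

theorem check2 : checkAll 7 3 7 21 0x1fffff 0x1ac688 (Ds.map (·.2.1)) b_prog b_levels = true := by decide +kernel

theorem check3 : checkAll (8 + 7) 4 15 60 0xfffffffffffffff 0xedcba9876543210 (Ds.map (·.2.2)) d_prog d_levels = true := by decide +kernel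

theorem check1 : checkAll 8 3 7 24 0xffffff idc8 (Ds.map (·.1)) prog levels = true := by decide +kernel

theorem o1 : orderC d_levels = orderC levels := by decide +kernel

theorem o2 : orderC d_levels = orderC b_levels := by decide +kernel

theorem o3 : orderC b_levels * 2 = Nat.factorial 7 := by decide +kernel

theorem self : Excl (HH T) → Target (HH T) := fun _ =>
  target_alt (k := 7) (by norm_num) (by norm_num) (by decide +kernel) hm8 hid2 diag check1 check2 check3 o1 o2 o3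

theorem concl : Concl Amb.gA T := by
  refine concl_of_step valid check stepc (by decide +kernel) self ?_
  intro t ht

  simp only [targets, List.mem_cons, List.not_mem_nil, or_false] at ht
  rcases ht with rfl
  · exact N00.concl

end Cfsg.Agent.Lib.OverLat.A8.N03
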