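import Cfsg.Agent.Lib.OverLat.A8.Common
import Cfsg.Agent.Lib.OverLat.A8.Amb
import Cfsg.Agent.Lib.OverLat.A8.N00

set_option autoImplicit false
set_option linter.unusedSectionVars false
set_option maxRecDepth 1000000

namespace Cfsg.Agent.Lib.OverLat.A8.N04

open Cfsg.Agent.Lib.PermComp.Core Cfsg.Agent.Lib.OverLat.Core Cfsg.Agent.Lib.OverLat.Basic Cfsg.Agent.Lib.OverLat.A8.Common

def T : List Nat := [nat_lit 0x9fd61, nat_lit 0x8327cd]
def prog : List (Nat × Nat × Nat) := [(nat_lit 1, nat_lit 1, nat_lit 0), (nat_lit 1, nat_lit 1, nat_lit 0), (nat_lit 0, nat_lit 2, nat_lit 2), (nat_lit 0, nat_lit 0, nat_lit 4), (nat_lit 0, nat_lit 0, nat_lit 5), (nat_lit 0, nat_lit 0, nat_lit 6), (nat_lit 0, nat_lit 0, nat_lit 6), (nat_lit 0, nat_lit 6, nat_lit 6), (nat_lit 0, nat_lit 0, nat_lit 1), (nat_lit 0, nat_lit 10, nat_lit 10), (nat_lit 0, nat_lit 0, nat_lit 11), (nat_lit 0, nat_lit 0, nat_lit 12), (nat_lit 0, nat_lit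 0, nat_lit 12), (nat_lit 0, nat_lit 0, nat_lit 13), (nat_lit 0, nat_lit 0, nat_lit 15), (nat_lit 0, nat_lit 0, nat_lit 16), (nat_lit 0, nat_lit 0, nat_lit 17), (nat_lit 0, nat_lit 0, nat_lit 17), (nat_lit 0, nat_lit 0, nat_lit 19), (nat_lit 0, nat_lit 0, nat_lit 20), (nat_lit 0, nat_lit 18, nat_lit 0), (nat_lit 1, nat_lit 12, nat_lit 0), (nat_lit 1, nat_lit 1, nat_lit 0), (nat_lit 0, nat_lit 1, nat_lit 1), (nat_lit 0, nat_lit 0, nat_lit 1), (nat_lit 0, nat_lit 0, nat_lit 3), (nat_lit 0, nat_lit 17, nat_lit 17), (nat_lit 0, nat_lit 0, nat_lit 6), (nat_lit 0, nat_lit 0, nat_lit 7), (nat_lit 0, nat_lit 0, nat_lit 20), (nat_lit 0, nat_lit 0, nat_lit 21), (nat_lit 0, nat_lit 0, nat_lit 10), (nat_lit 0, nat_lit 0, nat_lit 23), (nat_lit 0, nat_lit 0, nat_lit 24), (nat_lit 0, nat_lit 0, nat_lit 25), (nat_lit 0, nat_lit 0, nat_lit 14), (nat_lit 0, nat_lit 0, nat_lit 27), (nat_lit 0, nat_lit 11, nat_lit 0), (nat_lit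 0, nat_lit 14, nat_lit 9), (nat_lit 0, nat_lit 18, nat_lit 18), (nat_lit 0, nat_lit 18, nat_lit 17), (nat_lit 0, nat_lit 20, nat_lit 32), (nat_lit 0, nat_lit 0, nat_lit 21), (nat_lit 0, nat_lit 0, nat_lit 22), (nat_lit 0, nat_lit 3, nat_lit 0), (nat_lit 0, nat_lit 5, nat_lit 36), (nat_lit 0, nat_lit 0, nat_lit 37), (nat_lit 0, nat_lit 0, nat_lit 26), (nat_lit 0, nat_lit 0, nat_lit 27), (nat_lit 0, nat_lit 0, nat_lit 40), (nat_lit 0, nat_lit 0, nat_lit 41), (nat_lit 0, nat_lit 0, nat_lit 30), (nat_lit 0, nat_lit 0, nat_lit 31), (nat_lit 0, nat_lit 0, nat_lit 32), (nat_lit 0, nat_lit 30, nat_lit 0), (nat_lit 1, nat_lit 17, nat_lit 0), (nat_lit 1, nat_lit 17, nat_lit 0), (nat_lit 1, nat_lit 2, nat_lit 0), (nat_lit 0, nat_lit 1, nat_lit 0), (nat_lit 0, nat_lit 20, nat_lit 20), (nat_lit 0, nat_lit 0, nat_lit 21), (nat_lit 0, nat_lit 0, nat_lit 16), (nat_lit 0, nat_lit 0, nat_lit 17), (nat_lit 0, nat_lit 0, nat_lit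 18), (nat_lit 0, nat_lit 0, nat_lit 26), (nat_lit 0, nat_lit 0, nat_lit 26), (nat_lit 0, nat_lit 10, nat_lit 9), (nat_lit 0, nat_lit 0, nat_lit 1), (nat_lit 0, nat_lit 29, nat_lit 30), (nat_lit 0, nat_lit 0, nat_lit 30), (nat_lit 0, nat_lit 0, nat_lit 31), (nat_lit 0, nat_lit 0, nat_lit 32), (nat_lit 0, nat_lit 0, nat_lit 33), (nat_lit 0, nat_lit 14, nat_lit 0)]
def lev0 : Lev := ⟨nat_lit 0, [nat_lit 0xf16748, nat_lit 0xf72708, nat_lit 0x8bdcc8, nat_lit 0xed6868, nat_lit 0x9fd61], [(nat_lit 1, nat_lit 0x9fd61, nat_lit 0), (nat_lit 5, nat_lit 0xed6868, nat_lit 1), (nat_lit 4, nat_lit 0x9fd61, nat_lit 1), (nat_lit 2, nat_lit 0xf16748, nat_lit 5), (nat_lit 6, nat_lit 0xf72708, nat_lit 5), (nat_lit 7, nat_lit 0x8bdcc8, nat_lit 5), (nat_lit 3, nat_lit 0x9fd61, nat_lit 5)], nat_lit 0xff, nat_lit 0x6ccd705772e0676b53704fc338d5307776209fd61fac688, nat_lit 0xec47780a7778456b73704fcad607c9516378d1b87fac688⟩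
def lev1 : Lev := ⟨nat_lit 1, [nat_lit 0xf16748, nat_lit 0xf72708, nat_lit 0x8bdcc8, nat_lit 0xed6868], [(nat_lit 5, nat_lit 0xed6868, nat_lit 1), (nat_lit 2, nat_lit 0xf16748, nat_lit 5), (nat_lit 6, nat_lit 0xf72708, nat_lit 5), (nat_lit 7, nat_lit 0x8bdcc8, nat_lit 5), (nat_lit 4, nat_lit 0xf72708, nat_lit 2), (nat_lit 3, nat_lit 0x8bdcc8, nat_lit 2)], nat_lit 0xfe, nat_lit 0x99aa78ee5470ed6868ef2a609bd458eecc50fac688000000, nat_lit 0x39fb10e65cd0f0bd50f59d10ba72d0eecc50fac688000000⟩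
def lev2 : Lev := ⟨nat_lit 3, [nat_lit 0xf16748, nat_lit 0xf72708, nat_lit 0x8bdcc8], [(nat_lit 6, nat_lit 0x8bdcc8, nat_lit 3), (nat_lit 4, nat_lit 0xf16748, nat_lit 6), (nat_lit 5, nat_lit 0xf72708, nat_lit 6), (nat_lit 2, nat_lit 0x8bdcc8, nat_lit 6), (nat_lit 7, nat_lit 0x8bdcc8, nat_lit 5)], nat_lit 0xfc, nat_lit 0x762f888bdcc853eac8d7a8c8fac688ae7588000000000000, nat_lit 0x6b5f08ae7588b1e5c8bf3508fac6888bdcc8000000000000⟩
def lev3 : Lev := ⟨nat_lit 2, [nat_lit 0xf16748, nat_lit 0xf72708], [(nat_lit 5, nat_lit 0xf16748, nat_lit 2), (nat_lit 4, nat_lit 0xf72708, nat_lit 2), (nat_lit 6, nat_lit 0xf72708, nat_lit 5)], nat_lit 0x74, nat_lit 0xea5788f16748f72708000000fac688000000000000, nat_lit 0xea5788f16748f72708000000fac688000000000000⟩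
def levels : List Lev := [lev0, lev1, lev2, lev3]

theorem valid : allL (validC 8 3 7 idc8) T = true := by decide +kernel

theorem check : checkAll 8 3 7 24 0xffffff idc8 T prog levels = true := by decide +kernel

def targets : List (List Nat) := [N00.T]
def cert : StepCert where
  N := nat_lit 15
  b := nat_lit 4
  bm := nat_lit 15
  U := nat_lit 0xa1f9db9a3c46551f4d395584ee139660cafd53e6067eb02358de2a2347e0af70e5cdc23d027cdbf4688fac688
  V := nat_lit 0x6853a75b8b19460f73bd62e032adc30cdeb47f1950b1ae314f1a3c23d8d682a78fce11ea5c670dd7c688fac688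
  tabsA := [(nat_lit 0x8c73aa, nat_lit 0x8dbc035197e6a42), (nat_lit 0x972e19, nat_lit 0x50693d2c7b418ae)]
  tabsL := [(nat_lit 0x9fd61, nat_lit 0xec89dba24765310), (nat_lit 0x8327cd, nat_lit 0xad7ebc695813420)]
  rt := nat_lit 0x111111111111110
  par := nat_lit 0xba9987554322100
  gi := nat_lit 0x101001100010100
  rootMask := nat_lit 0x2
  roots := [(nat_lit 1, nat_lit 0, [nat_lit 0x652693, nat_lit 0x4a4da289])]

theorem stepc : stepCheck 8 3 7 24 0xffffff idc8 levels targets T cert = true := by decide +kernel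

def N_T : List Nat := [nat_lit 0x716f41, nat_lit 0x419be6, nat_lit 0xdcb82a]
def N_prog : List (Nat × Nat × Nat) := []
def N_lev0 : Lev := ⟨nat_lit 0, [nat_lit 0x716f41, nat_lit 0x419be6, nat_lit 0xdcb82a], [(nat_lit 1, nat_lit 0x716f41, nat_lit 0), (nat_lit 6, nat_lit 0x419be6, nat_lit 0), (nat_lit 2, nat_lit 0xdcb82a, nat_lit 0), (nat_lit 4, nat_lit 0x419be6, nat_lit 1), (nat_lit 5, nat_lit 0xdcb82a, nat_lit 1), (nat_lit 7, nat_lit 0xdcb82a, nat_lit 6), (nat_lit 3, nat_lit 0xdcb82a, nat_lit 4)], nat_lit 0xff, nat_lit 0xa539f419be68c7c55a784f437213bdcb82a716f41fac688, nat_lit 0xa539f419be68c7c55a784f437213bdcb82a716f41fac688⟩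
def N_levels : List Lev := [N_lev0]

theorem validN : allL (validC 8 3 7 idc8) N_T = true := by decide +kernel

theorem checkN : checkAll 8 3 7 24 0xffffff idc8 N_T N_prog N_levels = true := by decide +kernel

theorem normN : normCheck 8 3 7 24 0xffffff idc8 levels N_levels T N_T = true := by decide +kernel

theorem ordN : orderC N_levels = 8 := by decide +kernel

theorem self : Excl (HH T) → Target (HH T) := fun h =>
  absurd h (not_excl valid validN check checkN normN (by rw [ordN]; norm_num) (Or.inl ⟨3, by rw [ordN]; norm_num⟩))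

theorem concl : Concl Amb.gA T := by
  refine concl_of_step valid check stepc (by decide +kernel) self ?_
  intro t ht

  simp only [targets, List.mem_cons, List.not_mem_nil, or_false] at ht
  rcases ht with rfl
  · exact N00.concl

end Cfsg.Agent.Lib.OverLat.A8.N04
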