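import Cfsg.Agent.Lib.OverLat.A8.Common
import Cfsg.Agent.Lib.OverLat.A8.Amb
import Cfsg.Agent.Lib.OverLat.A8.N00

set_option autoImplicit false
set_option linter.unusedSectionVars false
set_option maxRecDepth 1000000

namespace Cfsg.Agent.Lib.OverLat.A8.N05

open Cfsg.Agent.Lib.PermComp.Core Cfsg.Agent.Lib.OverLat.Core Cfsg.Agent.Lib.OverLat.Basic Cfsg.Agent.Lib.OverLat.A8.Common

def T : List Nat := [nat_lit 0x5a90e7, nat_lit 0xa739c2]
def prog : List (Nat × Nat × Nat) := [(nat_lit 1, nat_lit 1, nat_lit 0), (nat_lit 1, nat_lit 1, nat_lit 0), (nat_lit 0, nat_lit 2, nat_lit 2), (nat_lit 0, nat_lit 0, nat_lit 4), (nat_lit 0, nat_lit 0, nat_lit 5), (nat_lit 0, nat_lit 0, nat_lit 6), (nat_lit 0, nat_lit 0, nat_lit 6), (nat_lit 0, nat_lit 6, nat_lit 5), (nat_lit 0, nat_lit 0, nat_lit 6), (nat_lit 0, nat_lit 0, nat_lit 2), (nat_lit 0, nat_lit 11, nat_lit 11), (nat_lit 0, nat_lit 0, nat_lit 12), (nat_lit 0, nat_lit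 0, nat_lit 13), (nat_lit 0, nat_lit 0, nat_lit 13), (nat_lit 0, nat_lit 0, nat_lit 14), (nat_lit 0, nat_lit 0, nat_lit 16), (nat_lit 0, nat_lit 0, nat_lit 17), (nat_lit 0, nat_lit 0, nat_lit 18), (nat_lit 0, nat_lit 0, nat_lit 18), (nat_lit 0, nat_lit 0, nat_lit 20), (nat_lit 0, nat_lit 0, nat_lit 21), (nat_lit 0, nat_lit 20, nat_lit 0), (nat_lit 1, nat_lit 12, nat_lit 0), (nat_lit 1, nat_lit 1, nat_lit 0), (nat_lit 0, nat_lit 14, nat_lit 2), (nat_lit 0, nat_lit 0, nat_lit 15), (nat_lit 0, nat_lit 0, nat_lit 16), (nat_lit 0, nat_lit 4, nat_lit 4), (nat_lit 0, nat_lit 0, nat_lit 5), (nat_lit 0, nat_lit 0, nat_lit 6), (nat_lit 0, nat_lit 0, nat_lit 3), (nat_lit 0, nat_lit 21, nat_lit 21), (nat_lit 0, nat_lit 0, nat_lit 10), (nat_lit 0, nat_lit 0, nat_lit 11), (nat_lit 0, nat_lit 0, nat_lit 24), (nat_lit 0, nat_lit 0, nat_lit 25), (nat_lit 0, nat_lit 0, nat_lit 14), (nat_lit 0, nat_lit 0, nat_lit 27), (nat_lit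 0, nat_lit 0, nat_lit 28), (nat_lit 0, nat_lit 0, nat_lit 29), (nat_lit 0, nat_lit 0, nat_lit 18), (nat_lit 0, nat_lit 0, nat_lit 31), (nat_lit 0, nat_lit 13, nat_lit 18), (nat_lit 0, nat_lit 0, nat_lit 1), (nat_lit 0, nat_lit 21, nat_lit 10), (nat_lit 0, nat_lit 23, nat_lit 23), (nat_lit 0, nat_lit 0, nat_lit 24), (nat_lit 0, nat_lit 0, nat_lit 25), (nat_lit 0, nat_lit 0, nat_lit 38), (nat_lit 0, nat_lit 0, nat_lit 39), (nat_lit 0, nat_lit 0, nat_lit 40), (nat_lit 0, nat_lit 0, nat_lit 41), (nat_lit 0, nat_lit 0, nat_lit 30), (nat_lit 0, nat_lit 0, nat_lit 31), (nat_lit 0, nat_lit 0, nat_lit 32), (nat_lit 0, nat_lit 25, nat_lit 0), (nat_lit 1, nat_lit 12, nat_lit 0), (nat_lit 0, nat_lit 1, nat_lit 26), (nat_lit 0, nat_lit 0, nat_lit 13), (nat_lit 0, nat_lit 0, nat_lit 14), (nat_lit 0, nat_lit 3, nat_lit 0), (nat_lit 0, nat_lit 16, nat_lit 5), (nat_lit 0, nat_lit 0, nat_lit 31), (nat_lit 0, nat_lit 0, nat_lit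 32), (nat_lit 0, nat_lit 0, nat_lit 19), (nat_lit 0, nat_lit 0, nat_lit 9), (nat_lit 0, nat_lit 0, nat_lit 35), (nat_lit 0, nat_lit 0, nat_lit 36), (nat_lit 0, nat_lit 0, nat_lit 23), (nat_lit 0, nat_lit 0, nat_lit 13), (nat_lit 0, nat_lit 0, nat_lit 25)]
def lev0 : Lev := ⟨nat_lit 0, [nat_lit 0x774e88, nat_lit 0xafcc88, nat_lit 0xf2e4c8, nat_lit 0xa778d0, nat_lit 0x5a90e7], [(nat_lit 7, nat_lit 0x5a90e7, nat_lit 0), (nat_lit 3, nat_lit 0x774e88, nat_lit 7), (nat_lit 5, nat_lit 0xafcc88, nat_lit 7), (nat_lit 2, nat_lit 0x5a90e7, nat_lit 7), (nat_lit 6, nat_lit 0xafcc88, nat_lit 3), (nat_lit 4, nat_lit 0xa778d0, nat_lit 3), (nat_lit 1, nat_lit 0xa778d0, nat_lit 6)], nat_lit 0xff, nat_lit 0x5a90e75d91664f91a578a17c5711e37ace0a7621b9fac688, nat_lit 0x1a95e3c11be3a81de3390f2b5711e37ace0a2b5f03fac688⟩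
def lev1 : Lev := ⟨nat_lit 1, [nat_lit 0x774e88, nat_lit 0xafcc88, nat_lit 0xf2e4c8, nat_lit 0xa778d0], [(nat_lit 2, nat_lit 0xa778d0, nat_lit 1), (nat_lit 3, nat_lit 0xf2e4c8, nat_lit 2), (nat_lit 7, nat_lit 0x774e88, nat_lit 3), (nat_lit 6, nat_lit 0xafcc88, nat_lit 3), (nat_lit 4, nat_lit 0xa778d0, nat_lit 3), (nat_lit 5, nat_lit 0xafcc88, nat_lit 7)], nat_lit 0xfe, nat_lit 0xc63ab8e656b0666ea8cbd2e0a67c98a778d0fac688000000, nat_lit 0x3dd8b0e656b070deb0be15988fd2b097b470fac688000000⟩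
def lev2 : Lev := ⟨nat_lit 2, [nat_lit 0x774e88, nat_lit 0xafcc88, nat_lit 0xf2e4c8], [(nat_lit 3, nat_lit 0xf2e4c8, nat_lit 2), (nat_lit 7, nat_lit 0x774e88, nat_lit 3), (nat_lit 6, nat_lit 0xafcc88, nat_lit 3), (nat_lit 5, nat_lit 0xafcc88, nat_lit 7), (nat_lit 4, nat_lit 0xf2e4c8, nat_lit 6)], nat_lit 0xfc, nat_lit 0x7355c8b3b588d1f548bba708f2e4c8fac688000000000000, nat_lit 0x566ec8abe8c89d6ac8bba708f2e4c8fac688000000000000⟩
def lev3 : Lev := ⟨nat_lit 3, [nat_lit 0x774e88, nat_lit 0xafcc88], [(nat_lit 7, nat_lit 0x774e88, nat_lit 3), (nat_lit 6, nat_lit 0xafcc88, nat_lit 3), (nat_lit 5, nat_lit 0xafcc88, nat_lit 7)], nat_lit 0xe8, nat_lit 0x774e88afcc88ddca88000000fac688000000000000000000, nat_lit 0x774e88afcc88ddca88000000fac688000000000000000000⟩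
def levels : List Lev := [lev0, lev1, lev2, lev3]

theorem valid : allL (validC 8 3 7 idc8) T = true := by decide +kernel

theorem check : checkAll 8 3 7 24 0xffffff idc8 T prog levels = true := by decide +kernel

def targets : List (List Nat) := [N00.T]
def cert : StepCert where
  N := nat_lit 15
  b := nat_lit 4
  bm := nat_lit 15
  U := nat_lit 0x983ea9c88f5c9b915a39a1ec342ee6ca7645a315e3384757d602bbdc851daf4e0ad4b9c2ab10e7bf4688fac688
  V := nat_lit 0x78f8857d03acb97223588b3b63153d9c57915790e619467d3f509cdc22ec77cc0a5f38291795a3d7c688fac688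
  tabsA := [(nat_lit 0x8c73aa, nat_lit 0xd710a35e286b49c), (nat_lit 0x972e19, nat_lit 0x8597e4c6b0a312d)]
  tabsL := [(nat_lit 0x5a90e7, nat_lit 0x5ade7b1c3986420), (nat_lit 0xa739c2, nat_lit 0xc9e128d4ba67530)]
  rt := nat_lit 0x111111111111110
  par := nat_lit 0xb87655433221100
  gi := nat_lit 0x10110010101000
  rootMask := nat_lit 0x2
  roots := [(nat_lit 1, nat_lit 0, [nat_lit 0x245b68a, nat_lit 0xda2d9])]

theorem stepc : stepCheck 8 3 7 24 0xffffff idc8 levels targets T cert = true := by decide +kernel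

def N_T : List Nat := [nat_lit 0xafad01, nat_lit 0x81735e, nat_lit 0x771e22]
def N_prog : List (Nat × Nat × Nat) := []
def N_lev0 : Lev := ⟨nat_lit 0, [nat_lit 0xafad01, nat_lit 0x81735e, nat_lit 0x771e22], [(nat_lit 1, nat_lit 0xafad01, nat_lit 0), (nat_lit 6, nat_lit 0x81735e, nat_lit 0), (nat_lit 2, nat_lit 0x771e22, nat_lit 0), (nat_lit 3, nat_lit 0x81735e, nat_lit 1), (nat_lit 4, nat_lit 0x771e22, nat_lit 1), (nat_lit 5, nat_lit 0x771e22, nat_lit 6), (nat_lit 7, nat_lit 0x771e22, nat_lit 3)], nat_lit 0xff, nat_lit 0x10e4ef81735e2839bddd8a544651f3771e22afad01fac688, nat_lit 0x10e4ef81735e2839bddd8a544651f3771e22afad01fac688⟩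
def N_levels : List Lev := [N_lev0]

theorem validN : allL (validC 8 3 7 idc8) N_T = true := by decide +kernel

theorem checkN : checkAll 8 3 7 24 0xffffff idc8 N_T N_prog N_levels = true := by decide +kernel

theorem normN : normCheck 8 3 7 24 0xffffff idc8 levels N_levels T N_T = true := by decide +kernel

theorem ordN : orderC N_levels = 8 := by decide +kernel

theorem self : Excl (HH T) → Target (HH T) := fun h =>
  absurd h (not_excl valid validN check checkN normN (by rw [ordN]; norm_num) (Or.inl ⟨3, by rw [ordN]; norm_num⟩))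

theorem concl : Concl Amb.gA T := by
  refine concl_of_step valid check stepc (by decide +kernel) self ?_
  intro t ht

  simp only [targets, List.mem_cons, List.not_mem_nil, or_false] at ht
  rcases ht with rfl
  · exact N00.concl

end Cfsg.Agent.Lib.OverLat.A8.N05
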