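import Cfsg.Agent.Lib.OverLat.A8.Common
import Cfsg.Agent.Lib.OverLat.A8.Amb
import Cfsg.Agent.Lib.OverLat.A8.N00

set_option autoImplicit false
set_option linter.unusedSectionVars false
set_option maxRecDepth 1000000

namespace Cfsg.Agent.Lib.OverLat.A8.N06

open Cfsg.Agent.Lib.PermComp.Core Cfsg.Agent.Lib.OverLat.Core Cfsg.Agent.Lib.OverLat.Basic Cfsg.Agent.Lib.OverLat.A8.Common

def T : List Nat := [nat_lit 0xfa50d1, nat_lit 0xdda161]
def prog : List (Nat × Nat × Nat) := [(nat_lit 1, nat_lit 1, nat_lit 0), (nat_lit 1, nat_lit 1, nat_lit 0), (nat_lit 0, nat_lit 2, nat_lit 2), (nat_lit 0, nat_lit 0, nat_lit 4), (nat_lit 0, nat_lit 0, nat_lit 5), (nat_lit 0, nat_lit 0, nat_lit 6), (nat_lit 0, nat_lit 0, nat_lit 6), (nat_lit 0, nat_lit 6, nat_lit 5), (nat_lit 0, nat_lit 0, nat_lit 1), (nat_lit 0, nat_lit 10, nat_lit 10), (nat_lit 0, nat_lit 0, nat_lit 11), (nat_lit 0, nat_lit 0, nat_lit 12), (nat_lit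 0, nat_lit 0, nat_lit 12), (nat_lit 0, nat_lit 0, nat_lit 13), (nat_lit 0, nat_lit 0, nat_lit 15), (nat_lit 0, nat_lit 0, nat_lit 16), (nat_lit 0, nat_lit 0, nat_lit 17), (nat_lit 0, nat_lit 0, nat_lit 17), (nat_lit 0, nat_lit 0, nat_lit 19), (nat_lit 0, nat_lit 0, nat_lit 20), (nat_lit 0, nat_lit 19, nat_lit 19), (nat_lit 0, nat_lit 0, nat_lit 19), (nat_lit 0, nat_lit 0, nat_lit 2), (nat_lit 0, nat_lit 24, nat_lit 23), (nat_lit 0, nat_lit 0, nat_lit 25), (nat_lit 0, nat_lit 0, nat_lit 26), (nat_lit 0, nat_lit 18, nat_lit 0), (nat_lit 0, nat_lit 17, nat_lit 27), (nat_lit 0, nat_lit 0, nat_lit 28), (nat_lit 0, nat_lit 0, nat_lit 30), (nat_lit 0, nat_lit 0, nat_lit 31), (nat_lit 0, nat_lit 0, nat_lit 31), (nat_lit 0, nat_lit 0, nat_lit 33), (nat_lit 0, nat_lit 0, nat_lit 34), (nat_lit 0, nat_lit 0, nat_lit 35), (nat_lit 0, nat_lit 0, nat_lit 35), (nat_lit 0, nat_lit 0, nat_lit 37), (nat_lit 0, nat_lit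 29, nat_lit 8), (nat_lit 1, nat_lit 11, nat_lit 0), (nat_lit 1, nat_lit 2, nat_lit 0), (nat_lit 0, nat_lit 2, nat_lit 13), (nat_lit 0, nat_lit 0, nat_lit 4), (nat_lit 0, nat_lit 0, nat_lit 15), (nat_lit 0, nat_lit 0, nat_lit 5), (nat_lit 0, nat_lit 0, nat_lit 35), (nat_lit 0, nat_lit 0, nat_lit 36), (nat_lit 0, nat_lit 0, nat_lit 8), (nat_lit 0, nat_lit 0, nat_lit 10), (nat_lit 0, nat_lit 0, nat_lit 25), (nat_lit 0, nat_lit 0, nat_lit 22), (nat_lit 0, nat_lit 11, nat_lit 0), (nat_lit 0, nat_lit 28, nat_lit 14), (nat_lit 0, nat_lit 0, nat_lit 43), (nat_lit 0, nat_lit 0, nat_lit 44), (nat_lit 0, nat_lit 0, nat_lit 16), (nat_lit 0, nat_lit 0, nat_lit 17), (nat_lit 0, nat_lit 0, nat_lit 29), (nat_lit 0, nat_lit 0, nat_lit 30), (nat_lit 0, nat_lit 0, nat_lit 31), (nat_lit 0, nat_lit 0, nat_lit 21), (nat_lit 0, nat_lit 0, nat_lit 23), (nat_lit 0, nat_lit 21, nat_lit 0), (nat_lit 1, nat_lit 0, nat_lit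 0), (nat_lit 0, nat_lit 1, nat_lit 12), (nat_lit 0, nat_lit 0, nat_lit 2), (nat_lit 0, nat_lit 0, nat_lit 3), (nat_lit 0, nat_lit 0, nat_lit 15), (nat_lit 0, nat_lit 4, nat_lit 4), (nat_lit 0, nat_lit 0, nat_lit 1), (nat_lit 0, nat_lit 18, nat_lit 7), (nat_lit 0, nat_lit 0, nat_lit 19), (nat_lit 0, nat_lit 0, nat_lit 20), (nat_lit 0, nat_lit 0, nat_lit 10), (nat_lit 0, nat_lit 5, nat_lit 0), (nat_lit 1, nat_lit 5, nat_lit 0), (nat_lit 0, nat_lit 1, nat_lit 1), (nat_lit 0, nat_lit 0, nat_lit 7), (nat_lit 0, nat_lit 0, nat_lit 3), (nat_lit 0, nat_lit 0, nat_lit 4), (nat_lit 0, nat_lit 0, nat_lit 5), (nat_lit 0, nat_lit 0, nat_lit 6), (nat_lit 0, nat_lit 0, nat_lit 7), (nat_lit 0, nat_lit 0, nat_lit 13), (nat_lit 0, nat_lit 0, nat_lit 14), (nat_lit 0, nat_lit 0, nat_lit 15), (nat_lit 0, nat_lit 0, nat_lit 16), (nat_lit 0, nat_lit 11, nat_lit 0)]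
def lev0 : Lev := ⟨nat_lit 0, [nat_lit 0xddca88, nat_lit 0xde5688, nat_lit 0xdea708, nat_lit 0xfa5650, nat_lit 0xfa50d1], [(nat_lit 1, nat_lit 0xfa50d1, nat_lit 0), (nat_lit 2, nat_lit 0xfa5650, nat_lit 1), (nat_lit 4, nat_lit 0xdea708, nat_lit 2), (nat_lit 3, nat_lit 0xfa50d1, nat_lit 2), (nat_lit 5, nat_lit 0xde5688, nat_lit 4)], nat_lit 0x3f, nat_lit 0xfa20cddea0ccfa5213fac0cafa50d1fac688, nat_lit 0xf8550bde850bfa505afac40bfa5443fac688⟩
def lev1 : Lev := ⟨nat_lit 1, [nat_lit 0xddca88, nat_lit 0xde5688, nat_lit 0xdea708, nat_lit 0xfa5650], [(nat_lit 2, nat_lit 0xfa5650, nat_lit 1), (nat_lit 4, nat_lit 0xdea708, nat_lit 2), (nat_lit 5, nat_lit 0xde5688, nat_lit 4), (nat_lit 3, nat_lit 0xddca88, nat_lit 5)], nat_lit 0x3e, nat_lit 0xf94668dd5660dd4a58fa5650fac688000000, nat_lit 0xf8c750de1750ddc350fa5650fac688000000⟩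
def lev2 : Lev := ⟨nat_lit 2, [nat_lit 0xddca88, nat_lit 0xde5688, nat_lit 0xdea708], [(nat_lit 4, nat_lit 0xdea708, nat_lit 2), (nat_lit 5, nat_lit 0xde5688, nat_lit 4), (nat_lit 3, nat_lit 0xddca88, nat_lit 5)], nat_lit 0x3c, nat_lit 0xfa2748dea708de2ac8fac688000000000000, nat_lit 0xf95708dea708ddd508fac688000000000000⟩
def lev3 : Lev := ⟨nat_lit 4, [nat_lit 0xddca88, nat_lit 0xde5688], [(nat_lit 5, nat_lit 0xde5688, nat_lit 4), (nat_lit 3, nat_lit 0xddca88, nat_lit 5)], nat_lit 0x38, nat_lit 0xde5688fac688fa3a88000000000000000000, nat_lit 0xde5688fac688f9d888000000000000000000⟩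
def lev4 : Lev := ⟨nat_lit 3, [nat_lit 0xddca88], [(nat_lit 5, nat_lit 0xddca88, nat_lit 3)], nat_lit 0x28, nat_lit 0xddca88000000fac688000000000000000000, nat_lit 0xddca88000000fac688000000000000000000⟩
def levels : List Lev := [lev0, lev1, lev2, lev3, lev4]

theorem valid : allL (validC 8 3 7 idc8) T = true := by decide +kernel

theorem check : checkAll 8 3 7 24 0xffffff idc8 T prog levels = true := by decide +kernel

def targets : List (List Nat) := [N00.T]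
def cert : StepCert where
  N := nat_lit 28
  b := nat_lit 5
  bm := nat_lit 31
  U := nat_lit 0xa7e710af710a73e08d83e45d437a638b7a4357e6444777282f782a33e41d23756317e2d40f732a6b7161b3e688bbc60a7f280d9b95435f1ac43f089d3b85631f52d41bb32a5bb22c7ba1619f50d1bf4688fac688
  V := nat_lit 0xb3a67097ac0bb06e8bb072d69591d695f191b307d194a7f094bc3ab062fa9510feb3045f94ac1f951f83b3e688bbc60ad43f0ab970e1d585e1d432bcb910fcd6045fb8a81fb889dab91f03d67443d7c688fac688
  tabsA := [(nat_lit 0x8c73aa, nat_lit 0x84509200acd86b7a1ccf92d4dd59c398b19), (nat_lit 0x972e19, nat_lit 0x181348dcaf5ba674188c15719d4b700d94d)]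
  tabsL := [(nat_lit 0xfa50d1, nat_lit 0xb621b9eb2ebd6928bdaa33169220e328440), (nat_lit 0xdda161, nat_lit 0xcbef4dd74dc5a538c1cb2a58a11d0131060)]
  rt := nat_lit 0x6b5ad6b5ad6b5ad6b5a1084210842108420
  par := nat_lit 0xbd6b39ca51841ee734094a10528c6208400
  gi := nat_lit 0x8401004000800100401004010040108000
  rootMask := nat_lit 0x2002
  roots := [(nat_lit 1, nat_lit 0, [nat_lit 0x22d244a, nat_lit 0x51693]), (nat_lit 13, nat_lit 0, [nat_lit 0x16db65b2d2, nat_lit 0x11693])]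

theorem stepc : stepCheck 8 3 7 24 0xffffff idc8 levels targets T cert = true := by decide +kernel

def b_T : List Nat := [nat_lit 0x23541, nat_lit 0x25458]
def b_prog : List (Nat × Nat × Nat) := [(nat_lit 1, nat_lit 1, nat_lit 0), (nat_lit 1, nat_lit 1, nat_lit 0), (nat_lit 0, nat_lit 3, nat_lit 3), (nat_lit 0, nat_lit 0, nat_lit 3), (nat_lit 0, nat_lit 0, nat_lit 4), (nat_lit 0, nat_lit 0, nat_lit 6), (nat_lit 0, nat_lit 0, nat_lit 7), (nat_lit 0, nat_lit 0, nat_lit 7), (nat_lit 0, nat_lit 0, nat_lit 8), (nat_lit 0, nat_lit 0, nat_lit 10), (nat_lit 0, nat_lit 0, nat_lit 11), (nat_lit 0, nat_lit 0, nat_lit 11), (nat_lit 0, nat_lit 0, nat_lit 12), (nat_lit 0, nat_lit 13, nat_lit 14), (nat_lit 0, nat_lit 0, nat_lit 15), (nat_lit 0, nat_lit 0, nat_lit 15), (nat_lit 0, nat_lit 0, nat_lit 17), (nat_lit 0, nat_lit 0, nat_lit 18), (nat_lit 0, nat_lit 19, nat_lit 18), (nat_lit 0, nat_lit 0, nat_lit 20),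 (nat_lit 0, nat_lit 0, nat_lit 20), (nat_lit 0, nat_lit 20, nat_lit 19), (nat_lit 0, nat_lit 0, nat_lit 21), (nat_lit 0, nat_lit 0, nat_lit 2), (nat_lit 1, nat_lit 11, nat_lit 0), (nat_lit 1, nat_lit 7, nat_lit 0), (nat_lit 1, nat_lit 2, nat_lit 0), (nat_lit 0, nat_lit 9, nat_lit 3), (nat_lit 0, nat_lit 0, nat_lit 10), (nat_lit 0, nat_lit 0, nat_lit 11), (nat_lit 0, nat_lit 0, nat_lit 6), (nat_lit 0, nat_lit 0, nat_lit 7), (nat_lit 0, nat_lit 0, nat_lit 14), (nat_lit 0, nat_lit 0, nat_lit 20), (nat_lit 0, nat_lit 0, nat_lit 16), (nat_lit 0, nat_lit 0, nat_lit 22), (nat_lit 0, nat_lit 9, nat_lit 11), (nat_lit 0, nat_lit 0, nat_lit 1), (nat_lit 0, nat_lit 25, nat_lit 20), (nat_lit 0, nat_lit 0, nat_lit 26), (nat_lit 0, nat_lit 0, nat_lit 22), (nat_lit 0, nat_lit 0, nat_lit 17), (nat_lit 0, nat_lit 0, nat_lit 24), (nat_lit 0, nat_lit 6, nat_lit 0), (nat_lit 0, nat_lit 20, nat_lit 26), (nat_lit 0, nat_lit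 0, nat_lit 21), (nat_lit 0, nat_lit 0, nat_lit 28), (nat_lit 0, nat_lit 0, nat_lit 23), (nat_lit 0, nat_lit 0, nat_lit 30), (nat_lit 0, nat_lit 0, nat_lit 25), (nat_lit 0, nat_lit 0, nat_lit 26), (nat_lit 0, nat_lit 25, nat_lit 0), (nat_lit 1, nat_lit 14, nat_lit 0), (nat_lit 1, nat_lit 9, nat_lit 0), (nat_lit 0, nat_lit 10, nat_lit 10), (nat_lit 0, nat_lit 0, nat_lit 3), (nat_lit 0, nat_lit 0, nat_lit 18), (nat_lit 0, nat_lit 0, nat_lit 13), (nat_lit 0, nat_lit 0, nat_lit 6), (nat_lit 0, nat_lit 0, nat_lit 7), (nat_lit 0, nat_lit 8, nat_lit 8), (nat_lit 0, nat_lit 0, nat_lit 17), (nat_lit 0, nat_lit 0, nat_lit 10), (nat_lit 0, nat_lit 0, nat_lit 11), (nat_lit 0, nat_lit 0, nat_lit 12), (nat_lit 0, nat_lit 12, nat_lit 12), (nat_lit 0, nat_lit 0, nat_lit 12), (nat_lit 0, nat_lit 0, nat_lit 2), (nat_lit 0, nat_lit 24, nat_lit 30), (nat_lit 0, nat_lit 0, nat_lit 25), (nat_lit 0, nat_lit 0, nat_lit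 32), (nat_lit 0, nat_lit 0, nat_lit 27), (nat_lit 0, nat_lit 0, nat_lit 34), (nat_lit 0, nat_lit 0, nat_lit 35), (nat_lit 0, nat_lit 0, nat_lit 30), (nat_lit 0, nat_lit 0, nat_lit 31), (nat_lit 0, nat_lit 0, nat_lit 32), (nat_lit 0, nat_lit 0, nat_lit 39), (nat_lit 1, nat_lit 18, nat_lit 0), (nat_lit 1, nat_lit 1, nat_lit 0), (nat_lit 0, nat_lit 20, nat_lit 12), (nat_lit 0, nat_lit 0, nat_lit 3), (nat_lit 0, nat_lit 0, nat_lit 4), (nat_lit 0, nat_lit 4, nat_lit 3), (nat_lit 0, nat_lit 0, nat_lit 1)]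
def b_lev0 : Lev := ⟨nat_lit 0, [nat_lit 0x1ca88, nat_lit 0x25688, nat_lit 0x15708, nat_lit 0x23468, nat_lit 0x23541], [(nat_lit 1, nat_lit 0x23541, nat_lit 0), (nat_lit 5, nat_lit 0x23468, nat_lit 1), (nat_lit 3, nat_lit 0x1ca88, nat_lit 5), (nat_lit 4, nat_lit 0x25688, nat_lit 5), (nat_lit 2, nat_lit 0x15708, nat_lit 5)], nat_lit 0x3f, nat_lit 0x68c15a344a8c0dc3428d506c688, nat_lit 0xac650b19a84654a1956306c688⟩
def b_lev1 : Lev := ⟨nat_lit 1, [nat_lit 0x1ca88, nat_lit 0x25688, nat_lit 0x15708, nat_lit 0x23468], [(nat_lit 5, nat_lit 0x23468, nat_lit 1), (nat_lit 3, nat_lit 0x1ca88, nat_lit 5), (nat_lit 4, nat_lit 0x25688, nat_lit 5), (nat_lit 2, nat_lit 0x15708, nat_lit 5)], nat_lit 0x3e, nat_lit 0x8d1a2b46095162b850b1a200000, nat_lit 0x3634298d094b42b850b1a200000⟩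
def b_lev2 : Lev := ⟨nat_lit 2, [nat_lit 0x1ca88, nat_lit 0x25688, nat_lit 0x15708], [(nat_lit 4, nat_lit 0x15708, nat_lit 2), (nat_lit 5, nat_lit 0x25688, nat_lit 4), (nat_lit 3, nat_lit 0x1ca88, nat_lit 5)], nat_lit 0x3c, nat_lit 0x51d21570852b22c688000000000, nat_lit 0x51d22274871522c688000000000⟩
def b_lev3 : Lev := ⟨nat_lit 4, [nat_lit 0x1ca88, nat_lit 0x25688], [(nat_lit 5, nat_lit 0x25688, nat_lit 4), (nat_lit 3, nat_lit 0x1ca88, nat_lit 5)], nat_lit 0x38, nat_lit 0x95a22c6888ea200000000000000, nat_lit 0x95a22c688762200000000000000⟩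
def b_lev4 : Lev := ⟨nat_lit 3, [nat_lit 0x1ca88], [(nat_lit 5, nat_lit 0x1ca88, nat_lit 3)], nat_lit 0x28, nat_lit 0x72a200000b1a200000000000000, nat_lit 0x72a200000b1a200000000000000⟩
def b_levels : List Lev := [b_lev0, b_lev1, b_lev2, b_lev3, b_lev4]

def d_T : List Nat := [nat_lit 0xcbad8976450321, nat_lit 0xcda9b867320541]
def d_prog : List (Nat × Nat × Nat) := [(nat_lit 1, nat_lit 1, nat_lit 0), (nat_lit 1, nat_lit 1, nat_lit 0), (nat_lit 0, nat_lit 3, nat_lit 3), (nat_lit 0, nat_lit 0, nat_lit 3), (nat_lit 0, nat_lit 0, nat_lit 4), (nat_lit 0, nat_lit 0, nat_lit 6), (nat_lit 0, nat_lit 0, nat_lit 7), (nat_lit 0, nat_lit 0, nat_lit 8), (nat_lit 0, nat_lit 0, nat_lit 9), (nat_lit 0, nat_lit 8, nat_lit 7), (nat_lit 0, nat_lit 0, nat_lit 1), (nat_lit 0, nat_lit 11, nat_lit 11), (nat_lit 0, nat_lit 0, nat_lit 13), (nat_lit 0, nat_lit 0, nat_lit 14), (nat_lit 0, nat_lit 0, nat_lit 14), (nat_lit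 0, nat_lit 0, nat_lit 15), (nat_lit 0, nat_lit 0, nat_lit 17), (nat_lit 0, nat_lit 0, nat_lit 18), (nat_lit 0, nat_lit 0, nat_lit 18), (nat_lit 0, nat_lit 0, nat_lit 20), (nat_lit 0, nat_lit 0, nat_lit 21), (nat_lit 0, nat_lit 0, nat_lit 21), (nat_lit 0, nat_lit 21, nat_lit 21), (nat_lit 0, nat_lit 0, nat_lit 1), (nat_lit 1, nat_lit 13, nat_lit 0), (nat_lit 1, nat_lit 1, nat_lit 0), (nat_lit 0, nat_lit 2, nat_lit 15), (nat_lit 0, nat_lit 0, nat_lit 3), (nat_lit 0, nat_lit 0, nat_lit 4), (nat_lit 0, nat_lit 0, nat_lit 5), (nat_lit 0, nat_lit 0, nat_lit 19), (nat_lit 0, nat_lit 0, nat_lit 7), (nat_lit 0, nat_lit 7, nat_lit 7), (nat_lit 0, nat_lit 0, nat_lit 1), (nat_lit 0, nat_lit 7, nat_lit 23), (nat_lit 0, nat_lit 0, nat_lit 24), (nat_lit 0, nat_lit 0, nat_lit 12), (nat_lit 0, nat_lit 0, nat_lit 13), (nat_lit 0, nat_lit 0, nat_lit 27), (nat_lit 0, nat_lit 0, nat_lit 15), (nat_lit 0, nat_lit 0, nat_lit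 29), (nat_lit 0, nat_lit 0, nat_lit 17), (nat_lit 0, nat_lit 0, nat_lit 18), (nat_lit 0, nat_lit 0, nat_lit 32), (nat_lit 0, nat_lit 11, nat_lit 0), (nat_lit 0, nat_lit 21, nat_lit 21), (nat_lit 0, nat_lit 0, nat_lit 22), (nat_lit 0, nat_lit 0, nat_lit 23), (nat_lit 0, nat_lit 0, nat_lit 37), (nat_lit 0, nat_lit 0, nat_lit 38), (nat_lit 0, nat_lit 0, nat_lit 26), (nat_lit 0, nat_lit 0, nat_lit 27), (nat_lit 0, nat_lit 0, nat_lit 41), (nat_lit 0, nat_lit 0, nat_lit 42), (nat_lit 0, nat_lit 43, nat_lit 30), (nat_lit 0, nat_lit 0, nat_lit 31), (nat_lit 0, nat_lit 0, nat_lit 32), (nat_lit 0, nat_lit 0, nat_lit 46), (nat_lit 0, nat_lit 0, nat_lit 47), (nat_lit 0, nat_lit 0, nat_lit 48), (nat_lit 0, nat_lit 0, nat_lit 36), (nat_lit 0, nat_lit 0, nat_lit 50), (nat_lit 0, nat_lit 0, nat_lit 38), (nat_lit 0, nat_lit 0, nat_lit 39), (nat_lit 0, nat_lit 38, nat_lit 0), (nat_lit 1, nat_lit 31, nat_lit 0), (nat_lit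 1, nat_lit 21, nat_lit 0), (nat_lit 0, nat_lit 22, nat_lit 2), (nat_lit 0, nat_lit 0, nat_lit 14), (nat_lit 0, nat_lit 0, nat_lit 24), (nat_lit 0, nat_lit 0, nat_lit 16), (nat_lit 0, nat_lit 0, nat_lit 37), (nat_lit 0, nat_lit 0, nat_lit 38), (nat_lit 0, nat_lit 0, nat_lit 28), (nat_lit 0, nat_lit 0, nat_lit 20), (nat_lit 0, nat_lit 9, nat_lit 0), (nat_lit 0, nat_lit 31, nat_lit 22), (nat_lit 0, nat_lit 0, nat_lit 32), (nat_lit 0, nat_lit 0, nat_lit 24), (nat_lit 0, nat_lit 0, nat_lit 14), (nat_lit 0, nat_lit 13, nat_lit 0), (nat_lit 1, nat_lit 5, nat_lit 0), (nat_lit 0, nat_lit 1, nat_lit 1), (nat_lit 0, nat_lit 0, nat_lit 7), (nat_lit 0, nat_lit 0, nat_lit 3), (nat_lit 0, nat_lit 3, nat_lit 0)]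
def d_lev0 : Lev := ⟨nat_lit 0, [nat_lit 0xbadc8967453210, nat_lit 0xcd98ba67534210, nat_lit 0xcbd98a76342510, nat_lit 0x8cbda967514320, nat_lit 0xcbad8976450321], [(nat_lit 1, nat_lit 0xcbad8976450321, nat_lit 0), (nat_lit 2, nat_lit 0x8cbda967514320, nat_lit 1), (nat_lit 5, nat_lit 0xcbd98a76342510, nat_lit 2), (nat_lit 3, nat_lit 0x8cbda967514320, nat_lit 2), (nat_lit 4, nat_lit 0xbadc8967453210, nat_lit 5)], nat_lit 0x3f, nat_lit 0xbdca8967130425dbac9876130524cb89ad76250143cbd89a67150432cbad8976450321dcba9876543210, nat_lit 0xcbda8967024153dacb98762041538dc9ab76410523bdc89a67421053adcb8976452103dcba9876543210⟩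
def d_lev1 : Lev := ⟨nat_lit 1, [nat_lit 0xbadc8967453210, nat_lit 0xcd98ba67534210, nat_lit 0xcbd98a76342510, nat_lit 0x8cbda967514320], [(nat_lit 2, nat_lit 0x8cbda967514320, nat_lit 1), (nat_lit 5, nat_lit 0xcbd98a76342510, nat_lit 2), (nat_lit 3, nat_lit 0x8cbda967514320, nat_lit 2), (nat_lit 4, nat_lit 0xbadc8967453210, nat_lit 5)], nat_lit 0x3e, nat_lit 0xabdc9867314250cdba89763152409cb8da765214308cbda967514320dcba987654321000000000000000, nat_lit 0xbacd9867135240cdba89763152409cb8da76521430acb98d67532140dcba987654321000000000000000⟩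
def d_lev2 : Lev := ⟨nat_lit 2, [nat_lit 0xbadc8967453210, nat_lit 0xcd98ba67534210, nat_lit 0xcbd98a76342510], [(nat_lit 5, nat_lit 0xcbd98a76342510, nat_lit 2), (nat_lit 4, nat_lit 0xbadc8967453210, nat_lit 5), (nat_lit 3, nat_lit 0xcbd98a76342510, nat_lit 5)], nat_lit 0x3c, nat_lit 0xcbd98a76342510adb89c67352410bdc8a976245310dcba98765432100000000000000000000000000000, nat_lit 0xbdc8a976245310c8bd9a67425310cbd98a76342510dcba98765432100000000000000000000000000000⟩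
def d_lev3 : Lev := ⟨nat_lit 3, [nat_lit 0xbadc8967453210, nat_lit 0xcd98ba67534210], [(nat_lit 4, nat_lit 0xcd98ba67534210, nat_lit 3), (nat_lit 5, nat_lit 0xbadc8967453210, nat_lit 4)], nat_lit 0x38, nat_lit 0xab89dc76435210cd98ba67534210dcba9876543210000000000000000000000000000000000000000000, nat_lit 0x98cdab76354210cd98ba67534210dcba9876543210000000000000000000000000000000000000000000⟩
def d_lev4 : Lev := ⟨nat_lit 4, [nat_lit 0xbadc8967453210], [(nat_lit 5, nat_lit 0xbadc8967453210, nat_lit 4)], nat_lit 0x30, nat_lit 0xbadc8967453210dcba987654321000000000000000000000000000000000000000000000000000000000, nat_lit 0xbadc8967453210dcba987654321000000000000000000000000000000000000000000000000000000000⟩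
def d_levels : List Lev := [d_lev0, d_lev1, d_lev2, d_lev3, d_lev4]

def Ds : List (Nat × Nat × Nat) := [(nat_lit 0xfa50d1, nat_lit 0x23541, nat_lit 0xcbad8976450321), (nat_lit 0xdda161, nat_lit 0x25458, nat_lit 0xcda9b867320541)]
theorem hid2 : ∀ i < 6, app 3 7 0x2c688 i = i := by decide +kernel

theorem diag : allL (diagOK 4 15 6 3 7 0x2c688) Ds = true := by decide +kernel

theorem check2 : checkAll 6 3 7 18 0x3ffff 0x2c688 (Ds.map (·.2.1)) b_prog b_levels = true := by decide +kernel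

theorem check3 : checkAll (8 + 6) 4 15 56 0xffffffffffffff 0xdcba9876543210 (Ds.map (·.2.2)) d_prog d_levels = true := by decide +kernel

theorem check1 : checkAll 8 3 7 24 0xffffff idc8 (Ds.map (·.1)) prog levels = true := by decide +kernel

theorem o1 : orderC d_levels = orderC levels := by decide +kernel

theorem o2 : orderC d_levels = orderC b_levels := by decide +kernel

theorem o3 : orderC b_levels = Nat.factorial 6 := by decide +kernel

theorem self : Excl (HH T) → Target (HH T) := fun _ =>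
  Or.inr (Or.inr (Or.inl (exists_iso_perm (k := 6) (by decide +kernel) hm8 hid2 diag check1 check2 check3 o1 o2 o3)))

theorem concl : Concl Amb.gA T := by
  refine concl_of_step valid check stepc (by decide +kernel) self ?_
  intro t ht

  simp only [targets, List.mem_cons, List.not_mem_nil, or_false] at ht
  rcases ht with rfl
  · exact N00.concl

end Cfsg.Agent.Lib.OverLat.A8.N06
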