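import Cfsg.Agent.Lib.OverLat.A8.Common
import Cfsg.Agent.Lib.OverLat.A8.Amb
import Cfsg.Agent.Lib.OverLat.A8.N00

set_option autoImplicit false
set_option linter.unusedSectionVars false
set_option maxRecDepth 1000000

namespace Cfsg.Agent.Lib.OverLat.A8.N07

open Cfsg.Agent.Lib.PermComp.Core Cfsg.Agent.Lib.OverLat.Core Cfsg.Agent.Lib.OverLat.Basic Cfsg.Agent.Lib.OverLat.A8.Common

def T : List Nat := [nat_lit 0xa7c0f2, nat_lit 0xe29ce2]
def prog : List (Nat × Nat × Nat) := [(nat_lit 1, nat_lit 1, nat_lit 0), (nat_lit 1, nat_lit 1, nat_lit 0), (nat_lit 0, nat_lit 2, nat_lit 2), (nat_lit 0, nat_lit 0, nat_lit 4), (nat_lit 0, nat_lit 0, nat_lit 5), (nat_lit 0, nat_lit 0, nat_lit 6), (nat_lit 0, nat_lit 0, nat_lit 6), (nat_lit 0, nat_lit 6, nat_lit 6), (nat_lit 0, nat_lit 0, nat_lit 6), (nat_lit 0, nat_lit 0, nat_lit 2), (nat_lit 0, nat_lit 11, nat_lit 11), (nat_lit 0, nat_lit 0, nat_lit 12), (nat_lit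 0, nat_lit 0, nat_lit 13), (nat_lit 0, nat_lit 0, nat_lit 13), (nat_lit 0, nat_lit 0, nat_lit 14), (nat_lit 0, nat_lit 0, nat_lit 16), (nat_lit 0, nat_lit 0, nat_lit 17), (nat_lit 0, nat_lit 0, nat_lit 18), (nat_lit 0, nat_lit 0, nat_lit 18), (nat_lit 0, nat_lit 0, nat_lit 20), (nat_lit 0, nat_lit 0, nat_lit 21), (nat_lit 0, nat_lit 12, nat_lit 20), (nat_lit 0, nat_lit 0, nat_lit 1), (nat_lit 0, nat_lit 12, nat_lit 23), (nat_lit 0, nat_lit 0, nat_lit 24), (nat_lit 0, nat_lit 0, nat_lit 26), (nat_lit 0, nat_lit 0, nat_lit 27), (nat_lit 0, nat_lit 0, nat_lit 27), (nat_lit 0, nat_lit 0, nat_lit 29), (nat_lit 0, nat_lit 0, nat_lit 30), (nat_lit 0, nat_lit 0, nat_lit 31), (nat_lit 0, nat_lit 0, nat_lit 31), (nat_lit 0, nat_lit 0, nat_lit 33), (nat_lit 1, nat_lit 23, nat_lit 0), (nat_lit 1, nat_lit 11, nat_lit 0), (nat_lit 0, nat_lit 2, nat_lit 2), (nat_lit 0, nat_lit 0, nat_lit 26), (nat_lit 0, nat_lit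 0, nat_lit 4), (nat_lit 0, nat_lit 0, nat_lit 28), (nat_lit 0, nat_lit 4, nat_lit 0), (nat_lit 0, nat_lit 17, nat_lit 17), (nat_lit 0, nat_lit 0, nat_lit 18), (nat_lit 0, nat_lit 0, nat_lit 19), (nat_lit 0, nat_lit 0, nat_lit 10), (nat_lit 0, nat_lit 0, nat_lit 21), (nat_lit 0, nat_lit 0, nat_lit 22), (nat_lit 0, nat_lit 0, nat_lit 23), (nat_lit 0, nat_lit 0, nat_lit 37), (nat_lit 0, nat_lit 0, nat_lit 38), (nat_lit 0, nat_lit 0, nat_lit 16), (nat_lit 0, nat_lit 0, nat_lit 40), (nat_lit 0, nat_lit 41, nat_lit 18), (nat_lit 0, nat_lit 0, nat_lit 29), (nat_lit 0, nat_lit 0, nat_lit 30), (nat_lit 0, nat_lit 0, nat_lit 21), (nat_lit 0, nat_lit 0, nat_lit 32), (nat_lit 0, nat_lit 0, nat_lit 33), (nat_lit 0, nat_lit 0, nat_lit 24), (nat_lit 0, nat_lit 24, nat_lit 24), (nat_lit 0, nat_lit 0, nat_lit 1), (nat_lit 1, nat_lit 0, nat_lit 0), (nat_lit 0, nat_lit 21, nat_lit 1), (nat_lit 0, nat_lit 0, nat_lit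 11), (nat_lit 0, nat_lit 0, nat_lit 23), (nat_lit 0, nat_lit 0, nat_lit 13), (nat_lit 0, nat_lit 4, nat_lit 4), (nat_lit 0, nat_lit 0, nat_lit 1), (nat_lit 0, nat_lit 27, nat_lit 16), (nat_lit 0, nat_lit 0, nat_lit 28), (nat_lit 0, nat_lit 0, nat_lit 9), (nat_lit 0, nat_lit 0, nat_lit 30), (nat_lit 0, nat_lit 0, nat_lit 11), (nat_lit 0, nat_lit 0, nat_lit 12), (nat_lit 0, nat_lit 0, nat_lit 22), (nat_lit 0, nat_lit 0, nat_lit 23), (nat_lit 0, nat_lit 0, nat_lit 15), (nat_lit 0, nat_lit 0, nat_lit 25), (nat_lit 0, nat_lit 11, nat_lit 0), (nat_lit 1, nat_lit 0, nat_lit 0), (nat_lit 0, nat_lit 12, nat_lit 12), (nat_lit 0, nat_lit 0, nat_lit 13), (nat_lit 0, nat_lit 0, nat_lit 3), (nat_lit 0, nat_lit 0, nat_lit 15), (nat_lit 0, nat_lit 0, nat_lit 16), (nat_lit 0, nat_lit 0, nat_lit 6), (nat_lit 0, nat_lit 0, nat_lit 7), (nat_lit 0, nat_lit 0, nat_lit 8), (nat_lit 0, nat_lit 0, nat_lit 20), (nat_lit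 0, nat_lit 0, nat_lit 21), (nat_lit 0, nat_lit 10, nat_lit 0)]
def lev0 : Lev := ⟨nat_lit 0, [nat_lit 0xb3e688, nat_lit 0xbbb888, nat_lit 0xe6e6a0, nat_lit 0xafa988, nat_lit 0xa7c0f2], [(nat_lit 2, nat_lit 0xa7c0f2, nat_lit 0), (nat_lit 6, nat_lit 0xafa988, nat_lit 2), (nat_lit 3, nat_lit 0xa7c0f2, nat_lit 2), (nat_lit 4, nat_lit 0xb3e688, nat_lit 6), (nat_lit 1, nat_lit 0xe6e6a0, nat_lit 6)], nat_lit 0x5f, nat_lit 0xe6a11e000000a7a19cfac40ba7c0f2f2a199fac688, nat_lit 0xe2a333000000ab8333fac0caa7c433eae303fac688⟩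
def lev1 : Lev := ⟨nat_lit 2, [nat_lit 0xb3e688, nat_lit 0xbbb888, nat_lit 0xe6e6a0, nat_lit 0xafa988], [(nat_lit 6, nat_lit 0xafa988, nat_lit 2), (nat_lit 4, nat_lit 0xb3e688, nat_lit 6), (nat_lit 1, nat_lit 0xe6e6a0, nat_lit 6), (nat_lit 3, nat_lit 0xafa988, nat_lit 6)], nat_lit 0x5e, nat_lit 0xafa988000000eead08f2e4c8fac688afac60000000, nat_lit 0xabbd08000000eead08f2e4c8fac688af9d10000000⟩
def lev2 : Lev := ⟨nat_lit 1, [nat_lit 0xb3e688, nat_lit 0xbbb888, nat_lit 0xe6e6a0], [(nat_lit 4, nat_lit 0xe6e6a0, nat_lit 1), (nat_lit 6, nat_lit 0xb3e688, nat_lit 4), (nat_lit 3, nat_lit 0xbbb888, nat_lit 4)], nat_lit 0x5a, nat_lit 0xa7c6b0000000e6e6a0a7e898000000fac688000000, nat_lit 0xa7c6b0000000f296b0b3b2b0000000fac688000000⟩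
def lev3 : Lev := ⟨nat_lit 3, [nat_lit 0xb3e688, nat_lit 0xbbb888], [(nat_lit 4, nat_lit 0xbbb888, nat_lit 3), (nat_lit 6, nat_lit 0xb3e688, nat_lit 4)], nat_lit 0x58, nat_lit 0xf2bc88000000bbb888fac688000000000000000000, nat_lit 0xeee888000000bbb888fac688000000000000000000⟩
def lev4 : Lev := ⟨nat_lit 4, [nat_lit 0xb3e688], [(nat_lit 6, nat_lit 0xb3e688, nat_lit 4)], nat_lit 0x50, nat_lit 0xb3e688000000fac688000000000000000000000000, nat_lit 0xb3e688000000fac688000000000000000000000000⟩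
def levels : List Lev := [lev0, lev1, lev2, lev3, lev4]

theorem valid : allL (validC 8 3 7 idc8) T = true := by decide +kernel

theorem check : checkAll 8 3 7 24 0xffffff idc8 T prog levels = true := by decide +kernel

def targets : List (List Nat) := [N00.T]
def cert : StepCert where
  N := nat_lit 28
  b := nat_lit 5
  bm := nat_lit 31
  U := nat_lit 0x7772a055f80e5cdc23d4f7021e578a1d58f11772e276747074788e7cdca05e518b5772231cdce23670f2de5688f722e0f462e2bc8d1af5888ebd9ca0be6650bd418bf56223f61583bc1ce2f4c0f2bf4688fac688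
  V := nat_lit 0x971e98833bcace11ea9f2629ca560fc6354797141f875ed0833e8dce1ea8ca51cb9711dace142f87543bde5688f71518f3141dcfa22ce33a8ccf9aa0d3d650cbc14bf3115aeb50e1cf9425e7442bd7c688fac688
  tabsA := [(nat_lit 0x8c73aa, nat_lit 0x960282c342ca99b3013488dcf5d5a4b1e77), (nat_lit 0x972e19, nat_lit 0x2e68cbd45126c3968c776c8c856f1c502d)]
  tabsL := [(nat_lit 0xa7c0f2, nat_lit 0x7cf788eb37b5692835ca3306b2250728440), (nat_lit 0xe29ce2, nat_lit 0xaee97cead8836538b9eb29d815212231060)]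
  rt := nat_lit 0x6b5ad6b5ad6b5ad6b5a1084210842108420
  par := nat_lit 0xcdab4a4e51841ef6b40941ca520c6208400
  gi := nat_lit 0x1000000802008001004200040108000
  rootMask := nat_lit 0x2002
  roots := [(nat_lit 1, nat_lit 0, [nat_lit 0xa6cb289, nat_lit 0x1945a699]), (nat_lit 13, nat_lit 0, [nat_lit 0x594cb45a, nat_lit 0x22cb28b])]

theorem stepc : stepCheck 8 3 7 24 0xffffff idc8 levels targets T cert = true := by decide +kernel

def b_T : List Nat := [nat_lit 0xaac4, nat_lit 0xa82b]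
def b_prog : List (Nat × Nat × Nat) := [(nat_lit 1, nat_lit 1, nat_lit 0), (nat_lit 1, nat_lit 1, nat_lit 0), (nat_lit 0, nat_lit 3, nat_lit 2), (nat_lit 0, nat_lit 0, nat_lit 4), (nat_lit 0, nat_lit 0, nat_lit 4), (nat_lit 0, nat_lit 5, nat_lit 5), (nat_lit 0, nat_lit 0, nat_lit 6), (nat_lit 0, nat_lit 0, nat_lit 7), (nat_lit 0, nat_lit 0, nat_lit 9), (nat_lit 0, nat_lit 0, nat_lit 9), (nat_lit 0, nat_lit 0, nat_lit 11), (nat_lit 0, nat_lit 0, nat_lit 12), (nat_lit 0, nat_lit 0, nat_lit 13), (nat_lit 0, nat_lit 0, nat_lit 13), (nat_lit 0, nat_lit 12, nat_lit 13), (nat_lit 0, nat_lit 0, nat_lit 1), (nat_lit 1, nat_lit 11, nat_lit 0), (nat_lit 0, nat_lit 0, nat_lit 0), (nat_lit 0, nat_lit 2, nat_lit 2), (nat_lit 0, nat_lit 0, nat_lit 14), (nat_lit 0, nat_lit 0, nat_lit 4), (nat_lit 0, nat_lit 3, nat_lit 0), (nat_lit 0, nat_lit 17, nat_lit 17), (nat_lit 0, nat_lit 0, nat_lit 7), (nat_lit 0, nat_lit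 0, nat_lit 19), (nat_lit 0, nat_lit 0, nat_lit 20), (nat_lit 0, nat_lit 0, nat_lit 10), (nat_lit 0, nat_lit 0, nat_lit 11), (nat_lit 0, nat_lit 0, nat_lit 12), (nat_lit 0, nat_lit 0, nat_lit 24), (nat_lit 1, nat_lit 8, nat_lit 0), (nat_lit 1, nat_lit 1, nat_lit 0), (nat_lit 0, nat_lit 10, nat_lit 2), (nat_lit 0, nat_lit 0, nat_lit 11), (nat_lit 0, nat_lit 0, nat_lit 12), (nat_lit 0, nat_lit 4, nat_lit 3), (nat_lit 0, nat_lit 0, nat_lit 1), (nat_lit 0, nat_lit 7, nat_lit 7), (nat_lit 0, nat_lit 0, nat_lit 8), (nat_lit 0, nat_lit 0, nat_lit 17), (nat_lit 0, nat_lit 0, nat_lit 10), (nat_lit 0, nat_lit 0, nat_lit 11), (nat_lit 0, nat_lit 0, nat_lit 20), (nat_lit 0, nat_lit 0, nat_lit 13), (nat_lit 0, nat_lit 0, nat_lit 14), (nat_lit 0, nat_lit 0, nat_lit 15), (nat_lit 0, nat_lit 15, nat_lit 0), (nat_lit 1, nat_lit 10, nat_lit 0), (nat_lit 0, nat_lit 1, nat_lit 1), (nat_lit 0, nat_lit 0, nat_lit 12),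 (nat_lit 0, nat_lit 0, nat_lit 13), (nat_lit 0, nat_lit 0, nat_lit 14), (nat_lit 0, nat_lit 0, nat_lit 5), (nat_lit 0, nat_lit 0, nat_lit 6), (nat_lit 0, nat_lit 0, nat_lit 7), (nat_lit 0, nat_lit 7, nat_lit 0)]
def b_lev0 : Lev := ⟨nat_lit 0, [nat_lit 0x25688, nat_lit 0x23a88, nat_lit 0x198a8, nat_lit 0x2a8c8, nat_lit 0xaac4], [(nat_lit 4, nat_lit 0xaac4, nat_lit 0), (nat_lit 5, nat_lit 0x25688, nat_lit 4), (nat_lit 3, nat_lit 0x23a88, nat_lit 4), (nat_lit 1, nat_lit 0x198a8, nat_lit 4), (nat_lit 2, nat_lit 0x2a8c8, nat_lit 4)], nat_lit 0x3f, nat_lit 0x2a314aac42a50cbb02a9c06c688, nat_lit 0xd4a585294c4a5a829a9c06c688⟩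
def b_lev1 : Lev := ⟨nat_lit 2, [nat_lit 0x25688, nat_lit 0x23a88, nat_lit 0x198a8, nat_lit 0x2a8c8], [(nat_lit 3, nat_lit 0x2a8c8, nat_lit 2), (nat_lit 5, nat_lit 0x23a88, nat_lit 3), (nat_lit 4, nat_lit 0x198a8, nat_lit 3), (nat_lit 1, nat_lit 0x198a8, nat_lit 4)], nat_lit 0x3e, nat_lit 0x89d21a328aa322c6888a9600000, nat_lit 0x55c20ab18ad422c68874c400000⟩
def b_lev2 : Lev := ⟨nat_lit 1, [nat_lit 0x25688, nat_lit 0x23a88, nat_lit 0x198a8], [(nat_lit 5, nat_lit 0x198a8, nat_lit 1), (nat_lit 4, nat_lit 0x25688, nat_lit 5), (nat_lit 3, nat_lit 0x198a8, nat_lit 5)], nat_lit 0x3a, nat_lit 0x662a19aa094a600000b1a200000, nat_lit 0x2ea819aa094a600000b1a200000⟩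
def b_lev3 : Lev := ⟨nat_lit 3, [nat_lit 0x25688, nat_lit 0x23a88], [(nat_lit 5, nat_lit 0x23a88, nat_lit 3), (nat_lit 4, nat_lit 0x25688, nat_lit 5)], nat_lit 0x38, nat_lit 0x8ea22b888b1a200000000000000, nat_lit 0x76222b888b1a200000000000000⟩
def b_lev4 : Lev := ⟨nat_lit 4, [nat_lit 0x25688], [(nat_lit 5, nat_lit 0x25688, nat_lit 4)], nat_lit 0x30, nat_lit 0x95a22c688000000000000000000, nat_lit 0x95a22c688000000000000000000⟩
def b_levels : List Lev := [b_lev0, b_lev1, b_lev2, b_lev3, b_lev4]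

def d_T : List Nat := [nat_lit 0x9adb8c51740362, nat_lit 0x9ac8db70516342]
def d_prog : List (Nat × Nat × Nat) := [(nat_lit 1, nat_lit 1, nat_lit 0), (nat_lit 1, nat_lit 1, nat_lit 0), (nat_lit 0, nat_lit 3, nat_lit 3), (nat_lit 0, nat_lit 0, nat_lit 3), (nat_lit 0, nat_lit 0, nat_lit 4), (nat_lit 0, nat_lit 0, nat_lit 6), (nat_lit 0, nat_lit 0, nat_lit 7), (nat_lit 0, nat_lit 0, nat_lit 8), (nat_lit 0, nat_lit 0, nat_lit 9), (nat_lit 0, nat_lit 8, nat_lit 8), (nat_lit 0, nat_lit 0, nat_lit 8), (nat_lit 0, nat_lit 0, nat_lit 2), (nat_lit 0, nat_lit 12, nat_lit 12), (nat_lit 0, nat_lit 0, nat_lit 14), (nat_lit 0, nat_lit 0, nat_lit 15), (nat_lit 0, nat_lit 0, nat_lit 15), (nat_lit 0, nat_lit 0, nat_lit 16), (nat_lit 0, nat_lit 0, nat_lit 18), (nat_lit 0, nat_lit 0, nat_lit 19), (nat_lit 0, nat_lit 0, nat_lit 19), (nat_lit 0, nat_lit 0, nat_lit 21), (nat_lit 0, nat_lit 0, nat_lit 22), (nat_lit 0,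 nat_lit 0, nat_lit 22), (nat_lit 0, nat_lit 12, nat_lit 0), (nat_lit 0, nat_lit 24, nat_lit 25), (nat_lit 0, nat_lit 0, nat_lit 25), (nat_lit 0, nat_lit 0, nat_lit 26), (nat_lit 0, nat_lit 0, nat_lit 27), (nat_lit 0, nat_lit 0, nat_lit 29), (nat_lit 0, nat_lit 0, nat_lit 29), (nat_lit 0, nat_lit 19, nat_lit 0), (nat_lit 0, nat_lit 6, nat_lit 32), (nat_lit 0, nat_lit 0, nat_lit 33), (nat_lit 0, nat_lit 0, nat_lit 33), (nat_lit 0, nat_lit 0, nat_lit 34), (nat_lit 0, nat_lit 0, nat_lit 36), (nat_lit 0, nat_lit 0, nat_lit 36), (nat_lit 0, nat_lit 0, nat_lit 38), (nat_lit 0, nat_lit 0, nat_lit 38), (nat_lit 0, nat_lit 0, nat_lit 39), (nat_lit 0, nat_lit 0, nat_lit 41), (nat_lit 0, nat_lit 30, nat_lit 40), (nat_lit 0, nat_lit 0, nat_lit 1), (nat_lit 1, nat_lit 31, nat_lit 0), (nat_lit 0, nat_lit 1, nat_lit 13), (nat_lit 0, nat_lit 0, nat_lit 2), (nat_lit 0, nat_lit 0, nat_lit 3), (nat_lit 0, nat_lit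 0, nat_lit 23), (nat_lit 0, nat_lit 0, nat_lit 24), (nat_lit 0, nat_lit 0, nat_lit 18), (nat_lit 0, nat_lit 0, nat_lit 19), (nat_lit 0, nat_lit 0, nat_lit 39), (nat_lit 0, nat_lit 0, nat_lit 40), (nat_lit 0, nat_lit 41, nat_lit 22), (nat_lit 0, nat_lit 0, nat_lit 11), (nat_lit 0, nat_lit 0, nat_lit 24), (nat_lit 0, nat_lit 0, nat_lit 32), (nat_lit 0, nat_lit 0, nat_lit 33), (nat_lit 0, nat_lit 0, nat_lit 46), (nat_lit 0, nat_lit 0, nat_lit 16), (nat_lit 0, nat_lit 0, nat_lit 36), (nat_lit 0, nat_lit 0, nat_lit 18), (nat_lit 0, nat_lit 0, nat_lit 31), (nat_lit 0, nat_lit 19, nat_lit 0), (nat_lit 0, nat_lit 40, nat_lit 21), (nat_lit 0, nat_lit 0, nat_lit 34), (nat_lit 0, nat_lit 0, nat_lit 42), (nat_lit 0, nat_lit 0, nat_lit 36), (nat_lit 0, nat_lit 0, nat_lit 56), (nat_lit 0, nat_lit 0, nat_lit 57), (nat_lit 0, nat_lit 0, nat_lit 46), (nat_lit 0, nat_lit 0, nat_lit 40), (nat_lit 0, nat_lit 28, nat_lit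 0), (nat_lit 1, nat_lit 20, nat_lit 0), (nat_lit 1, nat_lit 1, nat_lit 0), (nat_lit 0, nat_lit 2, nat_lit 22), (nat_lit 0, nat_lit 0, nat_lit 12), (nat_lit 0, nat_lit 0, nat_lit 24), (nat_lit 0, nat_lit 0, nat_lit 14), (nat_lit 0, nat_lit 0, nat_lit 15), (nat_lit 0, nat_lit 0, nat_lit 27), (nat_lit 0, nat_lit 7, nat_lit 6), (nat_lit 0, nat_lit 0, nat_lit 1), (nat_lit 0, nat_lit 30, nat_lit 10), (nat_lit 0, nat_lit 0, nat_lit 31), (nat_lit 0, nat_lit 0, nat_lit 21), (nat_lit 0, nat_lit 0, nat_lit 13), (nat_lit 0, nat_lit 0, nat_lit 14), (nat_lit 0, nat_lit 0, nat_lit 24), (nat_lit 0, nat_lit 0, nat_lit 36), (nat_lit 0, nat_lit 0, nat_lit 26), (nat_lit 0, nat_lit 17, nat_lit 0), (nat_lit 1, nat_lit 9, nat_lit 0), (nat_lit 0, nat_lit 1, nat_lit 10), (nat_lit 0, nat_lit 0, nat_lit 2), (nat_lit 0, nat_lit 0, nat_lit 12), (nat_lit 0, nat_lit 0, nat_lit 4), (nat_lit 0, nat_lit 0, nat_lit 14), (nat_lit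 0, nat_lit 0, nat_lit 6), (nat_lit 0, nat_lit 0, nat_lit 7), (nat_lit 0, nat_lit 0, nat_lit 17), (nat_lit 0, nat_lit 8, nat_lit 0)]
def d_lev0 : Lev := ⟨nat_lit 0, [nat_lit 0x9bc8da52743610, nat_lit 0x89abcd53746210, nat_lit 0xbadc8954763210, nat_lit 0xac9db876512340, nat_lit 0x9adb8c51740362], [(nat_lit 2, nat_lit 0x9adb8c51740362, nat_lit 0), (nat_lit 6, nat_lit 0x9bc8da52743610, nat_lit 2), (nat_lit 3, nat_lit 0xac9db876512340, nat_lit 2), (nat_lit 4, nat_lit 0xbadc8954763210, nat_lit 6), (nat_lit 1, nat_lit 0x9adb8c51740362, nat_lit 6)], nat_lit 0x5f, nat_lit 0xd89cab7154032600000000000000b98acd51760324bda98c547102639adb8c517403629c8abd56742031dcba9876543210, nat_lit 0xda89bc705421630000000000000089dacb54702163c8dba951760243b8acd9517420638c9adb56741302dcba9876543210⟩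
def d_lev1 : Lev := ⟨nat_lit 1, [nat_lit 0x9bc8da52743610, nat_lit 0x89abcd53746210, nat_lit 0xbadc8954763210, nat_lit 0xac9db876512340], [(nat_lit 4, nat_lit 0xac9db876512340, nat_lit 1), (nat_lit 6, nat_lit 0xbadc8954763210, nat_lit 4), (nat_lit 2, nat_lit 0x9bc8da52743610, nat_lit 6), (nat_lit 3, nat_lit 0x89abcd53746210, nat_lit 6)], nat_lit 0x5e, nat_lit 0xca8bd95471236000000000000000ac9db8765123409bda8c74512630b8ac9d74516320dcba987654321000000000000000, nat_lit 0x9dac8b5176234000000000000000ac9db876512340b8cad9725613408adb9c73562140dcba987654321000000000000000⟩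
def d_lev2 : Lev := ⟨nat_lit 4, [nat_lit 0x9bc8da52743610, nat_lit 0x89abcd53746210, nat_lit 0xbadc8954763210], [(nat_lit 6, nat_lit 0xbadc8954763210, nat_lit 4), (nat_lit 2, nat_lit 0x9bc8da52743610, nat_lit 6), (nat_lit 3, nat_lit 0x89abcd53746210, nat_lit 6)], nat_lit 0x5c, nat_lit 0xbadc895476321000000000000000dcba9876543210ab89dc74536210c89bad745236100000000000000000000000000000, nat_lit 0xbadc895476321000000000000000dcba987654321098cdab735642108da9bc725634100000000000000000000000000000⟩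
def d_lev3 : Lev := ⟨nat_lit 3, [nat_lit 0x9bc8da52743610, nat_lit 0x89abcd53746210], [(nat_lit 6, nat_lit 0x89abcd53746210, nat_lit 3), (nat_lit 2, nat_lit 0x9bc8da52743610, nat_lit 6)], nat_lit 0x4c, nat_lit 0x89abcd537462100000000000000000000000000000dcba9876543210ad8cb9735426100000000000000000000000000000, nat_lit 0x89abcd537462100000000000000000000000000000dcba9876543210ca9d8b725463100000000000000000000000000000⟩
def d_lev4 : Lev := ⟨nat_lit 2, [nat_lit 0x9bc8da52743610], [(nat_lit 6, nat_lit 0x9bc8da52743610, nat_lit 2)], nat_lit 0x44, nat_lit 0x9bc8da52743610000000000000000000000000000000000000000000dcba98765432100000000000000000000000000000, nat_lit 0x9bc8da52743610000000000000000000000000000000000000000000dcba98765432100000000000000000000000000000⟩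
def d_levels : List Lev := [d_lev0, d_lev1, d_lev2, d_lev3, d_lev4]

def Ds : List (Nat × Nat × Nat) := [(nat_lit 0xa7c0f2, nat_lit 0xaac4, nat_lit 0x9adb8c51740362), (nat_lit 0xe29ce2, nat_lit 0xa82b, nat_lit 0x9ac8db70516342)]
theorem hid2 : ∀ i < 6, app 3 7 0x2c688 i = i := by decide +kernel

theorem diag : allL (diagOK 4 15 6 3 7 0x2c688) Ds = true := by decide +kernel

theorem check2 : checkAll 6 3 7 18 0x3ffff 0x2c688 (Ds.map (·.2.1)) b_prog b_levels = true := by decide +kernel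

theorem check3 : checkAll (8 + 6) 4 15 56 0xffffffffffffff 0xdcba9876543210 (Ds.map (·.2.2)) d_prog d_levels = true := by decide +kernel

theorem check1 : checkAll 8 3 7 24 0xffffff idc8 (Ds.map (·.1)) prog levels = true := by decide +kernel

theorem o1 : orderC d_levels = orderC levels := by decide +kernel

theorem o2 : orderC d_levels = orderC b_levels := by decide +kernel

theorem o3 : orderC b_levels = Nat.factorial 6 := by decide +kernel

theorem self : Excl (HH T) → Target (HH T) := fun _ =>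
  Or.inr (Or.inr (Or.inl (exists_iso_perm (k := 6) (by decide +kernel) hm8 hid2 diag check1 check2 check3 o1 o2 o3)))

theorem concl : Concl Amb.gA T := by
  refine concl_of_step valid check stepc (by decide +kernel) self ?_
  intro t ht

  simp only [targets, List.mem_cons, List.not_mem_nil, or_false] at ht
  rcases ht with rfl
  · exact N00.concl

end Cfsg.Agent.Lib.OverLat.A8.N07
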