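import Cfsg.Agent.Lib.OverLat.A8.Common
import Cfsg.Agent.Lib.OverLat.A8.Amb
import Cfsg.Agent.Lib.OverLat.A8.N00

set_option autoImplicit false
set_option linter.unusedSectionVars false
set_option maxRecDepth 1000000

namespace Cfsg.Agent.Lib.OverLat.A8.N08

open Cfsg.Agent.Lib.PermComp.Core Cfsg.Agent.Lib.OverLat.Core Cfsg.Agent.Lib.OverLat.Basic Cfsg.Agent.Lib.OverLat.A8.Common

def T : List Nat := [nat_lit 0x1ab87a, nat_lit 0x777850]
def prog : List (Nat × Nat × Nat) := [(nat_lit 1, nat_lit 1, nat_lit 0), (nat_lit 1, nat_lit 1, nat_lit 0), (nat_lit 0, nat_lit 2, nat_lit 2), (nat_lit 0, nat_lit 0, nat_lit 4), (nat_lit 0, nat_lit 0, nat_lit 5), (nat_lit 0, nat_lit 0, nat_lit 6), (nat_lit 0, nat_lit 0, nat_lit 6), (nat_lit 0, nat_lit 6, nat_lit 6), (nat_lit 0, nat_lit 0, nat_lit 7), (nat_lit 0, nat_lit 0, nat_lit 7), (nat_lit 0, nat_lit 0, nat_lit 9), (nat_lit 0, nat_lit 0, nat_lit 4), (nat_lit 0, nat_lit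 13, nat_lit 13), (nat_lit 0, nat_lit 0, nat_lit 14), (nat_lit 0, nat_lit 0, nat_lit 15), (nat_lit 0, nat_lit 0, nat_lit 15), (nat_lit 0, nat_lit 0, nat_lit 16), (nat_lit 0, nat_lit 0, nat_lit 18), (nat_lit 0, nat_lit 0, nat_lit 19), (nat_lit 0, nat_lit 0, nat_lit 20), (nat_lit 0, nat_lit 0, nat_lit 20), (nat_lit 0, nat_lit 0, nat_lit 22), (nat_lit 0, nat_lit 0, nat_lit 23), (nat_lit 1, nat_lit 11, nat_lit 0), (nat_lit 1, nat_lit 1, nat_lit 0), (nat_lit 0, nat_lit 13, nat_lit 2), (nat_lit 0, nat_lit 0, nat_lit 14), (nat_lit 0, nat_lit 0, nat_lit 15), (nat_lit 0, nat_lit 4, nat_lit 3), (nat_lit 0, nat_lit 0, nat_lit 1), (nat_lit 0, nat_lit 18, nat_lit 18), (nat_lit 0, nat_lit 0, nat_lit 8), (nat_lit 0, nat_lit 0, nat_lit 9), (nat_lit 0, nat_lit 0, nat_lit 21), (nat_lit 0, nat_lit 0, nat_lit 22), (nat_lit 0, nat_lit 0, nat_lit 12), (nat_lit 0, nat_lit 0, nat_lit 24), (nat_lit 0, nat_lit 0, nat_lit 25), (nat_lit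 0, nat_lit 0, nat_lit 26), (nat_lit 0, nat_lit 0, nat_lit 16), (nat_lit 0, nat_lit 0, nat_lit 28), (nat_lit 0, nat_lit 18, nat_lit 29), (nat_lit 0, nat_lit 0, nat_lit 30), (nat_lit 0, nat_lit 0, nat_lit 20), (nat_lit 0, nat_lit 0, nat_lit 32), (nat_lit 0, nat_lit 0, nat_lit 22), (nat_lit 0, nat_lit 0, nat_lit 34), (nat_lit 0, nat_lit 0, nat_lit 24), (nat_lit 0, nat_lit 19, nat_lit 0), (nat_lit 1, nat_lit 19, nat_lit 0), (nat_lit 1, nat_lit 9, nat_lit 0), (nat_lit 0, nat_lit 2, nat_lit 21), (nat_lit 0, nat_lit 0, nat_lit 19), (nat_lit 0, nat_lit 0, nat_lit 20), (nat_lit 0, nat_lit 3, nat_lit 0), (nat_lit 0, nat_lit 22, nat_lit 6), (nat_lit 0, nat_lit 0, nat_lit 26), (nat_lit 0, nat_lit 0, nat_lit 27), (nat_lit 0, nat_lit 0, nat_lit 25), (nat_lit 0, nat_lit 0, nat_lit 10), (nat_lit 0, nat_lit 0, nat_lit 30), (nat_lit 0, nat_lit 0, nat_lit 31), (nat_lit 0, nat_lit 0, nat_lit 29), (nat_lit 0, nat_lit 0, nat_lit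 14), (nat_lit 0, nat_lit 0, nat_lit 31), (nat_lit 0, nat_lit 15, nat_lit 14), (nat_lit 0, nat_lit 0, nat_lit 1), (nat_lit 1, nat_lit 12, nat_lit 0), (nat_lit 1, nat_lit 1, nat_lit 0), (nat_lit 0, nat_lit 2, nat_lit 14), (nat_lit 0, nat_lit 0, nat_lit 3), (nat_lit 0, nat_lit 0, nat_lit 4), (nat_lit 0, nat_lit 0, nat_lit 17), (nat_lit 0, nat_lit 0, nat_lit 18), (nat_lit 0, nat_lit 0, nat_lit 7), (nat_lit 0, nat_lit 0, nat_lit 20), (nat_lit 0, nat_lit 0, nat_lit 21), (nat_lit 0, nat_lit 9, nat_lit 8), (nat_lit 0, nat_lit 0, nat_lit 1)]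
def lev0 : Lev := ⟨nat_lit 0, [nat_lit 0x977688, nat_lit 0x774e88, nat_lit 0x9aa7c8, nat_lit 0x9af298, nat_lit 0x1ab87a], [(nat_lit 2, nat_lit 0x1ab87a, nat_lit 0), (nat_lit 7, nat_lit 0x9aa7c8, nat_lit 2), (nat_lit 1, nat_lit 0x1ab87a, nat_lit 2), (nat_lit 4, nat_lit 0x977688, nat_lit 7), (nat_lit 3, nat_lit 0x774e88, nat_lit 7)], nat_lit 0x9f, nat_lit 0x1ab46700000000000017347c1774631ab87a5ac7c1fac688, nat_lit 0x1a98d70000000000003708d79710d73ab8175ac7c1fac688⟩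
def lev1 : Lev := ⟨nat_lit 1, [nat_lit 0x977688, nat_lit 0x774e88, nat_lit 0x9aa7c8, nat_lit 0x9af298], [(nat_lit 3, nat_lit 0x9af298, nat_lit 1), (nat_lit 7, nat_lit 0x774e88, nat_lit 3), (nat_lit 4, nat_lit 0x977688, nat_lit 7), (nat_lit 2, nat_lit 0x9aa7c8, nat_lit 4)], nat_lit 0x9e, nat_lit 0x9732b8000000000000fab2a09af2989ab3d0fac688000000, nat_lit 0x377898000000000000fa98989af2985af858fac688000000⟩
def lev2 : Lev := ⟨nat_lit 2, [nat_lit 0x977688, nat_lit 0x774e88, nat_lit 0x9aa7c8], [(nat_lit 7, nat_lit 0x9aa7c8, nat_lit 2), (nat_lit 4, nat_lit 0x977688, nat_lit 7), (nat_lit 3, nat_lit 0x774e88, nat_lit 7)], nat_lit 0x9c, nat_lit 0x9aa7c8000000000000f72708972ec8fac688000000000000, nat_lit 0x5af708000000000000f72708777508fac688000000000000⟩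
def lev3 : Lev := ⟨nat_lit 3, [nat_lit 0x977688, nat_lit 0x774e88], [(nat_lit 7, nat_lit 0x774e88, nat_lit 3), (nat_lit 4, nat_lit 0x977688, nat_lit 7)], nat_lit 0x98, nat_lit 0x774e880000000000007af888fac688000000000000000000, nat_lit 0x774e880000000000009abe88fac688000000000000000000⟩
def lev4 : Lev := ⟨nat_lit 4, [nat_lit 0x977688], [(nat_lit 7, nat_lit 0x977688, nat_lit 4)], nat_lit 0x90, nat_lit 0x977688000000000000fac688000000000000000000000000, nat_lit 0x977688000000000000fac688000000000000000000000000⟩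
def levels : List Lev := [lev0, lev1, lev2, lev3, lev4]

theorem valid : allL (validC 8 3 7 idc8) T = true := by decide +kernel

theorem check : checkAll 8 3 7 24 0xffffff idc8 T prog levels = true := by decide +kernel

def targets : List (List Nat) := [N00.T]
def cert : StepCert where
  N := nat_lit 28
  b := nat_lit 5
  bm := nat_lit 31
  U := nat_lit 0xa46ee2c55627cbd2e0c859d9a665d8c3d662a9e067a7e8c2c5d817d1de88a26e99ca57c1afe850c1d87ade5688dec650af407acab067c6f8c2a73817b33e88d287cac2ce99ab47c1cef850a3387abf4688fac688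
  V := nat_lit 0x7394351e1772be15985e338553d2f0be1616139b93b3b4311e3a727e6a8873d2865e5781b3bc503e3a16de5688dec65037cc131e99939eb43117b87277e8885ee60c7ec28657c7819ebc5037b816d7c688fac688
  tabsA := [(nat_lit 0x8c73aa, nat_lit 0x500e4641064d321be9b1988a37db0bdd64e), (nat_lit 0x972e19, nat_lit 0x9ba3baded27e7586d20760963511050a4c0)]
  tabsL := [(nat_lit 0x1ab87a, nat_lit 0xcd37a7e2f66cab38c1c53a58158d4831040), (nat_lit 0x777850, nat_lit 0xc6a7bcbaf5836d4945eb3208a6044939460)]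
  rt := nat_lit 0x6b5ad6b5ad6b5ad6b5a1084210842108420
  par := nat_lit 0xc62f6ac63083dce6b4073948418c4208400
  gi := nat_lit 0x8020004010042008001000200802008000
  rootMask := nat_lit 0x2002
  roots := [(nat_lit 1, nat_lit 0, [nat_lit 0x1b44a4ca, nat_lit 0xdb693]), (nat_lit 13, nat_lit 0, [nat_lit 0x1b4522ca, nat_lit 0xdb693])]

theorem stepc : stepCheck 8 3 7 24 0xffffff idc8 levels targets T cert = true := by decide +kernel

def b_T : List Nat := [nat_lit 0x25443, nat_lit 0x1d421]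
def b_prog : List (Nat × Nat × Nat) := [(nat_lit 1, nat_lit 1, nat_lit 0), (nat_lit 1, nat_lit 1, nat_lit 0), (nat_lit 0, nat_lit 3, nat_lit 3), (nat_lit 0, nat_lit 0, nat_lit 3), (nat_lit 0, nat_lit 0, nat_lit 4), (nat_lit 0, nat_lit 0, nat_lit 6), (nat_lit 0, nat_lit 0, nat_lit 7), (nat_lit 0, nat_lit 0, nat_lit 7), (nat_lit 0, nat_lit 0, nat_lit 8), (nat_lit 0, nat_lit 0, nat_lit 10), (nat_lit 0, nat_lit 0, nat_lit 11), (nat_lit 0, nat_lit 0, nat_lit 11), (nat_lit 0, nat_lit 0, nat_lit 12), (nat_lit 0, nat_lit 11, nat_lit 11), (nat_lit 0, nat_lit 0, nat_lit 13), (nat_lit 0, nat_lit 0, nat_lit 2), (nat_lit 0, nat_lit 16, nat_lit 17), (nat_lit 0, nat_lit 0, nat_lit 18), (nat_lit 0, nat_lit 0, nat_lit 18), (nat_lit 0, nat_lit 0, nat_lit 20), (nat_lit 0, nat_lit 0, nat_lit 21), (nat_lit 0, nat_lit 22, nat_lit 21), (nat_lit 0, nat_lit 0, nat_lit 23), (nat_lit 0, nat_lit 0, nat_lit 23), (nat_lit 0, nat_lit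 24, nat_lit 24), (nat_lit 0, nat_lit 0, nat_lit 25), (nat_lit 0, nat_lit 0, nat_lit 26), (nat_lit 0, nat_lit 0, nat_lit 28), (nat_lit 0, nat_lit 0, nat_lit 28), (nat_lit 0, nat_lit 0, nat_lit 30), (nat_lit 0, nat_lit 0, nat_lit 31), (nat_lit 0, nat_lit 0, nat_lit 32), (nat_lit 0, nat_lit 0, nat_lit 32), (nat_lit 0, nat_lit 19, nat_lit 0), (nat_lit 0, nat_lit 9, nat_lit 35), (nat_lit 0, nat_lit 0, nat_lit 35), (nat_lit 0, nat_lit 22, nat_lit 0), (nat_lit 1, nat_lit 21, nat_lit 0), (nat_lit 1, nat_lit 14, nat_lit 0), (nat_lit 1, nat_lit 18, nat_lit 0), (nat_lit 0, nat_lit 3, nat_lit 19), (nat_lit 0, nat_lit 0, nat_lit 4), (nat_lit 0, nat_lit 0, nat_lit 18), (nat_lit 0, nat_lit 0, nat_lit 19), (nat_lit 0, nat_lit 28, nat_lit 10), (nat_lit 0, nat_lit 0, nat_lit 11), (nat_lit 0, nat_lit 0, nat_lit 30), (nat_lit 0, nat_lit 0, nat_lit 23), (nat_lit 0, nat_lit 9, nat_lit 0), (nat_lit 0, nat_lit 33, nat_lit 28),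 (nat_lit 0, nat_lit 0, nat_lit 34), (nat_lit 0, nat_lit 0, nat_lit 27), (nat_lit 0, nat_lit 0, nat_lit 18), (nat_lit 0, nat_lit 0, nat_lit 19), (nat_lit 0, nat_lit 0, nat_lit 38), (nat_lit 0, nat_lit 0, nat_lit 39), (nat_lit 0, nat_lit 0, nat_lit 19), (nat_lit 0, nat_lit 0, nat_lit 20), (nat_lit 0, nat_lit 20, nat_lit 18), (nat_lit 0, nat_lit 0, nat_lit 1), (nat_lit 0, nat_lit 44, nat_lit 23), (nat_lit 0, nat_lit 0, nat_lit 37), (nat_lit 0, nat_lit 0, nat_lit 25), (nat_lit 0, nat_lit 0, nat_lit 39), (nat_lit 0, nat_lit 0, nat_lit 27), (nat_lit 0, nat_lit 0, nat_lit 44), (nat_lit 0, nat_lit 0, nat_lit 50), (nat_lit 0, nat_lit 0, nat_lit 43), (nat_lit 0, nat_lit 0, nat_lit 52), (nat_lit 1, nat_lit 25, nat_lit 0), (nat_lit 0, nat_lit 26, nat_lit 26), (nat_lit 0, nat_lit 0, nat_lit 22), (nat_lit 0, nat_lit 0, nat_lit 3), (nat_lit 0, nat_lit 0, nat_lit 13), (nat_lit 0, nat_lit 4, nat_lit 0), (nat_lit 0, nat_lit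 15, nat_lit 31), (nat_lit 0, nat_lit 0, nat_lit 16), (nat_lit 0, nat_lit 0, nat_lit 17), (nat_lit 0, nat_lit 0, nat_lit 18), (nat_lit 0, nat_lit 0, nat_lit 30), (nat_lit 0, nat_lit 10, nat_lit 0), (nat_lit 1, nat_lit 6, nat_lit 0), (nat_lit 0, nat_lit 1, nat_lit 1), (nat_lit 0, nat_lit 0, nat_lit 2), (nat_lit 0, nat_lit 0, nat_lit 9), (nat_lit 0, nat_lit 0, nat_lit 4), (nat_lit 0, nat_lit 0, nat_lit 5), (nat_lit 0, nat_lit 0, nat_lit 12), (nat_lit 0, nat_lit 0, nat_lit 7), (nat_lit 0, nat_lit 0, nat_lit 8), (nat_lit 0, nat_lit 0, nat_lit 9), (nat_lit 0, nat_lit 9, nat_lit 0)]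
def b_lev0 : Lev := ⟨nat_lit 0, [nat_lit 0x1ca88, nat_lit 0x25688, nat_lit 0x19aa0, nat_lit 0x2a8c8, nat_lit 0x25443], [(nat_lit 3, nat_lit 0x25443, nat_lit 0), (nat_lit 5, nat_lit 0x1ca88, nat_lit 3), (nat_lit 4, nat_lit 0x2a8c8, nat_lit 3), (nat_lit 2, nat_lit 0x25443, nat_lit 3), (nat_lit 1, nat_lit 0x19aa0, nat_lit 4)], nat_lit 0x3f, nat_lit 0x8d11556449510ec21a4ec06c688, nat_lit 0x16346075194346c21a6a506c688⟩
def b_lev1 : Lev := ⟨nat_lit 2, [nat_lit 0x1ca88, nat_lit 0x25688, nat_lit 0x19aa0, nat_lit 0x2a8c8], [(nat_lit 3, nat_lit 0x2a8c8, nat_lit 2), (nat_lit 5, nat_lit 0x1ca88, nat_lit 3), (nat_lit 4, nat_lit 0x2a8c8, nat_lit 3), (nat_lit 1, nat_lit 0x19aa0, nat_lit 4)], nat_lit 0x3e, nat_lit 0x6a522b508aa322c688751800000, nat_lit 0x4ec22a8c8ad422c68886b400000⟩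
def b_lev2 : Lev := ⟨nat_lit 1, [nat_lit 0x1ca88, nat_lit 0x25688, nat_lit 0x19aa0], [(nat_lit 4, nat_lit 0x19aa0, nat_lit 1), (nat_lit 5, nat_lit 0x25688, nat_lit 4), (nat_lit 3, nat_lit 0x1ca88, nat_lit 5)], nat_lit 0x3a, nat_lit 0x662a19aa0a62600000b1a200000, nat_lit 0x2ea819aa0aca800000b1a200000⟩
def b_lev3 : Lev := ⟨nat_lit 4, [nat_lit 0x1ca88, nat_lit 0x25688], [(nat_lit 5, nat_lit 0x25688, nat_lit 4), (nat_lit 3, nat_lit 0x1ca88, nat_lit 5)], nat_lit 0x38, nat_lit 0x95a22c6888ea200000000000000, nat_lit 0x95a22c688762200000000000000⟩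
def b_lev4 : Lev := ⟨nat_lit 3, [nat_lit 0x1ca88], [(nat_lit 5, nat_lit 0x1ca88, nat_lit 3)], nat_lit 0x28, nat_lit 0x72a200000b1a200000000000000, nat_lit 0x72a200000b1a200000000000000⟩
def b_levels : List Lev := [b_lev0, b_lev1, b_lev2, b_lev3, b_lev4]

def d_T : List Nat := [nat_lit 0xcda98b06534172, nat_lit 0xbda8c935674120]
def d_prog : List (Nat × Nat × Nat) := [(nat_lit 1, nat_lit 1, nat_lit 0), (nat_lit 1, nat_lit 1, nat_lit 0), (nat_lit 0, nat_lit 3, nat_lit 3), (nat_lit 0, nat_lit 0, nat_lit 3), (nat_lit 0, nat_lit 0, nat_lit 4), (nat_lit 0, nat_lit 0, nat_lit 6), (nat_lit 0, nat_lit 0, nat_lit 7), (nat_lit 0, nat_lit 0, nat_lit 8), (nat_lit 0, nat_lit 0, nat_lit 9), (nat_lit 0, nat_lit 8, nat_lit 8), (nat_lit 0, nat_lit 0, nat_lit 1), (nat_lit 0, nat_lit 11, nat_lit 11), (nat_lit 0, nat_lit 0, nat_lit 13), (nat_lit 0, nat_lit 0, nat_lit 14), (nat_lit 0, nat_lit 0, nat_lit 14), (nat_lit 0, nat_lit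 0, nat_lit 15), (nat_lit 0, nat_lit 0, nat_lit 17), (nat_lit 0, nat_lit 0, nat_lit 18), (nat_lit 0, nat_lit 0, nat_lit 18), (nat_lit 0, nat_lit 0, nat_lit 20), (nat_lit 0, nat_lit 0, nat_lit 21), (nat_lit 0, nat_lit 0, nat_lit 21), (nat_lit 0, nat_lit 12, nat_lit 21), (nat_lit 0, nat_lit 0, nat_lit 21), (nat_lit 0, nat_lit 0, nat_lit 2), (nat_lit 0, nat_lit 25, nat_lit 26), (nat_lit 0, nat_lit 0, nat_lit 26), (nat_lit 0, nat_lit 0, nat_lit 27), (nat_lit 0, nat_lit 0, nat_lit 28), (nat_lit 0, nat_lit 0, nat_lit 30), (nat_lit 0, nat_lit 0, nat_lit 30), (nat_lit 0, nat_lit 7, nat_lit 0), (nat_lit 0, nat_lit 6, nat_lit 33), (nat_lit 0, nat_lit 0, nat_lit 34), (nat_lit 0, nat_lit 0, nat_lit 34), (nat_lit 0, nat_lit 0, nat_lit 35), (nat_lit 0, nat_lit 0, nat_lit 37), (nat_lit 0, nat_lit 0, nat_lit 37), (nat_lit 0, nat_lit 0, nat_lit 39), (nat_lit 0, nat_lit 0, nat_lit 39), (nat_lit 0, nat_lit 0, nat_lit 40),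 (nat_lit 0, nat_lit 0, nat_lit 42), (nat_lit 0, nat_lit 32, nat_lit 0), (nat_lit 0, nat_lit 31, nat_lit 43), (nat_lit 0, nat_lit 0, nat_lit 44), (nat_lit 0, nat_lit 0, nat_lit 46), (nat_lit 0, nat_lit 0, nat_lit 47), (nat_lit 0, nat_lit 0, nat_lit 47), (nat_lit 0, nat_lit 0, nat_lit 48), (nat_lit 0, nat_lit 0, nat_lit 50), (nat_lit 0, nat_lit 0, nat_lit 51), (nat_lit 1, nat_lit 40, nat_lit 0), (nat_lit 0, nat_lit 41, nat_lit 20), (nat_lit 0, nat_lit 0, nat_lit 2), (nat_lit 0, nat_lit 0, nat_lit 3), (nat_lit 0, nat_lit 0, nat_lit 12), (nat_lit 0, nat_lit 0, nat_lit 24), (nat_lit 0, nat_lit 0, nat_lit 32), (nat_lit 0, nat_lit 0, nat_lit 33), (nat_lit 0, nat_lit 0, nat_lit 48), (nat_lit 0, nat_lit 0, nat_lit 17), (nat_lit 0, nat_lit 0, nat_lit 36), (nat_lit 0, nat_lit 19, nat_lit 37), (nat_lit 0, nat_lit 0, nat_lit 31), (nat_lit 0, nat_lit 0, nat_lit 21), (nat_lit 0, nat_lit 0, nat_lit 14), (nat_lit 0, nat_lit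 0, nat_lit 34), (nat_lit 0, nat_lit 0, nat_lit 16), (nat_lit 0, nat_lit 0, nat_lit 43), (nat_lit 0, nat_lit 17, nat_lit 0), (nat_lit 1, nat_lit 8, nat_lit 0), (nat_lit 1, nat_lit 1, nat_lit 0), (nat_lit 0, nat_lit 2, nat_lit 10), (nat_lit 0, nat_lit 0, nat_lit 11), (nat_lit 0, nat_lit 0, nat_lit 4), (nat_lit 0, nat_lit 0, nat_lit 13), (nat_lit 0, nat_lit 5, nat_lit 0), (nat_lit 0, nat_lit 15, nat_lit 15), (nat_lit 0, nat_lit 0, nat_lit 8), (nat_lit 0, nat_lit 0, nat_lit 9), (nat_lit 0, nat_lit 0, nat_lit 18), (nat_lit 0, nat_lit 0, nat_lit 19), (nat_lit 0, nat_lit 0, nat_lit 12), (nat_lit 0, nat_lit 0, nat_lit 21), (nat_lit 0, nat_lit 0, nat_lit 14), (nat_lit 0, nat_lit 13, nat_lit 0), (nat_lit 1, nat_lit 9, nat_lit 0), (nat_lit 0, nat_lit 10, nat_lit 10), (nat_lit 0, nat_lit 0, nat_lit 2), (nat_lit 0, nat_lit 0, nat_lit 12), (nat_lit 0, nat_lit 0, nat_lit 4), (nat_lit 0, nat_lit 0, nat_lit 5), (nat_lit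 0, nat_lit 0, nat_lit 15), (nat_lit 0, nat_lit 0, nat_lit 7), (nat_lit 0, nat_lit 0, nat_lit 8), (nat_lit 0, nat_lit 0, nat_lit 18), (nat_lit 0, nat_lit 9, nat_lit 0)]
def d_lev0 : Lev := ⟨nat_lit 0, [nat_lit 0xbadc8945673210, nat_lit 0x8da9bc16573240, nat_lit 0xcd89ab25643710, nat_lit 0xab89dc46537210, nat_lit 0xcda98b06534172], [(nat_lit 2, nat_lit 0xcda98b06534172, nat_lit 0), (nat_lit 7, nat_lit 0xcd89ab25643710, nat_lit 2), (nat_lit 1, nat_lit 0xcda98b06534172, nat_lit 2), (nat_lit 4, nat_lit 0xbadc8945673210, nat_lit 7), (nat_lit 3, nat_lit 0xab89dc46537210, nat_lit 4)], nat_lit 0x9f, nat_lit 0xdc9ab8056341270000000000000000000000000000ba8cd90653712489cbad06574123cda98b06534172dc98ba26543701dcba9876543210, nat_lit 0xdc9ab80563412700000000000000000000000000009adc8b365041278ba9cd46530127cd8ba916534027dc98ba26543701dcba9876543210⟩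
def d_lev1 : Lev := ⟨nat_lit 3, [nat_lit 0xbadc8945673210, nat_lit 0x8da9bc16573240, nat_lit 0xcd89ab25643710, nat_lit 0xab89dc46537210], [(nat_lit 7, nat_lit 0xab89dc46537210, nat_lit 3), (nat_lit 4, nat_lit 0xbadc8945673210, nat_lit 7), (nat_lit 1, nat_lit 0x8da9bc16573240, nat_lit 7), (nat_lit 2, nat_lit 0xcd89ab25643710, nat_lit 7)], nat_lit 0x9e, nat_lit 0xab89dc465372100000000000000000000000000000cd98ba75634210dcba987654321098bacd456327109acb8d7653124000000000000000, nat_lit 0x98cdab365742100000000000000000000000000000cd98ba75634210dcba987654321089badc256743108bacd97651423000000000000000⟩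
def d_lev2 : Lev := ⟨nat_lit 2, [nat_lit 0xbadc8945673210, nat_lit 0x8da9bc16573240, nat_lit 0xcd89ab25643710], [(nat_lit 7, nat_lit 0xcd89ab25643710, nat_lit 2), (nat_lit 4, nat_lit 0xbadc8945673210, nat_lit 7), (nat_lit 1, nat_lit 0x8da9bc16573240, nat_lit 7)], nat_lit 0x96, nat_lit 0xcd89ab256437100000000000000000000000000000ab98cd2657341000000000000000dcba9876543210d8cb9a2567314000000000000000, nat_lit 0xcd89ab25643710000000000000000000000000000089cdba4652371000000000000000dcba9876543210dba89c4561372000000000000000⟩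
def d_lev3 : Lev := ⟨nat_lit 1, [nat_lit 0xbadc8945673210, nat_lit 0x8da9bc16573240], [(nat_lit 4, nat_lit 0x8da9bc16573240, nat_lit 1), (nat_lit 7, nat_lit 0xbadc8945673210, nat_lit 4)], nat_lit 0x92, nat_lit 0x9bc8da1564327000000000000000000000000000008da9bc165732400000000000000000000000000000dcba987654321000000000000000, nat_lit 0x9bc8da156432700000000000000000000000000000c89bad465132700000000000000000000000000000dcba987654321000000000000000⟩
def d_lev4 : Lev := ⟨nat_lit 4, [nat_lit 0xbadc8945673210], [(nat_lit 7, nat_lit 0xbadc8945673210, nat_lit 4)], nat_lit 0x90, nat_lit 0xbadc89456732100000000000000000000000000000dcba987654321000000000000000000000000000000000000000000000000000000000, nat_lit 0xbadc89456732100000000000000000000000000000dcba987654321000000000000000000000000000000000000000000000000000000000⟩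
def d_levels : List Lev := [d_lev0, d_lev1, d_lev2, d_lev3, d_lev4]

def Ds : List (Nat × Nat × Nat) := [(nat_lit 0x1ab87a, nat_lit 0x25443, nat_lit 0xcda98b06534172), (nat_lit 0x777850, nat_lit 0x1d421, nat_lit 0xbda8c935674120)]
theorem hid2 : ∀ i < 6, app 3 7 0x2c688 i = i := by decide +kernel

theorem diag : allL (diagOK 4 15 6 3 7 0x2c688) Ds = true := by decide +kernel

theorem check2 : checkAll 6 3 7 18 0x3ffff 0x2c688 (Ds.map (·.2.1)) b_prog b_levels = true := by decide +kernel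

theorem check3 : checkAll (8 + 6) 4 15 56 0xffffffffffffff 0xdcba9876543210 (Ds.map (·.2.2)) d_prog d_levels = true := by decide +kernel

theorem check1 : checkAll 8 3 7 24 0xffffff idc8 (Ds.map (·.1)) prog levels = true := by decide +kernel

theorem o1 : orderC d_levels = orderC levels := by decide +kernel

theorem o2 : orderC d_levels = orderC b_levels := by decide +kernel

theorem o3 : orderC b_levels = Nat.factorial 6 := by decide +kernel

theorem self : Excl (HH T) → Target (HH T) := fun _ =>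
  Or.inr (Or.inr (Or.inl (exists_iso_perm (k := 6) (by decide +kernel) hm8 hid2 diag check1 check2 check3 o1 o2 o3)))

theorem concl : Concl Amb.gA T := by
  refine concl_of_step valid check stepc (by decide +kernel) self ?_
  intro t ht

  simp only [targets, List.mem_cons, List.not_mem_nil, or_false] at ht
  rcases ht with rfl
  · exact N00.concl

end Cfsg.Agent.Lib.OverLat.A8.N08
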