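import Cfsg.Agent.Lib.OverLat.A8.Common
import Cfsg.Agent.Lib.OverLat.A8.Amb
import Cfsg.Agent.Lib.OverLat.A8.N00

set_option autoImplicit false
set_option linter.unusedSectionVars false
set_option maxRecDepth 1000000

namespace Cfsg.Agent.Lib.OverLat.A8.N09

open Cfsg.Agent.Lib.PermComp.Core Cfsg.Agent.Lib.OverLat.Core Cfsg.Agent.Lib.OverLat.Basic Cfsg.Agent.Lib.OverLat.A8.Common

def T : List Nat := [nat_lit 0xde8853, nat_lit 0xbb845c]
def prog : List (Nat × Nat × Nat) := [(nat_lit 1, nat_lit 1, nat_lit 0), (nat_lit 1, nat_lit 1, nat_lit 0), (nat_lit 0, nat_lit 2, nat_lit 2), (nat_lit 0, nat_lit 0, nat_lit 4), (nat_lit 0, nat_lit 0, nat_lit 5), (nat_lit 0, nat_lit 0, nat_lit 6), (nat_lit 0, nat_lit 0, nat_lit 6), (nat_lit 0, nat_lit 5, nat_lit 0), (nat_lit 0, nat_lit 9, nat_lit 9), (nat_lit 0, nat_lit 0, nat_lit 10), (nat_lit 0, nat_lit 0, nat_lit 11), (nat_lit 0, nat_lit 0, nat_lit 11), (nat_lit 0, nat_lit 0, nat_lit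 12), (nat_lit 0, nat_lit 0, nat_lit 14), (nat_lit 0, nat_lit 0, nat_lit 15), (nat_lit 0, nat_lit 0, nat_lit 16), (nat_lit 0, nat_lit 0, nat_lit 16), (nat_lit 0, nat_lit 0, nat_lit 18), (nat_lit 0, nat_lit 0, nat_lit 19), (nat_lit 0, nat_lit 18, nat_lit 0), (nat_lit 0, nat_lit 21, nat_lit 20), (nat_lit 0, nat_lit 0, nat_lit 22), (nat_lit 0, nat_lit 0, nat_lit 23), (nat_lit 0, nat_lit 22, nat_lit 0), (nat_lit 0, nat_lit 16, nat_lit 16), (nat_lit 0, nat_lit 0, nat_lit 5), (nat_lit 0, nat_lit 0, nat_lit 6), (nat_lit 0, nat_lit 0, nat_lit 19), (nat_lit 0, nat_lit 0, nat_lit 4), (nat_lit 0, nat_lit 0, nat_lit 21), (nat_lit 0, nat_lit 0, nat_lit 6), (nat_lit 0, nat_lit 0, nat_lit 11), (nat_lit 0, nat_lit 0, nat_lit 8), (nat_lit 0, nat_lit 0, nat_lit 9), (nat_lit 0, nat_lit 0, nat_lit 26), (nat_lit 0, nat_lit 27, nat_lit 15), (nat_lit 0, nat_lit 0, nat_lit 28), (nat_lit 0, nat_lit 0, nat_lit 13), (nat_lit 0, nat_lit 0, nat_lit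 14), (nat_lit 0, nat_lit 0, nat_lit 31), (nat_lit 0, nat_lit 0, nat_lit 16), (nat_lit 0, nat_lit 5, nat_lit 17), (nat_lit 0, nat_lit 0, nat_lit 18), (nat_lit 0, nat_lit 0, nat_lit 23), (nat_lit 0, nat_lit 0, nat_lit 24), (nat_lit 0, nat_lit 0, nat_lit 25), (nat_lit 1, nat_lit 5, nat_lit 0), (nat_lit 0, nat_lit 1, nat_lit 6), (nat_lit 0, nat_lit 0, nat_lit 7), (nat_lit 0, nat_lit 0, nat_lit 14), (nat_lit 0, nat_lit 0, nat_lit 15), (nat_lit 0, nat_lit 0, nat_lit 5), (nat_lit 0, nat_lit 0, nat_lit 17), (nat_lit 0, nat_lit 0, nat_lit 18), (nat_lit 0, nat_lit 0, nat_lit 8), (nat_lit 0, nat_lit 0, nat_lit 14), (nat_lit 0, nat_lit 0, nat_lit 10), (nat_lit 0, nat_lit 10, nat_lit 0), (nat_lit 0, nat_lit 17, nat_lit 12), (nat_lit 0, nat_lit 0, nat_lit 18), (nat_lit 0, nat_lit 0, nat_lit 19), (nat_lit 0, nat_lit 0, nat_lit 15), (nat_lit 0, nat_lit 0, nat_lit 27), (nat_lit 0, nat_lit 0, nat_lit 28), (nat_lit 0, nat_lit 0, nat_lit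 18), (nat_lit 0, nat_lit 0, nat_lit 24), (nat_lit 1, nat_lit 8, nat_lit 0), (nat_lit 0, nat_lit 9, nat_lit 9), (nat_lit 0, nat_lit 0, nat_lit 2), (nat_lit 0, nat_lit 0, nat_lit 3), (nat_lit 0, nat_lit 0, nat_lit 12), (nat_lit 0, nat_lit 0, nat_lit 13), (nat_lit 0, nat_lit 0, nat_lit 6), (nat_lit 0, nat_lit 0, nat_lit 7), (nat_lit 0, nat_lit 0, nat_lit 8), (nat_lit 0, nat_lit 8, nat_lit 8), (nat_lit 0, nat_lit 0, nat_lit 1)]
def lev0 : Lev := ⟨nat_lit 0, [nat_lit 0xdeb888, nat_lit 0xfaa8c8, nat_lit 0xd7c688, nat_lit 0xf74650, nat_lit 0xde8853], [(nat_lit 3, nat_lit 0xde8853, nat_lit 0), (nat_lit 4, nat_lit 0xdeb888, nat_lit 3), (nat_lit 2, nat_lit 0xfaa8c8, nat_lit 4), (nat_lit 1, nat_lit 0xf74650, nat_lit 2)], nat_lit 0x1f, nat_lit 0xfa8654de8853fa885af70899fac688, nat_lit 0xfa8654deb054fab214f73284fac688⟩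
def lev1 : Lev := ⟨nat_lit 1, [nat_lit 0xdeb888, nat_lit 0xfaa8c8, nat_lit 0xd7c688, nat_lit 0xf74650], [(nat_lit 2, nat_lit 0xf74650, nat_lit 1), (nat_lit 3, nat_lit 0xfaa8c8, nat_lit 2), (nat_lit 4, nat_lit 0xdeb888, nat_lit 3)], nat_lit 0x1e, nat_lit 0xd7a660f72858f74650fac688000000, nat_lit 0xbf1710f73310f74650fac688000000⟩
def lev2 : Lev := ⟨nat_lit 5, [nat_lit 0xdeb888, nat_lit 0xfaa8c8, nat_lit 0xd7c688], [(nat_lit 7, nat_lit 0xd7c688, nat_lit 5), (nat_lit 6, nat_lit 0xdeb888, nat_lit 7)], nat_lit 0xe0, nat_lit 0xd7c688f73888fac688000000000000000000000000000000, nat_lit 0xbf4688f73888fac688000000000000000000000000000000⟩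
def lev3 : Lev := ⟨nat_lit 2, [nat_lit 0xdeb888, nat_lit 0xfaa8c8], [(nat_lit 3, nat_lit 0xfaa8c8, nat_lit 2), (nat_lit 4, nat_lit 0xdeb888, nat_lit 3)], nat_lit 0x1c, nat_lit 0xdea708faa8c8fac688000000000000, nat_lit 0xdea708fab508fac688000000000000⟩
def lev4 : Lev := ⟨nat_lit 3, [nat_lit 0xdeb888], [(nat_lit 4, nat_lit 0xdeb888, nat_lit 3)], nat_lit 0x18, nat_lit 0xdeb888fac688000000000000000000, nat_lit 0xdeb888fac688000000000000000000⟩
def levels : List Lev := [lev0, lev1, lev2, lev3, lev4]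

theorem valid : allL (validC 8 3 7 idc8) T = true := by decide +kernel

theorem check : checkAll 8 3 7 24 0xffffff idc8 T prog levels = true := by decide +kernel

def targets : List (List Nat) := [N00.T]
def cert : StepCert where
  N := nat_lit 56
  b := nat_lit 6
  bm := nat_lit 63
  U := nat_lit 0x5fd54816f5988ddd831fd502d5fa011ebca0d7d4c40dddc80ef53717d48c5de84c55e1ce56ae0a67c98c0faa3d17ac8e85c63c9fb08a9ee44b06e5acc7a54f16a58ae7c50ecea14a57ce0c65e98e46ad4a47ca3e26a8ba1ee8cc17b0be9dc44aa6e58d1fa50f0ead0acfca0ec6a8ca16e5cc27a53f1ea88f95708b8f898f6640bb9f80adcd0d4f4e0a3bd6644bc6711d57858f5e2a0ba70caddd08cd4745cf85853de5688fac688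
  V := nat_lit 0x8d0a777173464e73a88d6a786a1d7851ea0f8d0d4f4e03ee71706e8d6f487e0ab17e0372f195708fd2b09d90ae9de548ee11959dab88738b9173e2159d8c55f1e3508fdc50f18c6a8f95707e52b0f184758f90b5f1d08e738a8e9da14eee0b9173d3909dea50f1e4688f9ca8f18c8d7383569dd056f1ea88fa27489bb2a8f350ca9bba0ade046bf310abd38751d3a6459f3350f31a989bd40bde0a8b9f02d5fa3055de5688fac688
  tabsA := [(nat_lit 0x8c73aa, nat_lit 0x7cf00a3abb0724b50c148944a2da67cc176a0c65d28b099e0a035cd5961559a6f78644768ef4f4c6e432), (nat_lit 0x972e19, nat_lit 0x830c584eb777ce719aca6512bc80ac2b63d08e5d2dd4b71b649b845697e290ca0085645e0c11cd3aa5c5)]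
  tabsL := [(nat_lit 0xde8853, nat_lit 0xbb7c36d72d33c6f8abb1261db55a9a4299287e79a58e181e71b6575944d12c90cd3c738c285201184080), (nat_lit 0xbb845c, nat_lit 0xbafdf1cf6d74cb09ad5135a9aacadba1c9e582385092279f7596985d545238420f30628d2c90870450c0)]
  rt := nat_lit 0xbaebaebaebaebae410410410410410410410410410410410410410410410041041041041041041041040
  par := nat_lit 0xd72c70c2fbeeb809e69658a079d71b6da6996185d75955544d34924504002c92081c7185103082041000
  gi := nat_lit 0x41041001001000001040000000001001000040040001001040040001000000040040040040040040000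
  rootMask := nat_lit 0x400000010002
  roots := [(nat_lit 1, nat_lit 0, [nat_lit 0x29969229b, nat_lit 0x36932d2]), (nat_lit 16, nat_lit 0, [nat_lit 0x365a4d1, nat_lit 0xa2d94d1]), (nat_lit 46, nat_lit 0, [nat_lit 0x12d1253, nat_lit 0x3259451])]

theorem stepc : stepCheck 8 3 7 24 0xffffff idc8 levels targets T cert = true := by decide +kernel

def N_T : List Nat := [nat_lit 0xbf4688]
def N_prog : List (Nat × Nat × Nat) := []
def N_lev0 : Lev := ⟨nat_lit 5, [nat_lit 0xbf4688], [(nat_lit 6, nat_lit 0xbf4688, nat_lit 5), (nat_lit 7, nat_lit 0xbf4688, nat_lit 6)], nat_lit 0xe0, nat_lit 0xd7c688bf4688fac688000000000000000000000000000000, nat_lit 0xbf4688d7c688fac688000000000000000000000000000000⟩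
def N_levels : List Lev := [N_lev0]

theorem validN : allL (validC 8 3 7 idc8) N_T = true := by decide +kernel

theorem checkN : checkAll 8 3 7 24 0xffffff idc8 N_T N_prog N_levels = true := by decide +kernel

theorem normN : normCheck 8 3 7 24 0xffffff idc8 levels N_levels T N_T = true := by decide +kernel

theorem ordN : orderC N_levels = 3 := by decide +kernel

theorem self : Excl (HH T) → Target (HH T) := fun h =>
  absurd h (not_excl valid validN check checkN normN (by rw [ordN]; norm_num) (Or.inr (by rw [ordN]; norm_num)))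

theorem concl : Concl Amb.gA T := by
  refine concl_of_step valid check stepc (by decide +kernel) self ?_
  intro t ht

  simp only [targets, List.mem_cons, List.not_mem_nil, or_false] at ht
  rcases ht with rfl
  · exact N00.concl

end Cfsg.Agent.Lib.OverLat.A8.N09
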