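import Cfsg.Agent.Lib.OverLat.A8.Common
import Cfsg.Agent.Lib.OverLat.A8.Amb
import Cfsg.Agent.Lib.OverLat.A8.N00
import Cfsg.Agent.Lib.OverLat.A8.N01
import Cfsg.Agent.Lib.OverLat.A8.N02
import Cfsg.Agent.Lib.OverLat.A8.N06

set_option autoImplicit false
set_option linter.unusedSectionVars false
set_option maxRecDepth 1000000

namespace Cfsg.Agent.Lib.OverLat.A8.N10

open Cfsg.Agent.Lib.PermComp.Core Cfsg.Agent.Lib.OverLat.Core Cfsg.Agent.Lib.OverLat.Basic Cfsg.Agent.Lib.OverLat.A8.Common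

def T : List Nat := [nat_lit 0xf81b13, nat_lit 0xf9d888]
def prog : List (Nat × Nat × Nat) := [(nat_lit 1, nat_lit 1, nat_lit 0), (nat_lit 0, nat_lit 2, nat_lit 2), (nat_lit 0, nat_lit 3, nat_lit 2), (nat_lit 0, nat_lit 0, nat_lit 4), (nat_lit 0, nat_lit 0, nat_lit 5), (nat_lit 0, nat_lit 4, nat_lit 4), (nat_lit 0, nat_lit 0, nat_lit 1), (nat_lit 0, nat_lit 5, nat_lit 7), (nat_lit 0, nat_lit 0, nat_lit 8), (nat_lit 0, nat_lit 0, nat_lit 10), (nat_lit 0, nat_lit 0, nat_lit 11), (nat_lit 0, nat_lit 0, nat_lit 11), (nat_lit 0, nat_lit 0, nat_lit 13), (nat_lit 0, nat_lit 0, nat_lit 14), (nat_lit 0, nat_lit 0, nat_lit 15), (nat_lit 0, nat_lit 0, nat_lit 15), (nat_lit 0, nat_lit 0, nat_lit 17), (nat_lit 0, nat_lit 16, nat_lit 0), (nat_lit 0, nat_lit 12, nat_lit 9), (nat_lit 1, nat_lit 12, nat_lit 0), (nat_lit 1, nat_lit 2, nat_lit 0), (nat_lit 0, nat_lit 3, nat_lit 2), (nat_lit 0, nat_lit 0, nat_lit 4), (nat_lit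 0, nat_lit 0, nat_lit 5), (nat_lit 0, nat_lit 0, nat_lit 6), (nat_lit 0, nat_lit 0, nat_lit 18), (nat_lit 0, nat_lit 0, nat_lit 19), (nat_lit 0, nat_lit 0, nat_lit 8), (nat_lit 0, nat_lit 0, nat_lit 21), (nat_lit 0, nat_lit 0, nat_lit 22), (nat_lit 0, nat_lit 0, nat_lit 11), (nat_lit 0, nat_lit 10, nat_lit 0), (nat_lit 0, nat_lit 14, nat_lit 14), (nat_lit 0, nat_lit 0, nat_lit 15), (nat_lit 0, nat_lit 0, nat_lit 15), (nat_lit 0, nat_lit 0, nat_lit 17), (nat_lit 0, nat_lit 0, nat_lit 18), (nat_lit 0, nat_lit 0, nat_lit 18), (nat_lit 0, nat_lit 0, nat_lit 31), (nat_lit 0, nat_lit 0, nat_lit 32), (nat_lit 0, nat_lit 0, nat_lit 21), (nat_lit 0, nat_lit 0, nat_lit 23), (nat_lit 0, nat_lit 0, nat_lit 35), (nat_lit 0, nat_lit 9, nat_lit 36), (nat_lit 0, nat_lit 0, nat_lit 25), (nat_lit 0, nat_lit 0, nat_lit 38), (nat_lit 0, nat_lit 26, nat_lit 26), (nat_lit 0, nat_lit 0, nat_lit 1), (nat_lit 0, nat_lit 29,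 nat_lit 30), (nat_lit 0, nat_lit 0, nat_lit 30), (nat_lit 0, nat_lit 0, nat_lit 32), (nat_lit 0, nat_lit 0, nat_lit 32), (nat_lit 0, nat_lit 0, nat_lit 34), (nat_lit 0, nat_lit 0, nat_lit 34), (nat_lit 0, nat_lit 0, nat_lit 36), (nat_lit 0, nat_lit 0, nat_lit 48), (nat_lit 0, nat_lit 36, nat_lit 0), (nat_lit 0, nat_lit 9, nat_lit 0), (nat_lit 0, nat_lit 0, nat_lit 10), (nat_lit 0, nat_lit 0, nat_lit 16)]
def lev0 : Lev := ⟨nat_lit 0, [nat_lit 0xf9d888, nat_lit 0xf93948, nat_lit 0xf91b18, nat_lit 0xf81b13], [(nat_lit 3, nat_lit 0xf81b13, nat_lit 0), (nat_lit 4, nat_lit 0xf9d888, nat_lit 3), (nat_lit 5, nat_lit 0xf91b18, nat_lit 3), (nat_lit 1, nat_lit 0xf91b18, nat_lit 4), (nat_lit 2, nat_lit 0xf93948, nat_lit 5)], nat_lit 0x3f, nat_lit 0xf83465f81754f81b13f84a5af83aa1fac688, nat_lit 0xf818d5f90665f9a065f9c215f99885fac688⟩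
def lev1 : Lev := ⟨nat_lit 1, [nat_lit 0xf9d888, nat_lit 0xf93948, nat_lit 0xf91b18], [(nat_lit 3, nat_lit 0xf91b18, nat_lit 1), (nat_lit 4, nat_lit 0xf9d888, nat_lit 3), (nat_lit 5, nat_lit 0xf91b18, nat_lit 3), (nat_lit 2, nat_lit 0xf93948, nat_lit 5)], nat_lit 0x3e, nat_lit 0xfa3468f91760f91b18f9ca50fac688000000, nat_lit 0xf8d8d0f91760f9a360f9ca50fac688000000⟩
def lev2 : Lev := ⟨nat_lit 2, [nat_lit 0xf9d888, nat_lit 0xf93948], [(nat_lit 5, nat_lit 0xf93948, nat_lit 2), (nat_lit 3, nat_lit 0xf9d888, nat_lit 5), (nat_lit 4, nat_lit 0xf9d888, nat_lit 3)], nat_lit 0x3c, nat_lit 0xf93948f95708f94ac8fac688000000000000, nat_lit 0xf93948fa2748f9c548fac688000000000000⟩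
def lev3 : Lev := ⟨nat_lit 3, [nat_lit 0xf9d888], [(nat_lit 4, nat_lit 0xf9d888, nat_lit 3), (nat_lit 5, nat_lit 0xf9d888, nat_lit 4)], nat_lit 0x38, nat_lit 0xfa3a88f9d888fac688000000000000000000, nat_lit 0xf9d888fa3a88fac688000000000000000000⟩
def levels : List Lev := [lev0, lev1, lev2, lev3]

theorem valid : allL (validC 8 3 7 idc8) T = true := by decide +kernel

theorem check : checkAll 8 3 7 24 0xffffff idc8 T prog levels = true := by decide +kernel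

def targets : List (List Nat) := [N00.T, N06.T, N01.T, N02.T]
def cert : StepCert where
  N := nat_lit 56
  b := nat_lit 6
  bm := nat_lit 63
  U := nat_lit 0x53ea1923e8ea0be35c2be11d4fe82997e419a7e8c287ea8357e62173e42917e45c67e88547eb182fe15443e66583e2d5afe42113e46babe05c33e68537e11363e3540fe4658be06b8fea88a3e3136be06577e88807eb13b3e6887bca881bd3135bb065bbb8883b8b139bd688ef4a88e35313eb3065f73888e70b13f35688de5688cb8665c7d113d3ba88cfd888c39b13d7c6885f06653f51139f3a887f58881f1b13bf4688fac688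
  V := nat_lit 0xb1e3c2b0b43eb1039fb023bbb0bdc2b372c2b3b431b1f0b1b317c2b0eec2b302d7b03eb1b1a3f0b10c7bb017d6b0745eb39cc2b0e0d7b38393b066b9b3207bb10e5eb01cd7b0f193b1fc88b3a05eb01f93b33e88b1a077b3e688b9ce88ba205fb819d3bbb888b9a07cba7688f5cc88f6205ef41993f73888f5a074f66688de5688bc1794be2073bde888be3c88bda066bf4688d417d4d6207bd5f888d63e88d5a067d7c688fac688
  tabsA := [(nat_lit 0x8c73aa, nat_lit 0x3655d62d2b50205a631f13116c66017b4ac03f5576bc2ab32619d3c20528c84b99703b1d88a68e93799f), (nat_lit 0x972e19, nat_lit 0xd6cda20972736115538436eb37421d64f16918b480a8c423b4772f130a147e069e9e50715a6bb73a42b2)]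
  tabsL := [(nat_lit 0xf81b13, nat_lit 0xc33bb7cb6d74a318a582f7eab6c9aba677248e169e75b5995185d541339244f34a30b1c9204185043080), (nat_lit 0xf9d888, nat_lit 0xbf6d74de7b31cf2870ae4a5ebad763aa89a56a281f6dc5185d95563924533d034c2c72882461411020c0)]
  rt := nat_lit 0x69a69a69a69a69a69a69a69a69a69a69a69a69a69a69a51451451438e38e38e3471c71c71c1041041040
  par := nat_lit 0xcf2c70beebacaa79a69238e28a18207de79d71c6da6805965545004103ce38000b2891c7005103041000
  gi := nat_lit 0x40000041001001040001001001040001001040001000040001000040001000000001040000001040000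
  rootMask := nat_lit 0x4106082
  roots := [(nat_lit 1, nat_lit 0, [nat_lit 0x4b4cb45a, nat_lit 0x5b4ca]), (nat_lit 7, nat_lit 0, [nat_lit 0xd969b45a, nat_lit 0xda651]), (nat_lit 13, nat_lit 1, [nat_lit 0x4d26d3, nat_lit 0x4ca]), (nat_lit 14, nat_lit 2, [nat_lit 0x9a451, nat_lit 0x452252]), (nat_lit 20, nat_lit 3, [nat_lit 0x24d1, nat_lit 0x64a28a]), (nat_lit 26, nat_lit 0, [nat_lit 0x1b2d369a, nat_lit 0x369a65b])]

theorem stepc : stepCheck 8 3 7 24 0xffffff idc8 levels targets T cert = true := by decide +kernel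

def b_T : List Nat := [nat_lit 0x29684, nat_lit 0x1d811]
def b_prog : List (Nat × Nat × Nat) := [(nat_lit 1, nat_lit 1, nat_lit 0), (nat_lit 1, nat_lit 1, nat_lit 0), (nat_lit 0, nat_lit 3, nat_lit 3), (nat_lit 0, nat_lit 0, nat_lit 3), (nat_lit 0, nat_lit 0, nat_lit 4), (nat_lit 0, nat_lit 0, nat_lit 6), (nat_lit 0, nat_lit 0, nat_lit 7), (nat_lit 0, nat_lit 0, nat_lit 7), (nat_lit 0, nat_lit 0, nat_lit 8), (nat_lit 0, nat_lit 0, nat_lit 10), (nat_lit 0, nat_lit 0, nat_lit 11), (nat_lit 0, nat_lit 0, nat_lit 11), (nat_lit 0, nat_lit 0, nat_lit 12), (nat_lit 0, nat_lit 12, nat_lit 11), (nat_lit 0, nat_lit 0, nat_lit 12), (nat_lit 0, nat_lit 0, nat_lit 2), (nat_lit 0, nat_lit 16, nat_lit 17), (nat_lit 0, nat_lit 0, nat_lit 18), (nat_lit 0, nat_lit 0, nat_lit 18), (nat_lit 0, nat_lit 0, nat_lit 20), (nat_lit 0, nat_lit 0, nat_lit 21), (nat_lit 0, nat_lit 22, nat_lit 21), (nat_lit 0, nat_lit 0, nat_lit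 23), (nat_lit 0, nat_lit 0, nat_lit 23), (nat_lit 1, nat_lit 8, nat_lit 0), (nat_lit 0, nat_lit 4, nat_lit 1), (nat_lit 0, nat_lit 0, nat_lit 5), (nat_lit 0, nat_lit 0, nat_lit 6), (nat_lit 0, nat_lit 0, nat_lit 4), (nat_lit 0, nat_lit 0, nat_lit 5), (nat_lit 0, nat_lit 0, nat_lit 9), (nat_lit 0, nat_lit 0, nat_lit 15), (nat_lit 0, nat_lit 0, nat_lit 11), (nat_lit 0, nat_lit 0, nat_lit 17), (nat_lit 0, nat_lit 9, nat_lit 0), (nat_lit 0, nat_lit 19, nat_lit 14), (nat_lit 0, nat_lit 0, nat_lit 20), (nat_lit 0, nat_lit 0, nat_lit 16), (nat_lit 0, nat_lit 0, nat_lit 14), (nat_lit 0, nat_lit 0, nat_lit 18), (nat_lit 0, nat_lit 15, nat_lit 0), (nat_lit 1, nat_lit 6, nat_lit 0), (nat_lit 0, nat_lit 7, nat_lit 1), (nat_lit 0, nat_lit 0, nat_lit 2), (nat_lit 0, nat_lit 2, nat_lit 2), (nat_lit 0, nat_lit 1, nat_lit 4), (nat_lit 0, nat_lit 1, nat_lit 0)]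
def b_lev0 : Lev := ⟨nat_lit 0, [nat_lit 0x1d888, nat_lit 0x1c548, nat_lit 0x2c2d0, nat_lit 0x29684], [(nat_lit 4, nat_lit 0x29684, nat_lit 0), (nat_lit 5, nat_lit 0x1d888, nat_lit 4), (nat_lit 1, nat_lit 0x29684, nat_lit 4), (nat_lit 3, nat_lit 0x1d888, nat_lit 5), (nat_lit 2, nat_lit 0x2c2d0, nat_lit 1)], nat_lit 0x3f, nat_lit 0x66216968486a0e82e2a1a86c688, nat_lit 0xea8686a174286941ca5a12c688⟩
def b_lev1 : Lev := ⟨nat_lit 1, [nat_lit 0x1d888, nat_lit 0x1c548, nat_lit 0x2c2d0], [(nat_lit 2, nat_lit 0x2c2d0, nat_lit 1), (nat_lit 5, nat_lit 0x1c548, nat_lit 2), (nat_lit 3, nat_lit 0x2c2d0, nat_lit 2), (nat_lit 4, nat_lit 0x1d888, nat_lit 3)], nat_lit 0x3e, nat_lit 0x70aa1d460b1162c2d0b1a200000, nat_lit 0x32a621ad0b0b42c458b1a200000⟩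
def b_lev2 : Lev := ⟨nat_lit 2, [nat_lit 0x1d888, nat_lit 0x1c548], [(nat_lit 5, nat_lit 0x1c548, nat_lit 2), (nat_lit 3, nat_lit 0x1d888, nat_lit 5), (nat_lit 4, nat_lit 0x1d888, nat_lit 3)], nat_lit 0x3c, nat_lit 0x71522b50895322c688000000000, nat_lit 0x52b22a8c895322c688000000000⟩
def b_lev3 : Lev := ⟨nat_lit 3, [nat_lit 0x1d888], [(nat_lit 4, nat_lit 0x1d888, nat_lit 3), (nat_lit 5, nat_lit 0x1d888, nat_lit 4)], nat_lit 0x38, nat_lit 0x8ea21d888b1a200000000000000, nat_lit 0x762223a88b1a200000000000000⟩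
def b_levels : List Lev := [b_lev0, b_lev1, b_lev2, b_lev3]

def d_T : List Nat := [nat_lit 0xd9ba8c76015423, nat_lit 0xbdc8a976354210]
def d_prog : List (Nat × Nat × Nat) := [(nat_lit 1, nat_lit 1, nat_lit 0), (nat_lit 1, nat_lit 1, nat_lit 0), (nat_lit 0, nat_lit 3, nat_lit 3), (nat_lit 0, nat_lit 0, nat_lit 3), (nat_lit 0, nat_lit 0, nat_lit 4), (nat_lit 0, nat_lit 0, nat_lit 6), (nat_lit 0, nat_lit 0, nat_lit 7), (nat_lit 0, nat_lit 0, nat_lit 8), (nat_lit 0, nat_lit 0, nat_lit 9), (nat_lit 0, nat_lit 8, nat_lit 0), (nat_lit 0, nat_lit 10, nat_lit 10), (nat_lit 0, nat_lit 0, nat_lit 12), (nat_lit 0, nat_lit 0, nat_lit 13), (nat_lit 0, nat_lit 0, nat_lit 13), (nat_lit 0, nat_lit 0, nat_lit 14), (nat_lit 0, nat_lit 0, nat_lit 16), (nat_lit 0, nat_lit 0, nat_lit 17), (nat_lit 0, nat_lit 0, nat_lit 17), (nat_lit 0, nat_lit 0, nat_lit 19), (nat_lit 0, nat_lit 0, nat_lit 20), (nat_lit 0, nat_lit 0, nat_lit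 20), (nat_lit 0, nat_lit 20, nat_lit 19), (nat_lit 0, nat_lit 0, nat_lit 1), (nat_lit 1, nat_lit 13, nat_lit 0), (nat_lit 1, nat_lit 1, nat_lit 0), (nat_lit 0, nat_lit 2, nat_lit 15), (nat_lit 0, nat_lit 0, nat_lit 3), (nat_lit 0, nat_lit 0, nat_lit 4), (nat_lit 0, nat_lit 0, nat_lit 5), (nat_lit 0, nat_lit 0, nat_lit 19), (nat_lit 0, nat_lit 0, nat_lit 7), (nat_lit 0, nat_lit 6, nat_lit 7), (nat_lit 0, nat_lit 0, nat_lit 8), (nat_lit 0, nat_lit 0, nat_lit 2), (nat_lit 0, nat_lit 8, nat_lit 24), (nat_lit 0, nat_lit 0, nat_lit 25), (nat_lit 0, nat_lit 0, nat_lit 13), (nat_lit 0, nat_lit 0, nat_lit 14), (nat_lit 0, nat_lit 0, nat_lit 28), (nat_lit 0, nat_lit 0, nat_lit 16), (nat_lit 0, nat_lit 0, nat_lit 30), (nat_lit 0, nat_lit 0, nat_lit 18), (nat_lit 0, nat_lit 0, nat_lit 19), (nat_lit 0, nat_lit 0, nat_lit 33), (nat_lit 0, nat_lit 12, nat_lit 0), (nat_lit 0, nat_lit 0, nat_lit 0), (nat_lit 0, nat_lit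 0, nat_lit 1), (nat_lit 0, nat_lit 0, nat_lit 2), (nat_lit 0, nat_lit 0, nat_lit 14), (nat_lit 0, nat_lit 0, nat_lit 15), (nat_lit 0, nat_lit 0, nat_lit 5), (nat_lit 0, nat_lit 0, nat_lit 6), (nat_lit 0, nat_lit 0, nat_lit 18), (nat_lit 0, nat_lit 0, nat_lit 19)]
def d_lev0 : Lev := ⟨nat_lit 0, [nat_lit 0xbdc8a976354210, nat_lit 0x8acbd976423510, nat_lit 0x9cd8ab76321540, nat_lit 0xd9ba8c76015423], [(nat_lit 3, nat_lit 0xd9ba8c76015423, nat_lit 0), (nat_lit 4, nat_lit 0xbdc8a976354210, nat_lit 3), (nat_lit 1, nat_lit 0x9cd8ab76321540, nat_lit 3), (nat_lit 5, nat_lit 0xd9ba8c76015423, nat_lit 3), (nat_lit 2, nat_lit 0x8acbd976423510, nat_lit 4)], nat_lit 0x3f, nat_lit 0xd8bac976320145bac89d76013524d9ba8c76015423cba9d8760134529ad8bc76043251dcba9876543210, nat_lit 0xd9ba8c760154238bdc9a76203145d8bac9763201459dcba876123045b89cda76143205dcba9876543210⟩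
def d_lev1 : Lev := ⟨nat_lit 1, [nat_lit 0xbdc8a976354210, nat_lit 0x8acbd976423510, nat_lit 0x9cd8ab76321540], [(nat_lit 4, nat_lit 0x9cd8ab76321540, nat_lit 1), (nat_lit 5, nat_lit 0xbdc8a976354210, nat_lit 4), (nat_lit 2, nat_lit 0x8acbd976423510, nat_lit 4), (nat_lit 3, nat_lit 0xbdc8a976354210, nat_lit 5)], nat_lit 0x3e, nat_lit 0xadb98c764213509cd8ab763215408bca9d76521430da89bc76351420dcba987654321000000000000000, nat_lit 0xc8bda976152430bc89da762154308bca9d76521430d89cab76425130dcba987654321000000000000000⟩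
def d_lev2 : Lev := ⟨nat_lit 2, [nat_lit 0xbdc8a976354210, nat_lit 0x8acbd976423510], [(nat_lit 5, nat_lit 0x8acbd976423510, nat_lit 2), (nat_lit 3, nat_lit 0xbdc8a976354210, nat_lit 5), (nat_lit 4, nat_lit 0x8acbd976423510, nat_lit 5)], nat_lit 0x3c, nat_lit 0x8acbd9764235109bac8d7625341098dcba76524310dcba98765432100000000000000000000000000000, nat_lit 0x9bac8d762534108acbd976423510ba98dc76532410dcba98765432100000000000000000000000000000⟩
def d_lev3 : Lev := ⟨nat_lit 3, [nat_lit 0xbdc8a976354210], [(nat_lit 4, nat_lit 0xbdc8a976354210, nat_lit 3), (nat_lit 5, nat_lit 0xbdc8a976354210, nat_lit 4)], nat_lit 0x38, nat_lit 0xcbd98a76435210bdc8a976354210dcba9876543210000000000000000000000000000000000000000000, nat_lit 0xbdc8a976354210cbd98a76435210dcba9876543210000000000000000000000000000000000000000000⟩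
def d_levels : List Lev := [d_lev0, d_lev1, d_lev2, d_lev3]

def Ds : List (Nat × Nat × Nat) := [(nat_lit 0xf81b13, nat_lit 0x29684, nat_lit 0xd9ba8c76015423), (nat_lit 0xf9d888, nat_lit 0x1d811, nat_lit 0xbdc8a976354210)]
theorem hid2 : ∀ i < 6, app 3 7 0x2c688 i = i := by decide +kernel

theorem diag : allL (diagOK 4 15 6 3 7 0x2c688) Ds = true := by decide +kernel

theorem check2 : checkAll 6 3 7 18 0x3ffff 0x2c688 (Ds.map (·.2.1)) b_prog b_levels = true := by decide +kernel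

theorem check3 : checkAll (8 + 6) 4 15 56 0xffffffffffffff 0xdcba9876543210 (Ds.map (·.2.2)) d_prog d_levels = true := by decide +kernel

theorem check1 : checkAll 8 3 7 24 0xffffff idc8 (Ds.map (·.1)) prog levels = true := by decide +kernel

theorem o1 : orderC d_levels = orderC levels := by decide +kernel

theorem o2 : orderC d_levels = orderC b_levels := by decide +kernel

theorem o3 : orderC b_levels * 2 = Nat.factorial 6 := by decide +kernel

theorem self : Excl (HH T) → Target (HH T) := fun _ =>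
  target_alt (k := 6) (by norm_num) (by norm_num) (by decide +kernel) hm8 hid2 diag check1 check2 check3 o1 o2 o3

theorem concl : Concl Amb.gA T := by
  refine concl_of_step valid check stepc (by decide +kernel) self ?_
  intro t ht

  simp only [targets, List.mem_cons, List.not_mem_nil, or_false] at ht
  rcases ht with rfl | rfl | rfl | rfl
  · exact N00.concl
  · exact N06.concl
  · exact N01.concl
  · exact N02.concl

end Cfsg.Agent.Lib.OverLat.A8.N10
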