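import Cfsg.Agent.Lib.OverLat.A8.Common
import Cfsg.Agent.Lib.OverLat.A8.Amb
import Cfsg.Agent.Lib.OverLat.A8.N00
import Cfsg.Agent.Lib.OverLat.A8.N01
import Cfsg.Agent.Lib.OverLat.A8.N03
import Cfsg.Agent.Lib.OverLat.A8.N07

set_option autoImplicit false
set_option linter.unusedSectionVars false
set_option maxRecDepth 1000000

namespace Cfsg.Agent.Lib.OverLat.A8.N11

open Cfsg.Agent.Lib.PermComp.Core Cfsg.Agent.Lib.OverLat.Core Cfsg.Agent.Lib.OverLat.Basic Cfsg.Agent.Lib.OverLat.A8.Common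

def T : List Nat := [nat_lit 0xf2e4c8, nat_lit 0xeac05e]
def prog : List (Nat × Nat × Nat) := [(nat_lit 1, nat_lit 1, nat_lit 0), (nat_lit 1, nat_lit 1, nat_lit 0), (nat_lit 0, nat_lit 2, nat_lit 2), (nat_lit 0, nat_lit 0, nat_lit 4), (nat_lit 0, nat_lit 0, nat_lit 5), (nat_lit 0, nat_lit 0, nat_lit 6), (nat_lit 0, nat_lit 0, nat_lit 6), (nat_lit 0, nat_lit 6, nat_lit 5), (nat_lit 0, nat_lit 0, nat_lit 1), (nat_lit 0, nat_lit 10, nat_lit 10), (nat_lit 0, nat_lit 0, nat_lit 11), (nat_lit 0, nat_lit 0, nat_lit 12), (nat_lit 0, nat_lit 0, nat_lit 12), (nat_lit 0, nat_lit 0, nat_lit 13), (nat_lit 0, nat_lit 0, nat_lit 15), (nat_lit 0, nat_lit 0, nat_lit 16), (nat_lit 0, nat_lit 0, nat_lit 17), (nat_lit 0, nat_lit 0, nat_lit 17), (nat_lit 0, nat_lit 0, nat_lit 19), (nat_lit 0, nat_lit 0, nat_lit 20), (nat_lit 0, nat_lit 12, nat_lit 0), (nat_lit 0, nat_lit 22, nat_lit 21), (nat_lit 0, nat_lit 0, nat_lit 23),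 (nat_lit 0, nat_lit 0, nat_lit 24), (nat_lit 0, nat_lit 22, nat_lit 0), (nat_lit 0, nat_lit 15, nat_lit 25), (nat_lit 0, nat_lit 0, nat_lit 26), (nat_lit 0, nat_lit 0, nat_lit 28), (nat_lit 0, nat_lit 0, nat_lit 29), (nat_lit 0, nat_lit 0, nat_lit 29), (nat_lit 0, nat_lit 0, nat_lit 31), (nat_lit 0, nat_lit 0, nat_lit 32), (nat_lit 0, nat_lit 0, nat_lit 33), (nat_lit 0, nat_lit 0, nat_lit 33), (nat_lit 0, nat_lit 0, nat_lit 35), (nat_lit 0, nat_lit 33, nat_lit 0), (nat_lit 1, nat_lit 27, nat_lit 0), (nat_lit 1, nat_lit 12, nat_lit 0), (nat_lit 0, nat_lit 29, nat_lit 17), (nat_lit 0, nat_lit 0, nat_lit 3), (nat_lit 0, nat_lit 0, nat_lit 4), (nat_lit 0, nat_lit 4, nat_lit 0), (nat_lit 0, nat_lit 17, nat_lit 6), (nat_lit 0, nat_lit 0, nat_lit 18), (nat_lit 0, nat_lit 0, nat_lit 19), (nat_lit 0, nat_lit 0, nat_lit 24), (nat_lit 0, nat_lit 0, nat_lit 25), (nat_lit 0, nat_lit 0, nat_lit 26), (nat_lit 0, nat_lit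 0, nat_lit 39), (nat_lit 0, nat_lit 0, nat_lit 24), (nat_lit 0, nat_lit 0, nat_lit 14), (nat_lit 0, nat_lit 0, nat_lit 26), (nat_lit 0, nat_lit 14, nat_lit 15), (nat_lit 0, nat_lit 0, nat_lit 1), (nat_lit 0, nat_lit 0, nat_lit 0), (nat_lit 0, nat_lit 0, nat_lit 13), (nat_lit 0, nat_lit 0, nat_lit 14), (nat_lit 0, nat_lit 0, nat_lit 3), (nat_lit 0, nat_lit 0, nat_lit 4), (nat_lit 0, nat_lit 0, nat_lit 17), (nat_lit 0, nat_lit 0, nat_lit 18), (nat_lit 0, nat_lit 0, nat_lit 7), (nat_lit 0, nat_lit 0, nat_lit 8), (nat_lit 0, nat_lit 0, nat_lit 9)]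
def lev0 : Lev := ⟨nat_lit 2, [nat_lit 0xeee888, nat_lit 0xf296b0, nat_lit 0xe2b88e, nat_lit 0xf2e4c8], [(nat_lit 3, nat_lit 0xf2e4c8, nat_lit 2), (nat_lit 4, nat_lit 0xeee888, nat_lit 3), (nat_lit 6, nat_lit 0xeee888, nat_lit 4), (nat_lit 1, nat_lit 0xf296b0, nat_lit 4), (nat_lit 0, nat_lit 0xe2b88e, nat_lit 6)], nat_lit 0x5f, nat_lit 0xeec588000000fab508f2e4c8fac688f2b470f2b40e, nat_lit 0xeaccc8000000faa8c8f2e4c8fac688e6e8d0e2e8ca⟩
def lev1 : Lev := ⟨nat_lit 0, [nat_lit 0xeee888, nat_lit 0xf296b0, nat_lit 0xe2b88e], [(nat_lit 6, nat_lit 0xe2b88e, nat_lit 0), (nat_lit 3, nat_lit 0xeee888, nat_lit 6), (nat_lit 4, nat_lit 0xf296b0, nat_lit 6), (nat_lit 1, nat_lit 0xf296b0, nat_lit 4)], nat_lit 0x5b, nat_lit 0xe2b88e000000e2b2b4e2cc8b000000e2bca1fac688, nat_lit 0xe2b88e000000e6889eeec08e000000ee9886fac688⟩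
def lev2 : Lev := ⟨nat_lit 1, [nat_lit 0xeee888, nat_lit 0xf296b0], [(nat_lit 6, nat_lit 0xf296b0, nat_lit 1), (nat_lit 3, nat_lit 0xeee888, nat_lit 6), (nat_lit 4, nat_lit 0xf296b0, nat_lit 6)], nat_lit 0x5a, nat_lit 0xf296b0000000e6e6a0fa9898000000fac688000000, nat_lit 0xe6e6a0000000f296b0fab2a0000000fac688000000⟩
def lev3 : Lev := ⟨nat_lit 3, [nat_lit 0xeee888], [(nat_lit 4, nat_lit 0xeee888, nat_lit 3), (nat_lit 6, nat_lit 0xeee888, nat_lit 4)], nat_lit 0x58, nat_lit 0xf2bc88000000eee888fac688000000000000000000, nat_lit 0xeee888000000f2bc88fac688000000000000000000⟩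
def levels : List Lev := [lev0, lev1, lev2, lev3]

theorem valid : allL (validC 8 3 7 idc8) T = true := by decide +kernel

theorem check : checkAll 8 3 7 24 0xffffff idc8 T prog levels = true := by decide +kernel

def targets : List (List Nat) := [N00.T, N01.T, N03.T, N07.T]
def cert : StepCert where
  N := nat_lit 56
  b := nat_lit 6
  bm := nat_lit 63
  U := nat_lit 0xb3e6881ea78c3ec7827ee2145ec21edec4c89ee688e85cccf0dcc2f9d054f1505efa54c8f356887cdca03dd1325cdc233c57161f531a3d51a31cd8d6dc585a9c5c53dd50e15dd3307c550e1e53935f56217d58701dd88e9dd0b1dcd5035c578c7e54313f58831d5ccc9cd782ddd2143e5cc27f50549d521e5e505e9f54c8de568817accc37ccc277e05457c05e97e4c8d7c688bc2cccbcccc2bde054bd405ebe64c8bf4688fac688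
  V := nat_lit 0xb3e688ca870fcac639d28e5ac2c3dadec4c8d2f688ee058dee6429fa0a53e26353fa54c8f66688ce1ea8c62a3bce11eac2267dd6221fca117bc2346fde3215ce7055de1543c62bd8c22ecdca505fd617c2c63f50c23a8fc67a83de20e9ca07cdc65ec2d630b9ce054fca7629de0a5ace5439d60e53c2735ac253d3d674c8de5688af050faf4439b30e53a343d3b374c8bf4688cf850dcfc429d38a53c3c353d3d4c8d7c688fac688
  tabsA := [(nat_lit 0x8c73aa, nat_lit 0x7981a78dfc10c543886b51720e007372d4599494d6a2fd212c4740ab7a6b1ee28f09236c5d5da498c6e2), (nat_lit 0x972e19, nat_lit 0x35646b981754688890c6e29bab57e916818cbe5db02c9124b749e0ddc0185730d25ec78f0994c78e1c8e)]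
  tabsL := [(nat_lit 0xf2e4c8, nat_lit 0xdf6d73d31cb0bedbabb2896a9dea648a369c6265e056151f7526d94163d344d38c2c9287206143101080), (nat_lit 0xeac05e, nat_lit 0xdf2d36d73c6bbb0becb5b7e9461a9374ea2798d9648e281679c65a6175544903c728c2c82411061420c0)]
  rt := nat_lit 0xdf1c71c71c6baebaebacd34d34d34d34d34d34d34d34d34d34d34d34d34d34d3471c71c71c1041041040
  par := nat_lit 0x34cf3cb102eb6daeb02596181e75c6da6996175d655451349245040f3ce34d00a2491c70040c3041000
  gi := nat_lit 0x1040040001040040001001040041041001001001001001040041001001040001040040001040040000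
  rootMask := nat_lit 0x82080000002082
  roots := [(nat_lit 1, nat_lit 0, [nat_lit 0xc96cb451, nat_lit 0x32c9459]), (nat_lit 7, nat_lit 0, [nat_lit 0xcb68a2c9, nat_lit 0x165928b]), (nat_lit 13, nat_lit 0, [nat_lit 0x453299651, nat_lit 0xda68b459]), (nat_lit 43, nat_lit 1, [nat_lit 0x1b6d1, nat_lit 0x329b4d1]), (nat_lit 49, nat_lit 2, [nat_lit 0x14cb45a, nat_lit 0x12c969b]), (nat_lit 55, nat_lit 3, [nat_lit 0x169a2cb, nat_lit 0x26d9699])]

theorem stepc : stepCheck 8 3 7 24 0xffffff idc8 levels targets T cert = true := by decide +kernel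

def b_T : List Nat := [nat_lit 0x2c053, nat_lit 0x108cd]
def b_prog : List (Nat × Nat × Nat) := [(nat_lit 1, nat_lit 1, nat_lit 0), (nat_lit 1, nat_lit 1, nat_lit 0), (nat_lit 0, nat_lit 0, nat_lit 0), (nat_lit 0, nat_lit 4, nat_lit 3), (nat_lit 0, nat_lit 0, nat_lit 5), (nat_lit 0, nat_lit 0, nat_lit 5), (nat_lit 0, nat_lit 3, nat_lit 5), (nat_lit 0, nat_lit 0, nat_lit 1), (nat_lit 0, nat_lit 8, nat_lit 8), (nat_lit 0, nat_lit 0, nat_lit 9), (nat_lit 0, nat_lit 0, nat_lit 10), (nat_lit 0, nat_lit 0, nat_lit 12), (nat_lit 0, nat_lit 0, nat_lit 12), (nat_lit 0, nat_lit 0, nat_lit 14), (nat_lit 0, nat_lit 0, nat_lit 15), (nat_lit 0, nat_lit 0, nat_lit 16), (nat_lit 0, nat_lit 0, nat_lit 16), (nat_lit 0, nat_lit 10, nat_lit 0), (nat_lit 1, nat_lit 0, nat_lit 0), (nat_lit 0, nat_lit 11, nat_lit 1), (nat_lit 0, nat_lit 0, nat_lit 2), (nat_lit 0, nat_lit 0, nat_lit 3), (nat_lit 0, nat_lit 0, nat_lit 4), (nat_lit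 0, nat_lit 0, nat_lit 5), (nat_lit 0, nat_lit 0, nat_lit 6), (nat_lit 0, nat_lit 0, nat_lit 17), (nat_lit 0, nat_lit 7, nat_lit 0), (nat_lit 0, nat_lit 9, nat_lit 9), (nat_lit 0, nat_lit 0, nat_lit 20), (nat_lit 0, nat_lit 0, nat_lit 11), (nat_lit 1, nat_lit 3, nat_lit 0), (nat_lit 0, nat_lit 4, nat_lit 1), (nat_lit 0, nat_lit 0, nat_lit 2), (nat_lit 0, nat_lit 0, nat_lit 6), (nat_lit 0, nat_lit 0, nat_lit 7), (nat_lit 0, nat_lit 0, nat_lit 5), (nat_lit 0, nat_lit 0, nat_lit 6), (nat_lit 0, nat_lit 6, nat_lit 6), (nat_lit 0, nat_lit 0, nat_lit 1)]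
def b_lev0 : Lev := ⟨nat_lit 0, [nat_lit 0x23a88, nat_lit 0x2b508, nat_lit 0xa728, nat_lit 0x2c053], [(nat_lit 3, nat_lit 0x2c053, nat_lit 0), (nat_lit 5, nat_lit 0x23a88, nat_lit 3), (nat_lit 2, nat_lit 0x2b508, nat_lit 3), (nat_lit 4, nat_lit 0x23a88, nat_lit 5), (nat_lit 1, nat_lit 0xa728, nat_lit 5)], nat_lit 0x3f, nat_lit 0x8c155d054b014eb0624c586c688, nat_lit 0x1614e0a53b014e98134650ec688⟩
def b_lev1 : Lev := ⟨nat_lit 1, [nat_lit 0x23a88, nat_lit 0x2b508, nat_lit 0xa728], [(nat_lit 5, nat_lit 0xa728, nat_lit 1), (nat_lit 4, nat_lit 0x23a88, nat_lit 5), (nat_lit 3, nat_lit 0x23a88, nat_lit 4), (nat_lit 2, nat_lit 0xa728, nat_lit 4)], nat_lit 0x3e, nat_lit 0x29ca0aae02a562c2d0b1a200000, nat_lit 0x29ca195284cca2c458b1a200000⟩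
def b_lev2 : Lev := ⟨nat_lit 2, [nat_lit 0x23a88, nat_lit 0x2b508], [(nat_lit 4, nat_lit 0x2b508, nat_lit 2), (nat_lit 3, nat_lit 0x23a88, nat_lit 4), (nat_lit 5, nat_lit 0x23a88, nat_lit 3)], nat_lit 0x3c, nat_lit 0x71522b50895322c688000000000, nat_lit 0x52b22a8c895322c688000000000⟩
def b_lev3 : Lev := ⟨nat_lit 3, [nat_lit 0x23a88], [(nat_lit 5, nat_lit 0x23a88, nat_lit 3), (nat_lit 4, nat_lit 0x23a88, nat_lit 5)], nat_lit 0x38, nat_lit 0x8ea21d888b1a200000000000000, nat_lit 0x762223a88b1a200000000000000⟩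
def b_levels : List Lev := [b_lev0, b_lev1, b_lev2, b_lev3]

def d_T : List Nat := [nat_lit 0xdc89ab74562310, nat_lit 0xa8cb9d72540136]
def d_prog : List (Nat × Nat × Nat) := [(nat_lit 1, nat_lit 1, nat_lit 0), (nat_lit 1, nat_lit 1, nat_lit 0), (nat_lit 0, nat_lit 3, nat_lit 3), (nat_lit 0, nat_lit 0, nat_lit 3), (nat_lit 0, nat_lit 0, nat_lit 4), (nat_lit 0, nat_lit 0, nat_lit 6), (nat_lit 0, nat_lit 0, nat_lit 7), (nat_lit 0, nat_lit 0, nat_lit 8), (nat_lit 0, nat_lit 0, nat_lit 9), (nat_lit 0, nat_lit 8, nat_lit 0), (nat_lit 0, nat_lit 10, nat_lit 11), (nat_lit 0, nat_lit 0, nat_lit 11), (nat_lit 0, nat_lit 0, nat_lit 12), (nat_lit 0, nat_lit 0, nat_lit 13), (nat_lit 0, nat_lit 0, nat_lit 15), (nat_lit 0, nat_lit 0, nat_lit 15), (nat_lit 0, nat_lit 15, nat_lit 14), (nat_lit 0, nat_lit 0, nat_lit 15), (nat_lit 0, nat_lit 0, nat_lit 17), (nat_lit 0, nat_lit 0, nat_lit 3), (nat_lit 0, nat_lit 0, nat_lit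 10), (nat_lit 0, nat_lit 0, nat_lit 11), (nat_lit 0, nat_lit 0, nat_lit 12), (nat_lit 0, nat_lit 0, nat_lit 3), (nat_lit 0, nat_lit 0, nat_lit 4), (nat_lit 0, nat_lit 0, nat_lit 15), (nat_lit 0, nat_lit 0, nat_lit 6), (nat_lit 0, nat_lit 0, nat_lit 17), (nat_lit 0, nat_lit 0, nat_lit 8), (nat_lit 0, nat_lit 0, nat_lit 9), (nat_lit 0, nat_lit 0, nat_lit 20), (nat_lit 0, nat_lit 21, nat_lit 11), (nat_lit 0, nat_lit 0, nat_lit 12), (nat_lit 0, nat_lit 0, nat_lit 13), (nat_lit 0, nat_lit 0, nat_lit 24), (nat_lit 0, nat_lit 0, nat_lit 25), (nat_lit 0, nat_lit 0, nat_lit 26), (nat_lit 0, nat_lit 0, nat_lit 17), (nat_lit 0, nat_lit 0, nat_lit 28), (nat_lit 0, nat_lit 0, nat_lit 19), (nat_lit 0, nat_lit 0, nat_lit 20), (nat_lit 0, nat_lit 10, nat_lit 0), (nat_lit 0, nat_lit 0, nat_lit 11), (nat_lit 0, nat_lit 0, nat_lit 2), (nat_lit 0, nat_lit 0, nat_lit 3)]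
def d_lev0 : Lev := ⟨nat_lit 2, [nat_lit 0xdcb8a973564210, nat_lit 0xdab89c73541260, nat_lit 0x8dbca971564203, nat_lit 0xdc89ab74562310], [(nat_lit 3, nat_lit 0xdc89ab74562310, nat_lit 2), (nat_lit 4, nat_lit 0xdcb8a973564210, nat_lit 3), (nat_lit 1, nat_lit 0xdab89c73541260, nat_lit 3), (nat_lit 6, nat_lit 0xdcb8a973564210, nat_lit 4), (nat_lit 0, nat_lit 0x8dbca971564203, nat_lit 1)], nat_lit 0x5f, nat_lit 0xdca89b7354261000000000000000dc9a8b76532410dc89ab74562310dcba9876543210dac98b745321608cda9b76542013, nat_lit 0xdc8b9a7254631000000000000000dc8ab976524310dc89ab74562310dcba9876543210db8ca971564320bc8a9d76540312⟩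
def d_lev1 : Lev := ⟨nat_lit 0, [nat_lit 0xdcb8a973564210, nat_lit 0xdab89c73541260, nat_lit 0x8dbca971564203], [(nat_lit 3, nat_lit 0x8dbca971564203, nat_lit 0), (nat_lit 4, nat_lit 0xdcb8a973564210, nat_lit 3), (nat_lit 1, nat_lit 0xdab89c73541260, nat_lit 3), (nat_lit 6, nat_lit 0xdcb8a973564210, nat_lit 4)], nat_lit 0x5b, nat_lit 0xadbc9871543206000000000000009dbc8a715362048dbca97156420300000000000000cdba8976534201dcba9876543210, nat_lit 0xcabd987054326100000000000000cab8d973504261cab98d7453026100000000000000cdba8976534201dcba9876543210⟩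
def d_lev2 : Lev := ⟨nat_lit 1, [nat_lit 0xdcb8a973564210, nat_lit 0xdab89c73541260], [(nat_lit 6, nat_lit 0xdab89c73541260, nat_lit 1), (nat_lit 3, nat_lit 0xdcb8a973564210, nat_lit 6), (nat_lit 4, nat_lit 0xdcb8a973564210, nat_lit 3)], nat_lit 0x5a, nat_lit 0xdab89c7354126000000000000000d9ba8c76531240d8b9ac7456123000000000000000dcba987654321000000000000000, nat_lit 0xd8bc9a7154623000000000000000d8bac976514230d8b9ac7456123000000000000000dcba987654321000000000000000⟩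
def d_lev3 : Lev := ⟨nat_lit 3, [nat_lit 0xdcb8a973564210], [(nat_lit 4, nat_lit 0xdcb8a973564210, nat_lit 3), (nat_lit 6, nat_lit 0xdcb8a973564210, nat_lit 4)], nat_lit 0x58, nat_lit 0xdcb98a7453621000000000000000dcb8a973564210dcba9876543210000000000000000000000000000000000000000000, nat_lit 0xdcb8a97356421000000000000000dcb98a74536210dcba9876543210000000000000000000000000000000000000000000⟩
def d_levels : List Lev := [d_lev0, d_lev1, d_lev2, d_lev3]

def Ds : List (Nat × Nat × Nat) := [(nat_lit 0xf2e4c8, nat_lit 0x2c053, nat_lit 0xdc89ab74562310), (nat_lit 0xeac05e, nat_lit 0x108cd, nat_lit 0xa8cb9d72540136)]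
theorem hid2 : ∀ i < 6, app 3 7 0x2c688 i = i := by decide +kernel

theorem diag : allL (diagOK 4 15 6 3 7 0x2c688) Ds = true := by decide +kernel

theorem check2 : checkAll 6 3 7 18 0x3ffff 0x2c688 (Ds.map (·.2.1)) b_prog b_levels = true := by decide +kernel

theorem check3 : checkAll (8 + 6) 4 15 56 0xffffffffffffff 0xdcba9876543210 (Ds.map (·.2.2)) d_prog d_levels = true := by decide +kernel

theorem check1 : checkAll 8 3 7 24 0xffffff idc8 (Ds.map (·.1)) prog levels = true := by decide +kernel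

theorem o1 : orderC d_levels = orderC levels := by decide +kernel

theorem o2 : orderC d_levels = orderC b_levels := by decide +kernel

theorem o3 : orderC b_levels * 2 = Nat.factorial 6 := by decide +kernel

theorem self : Excl (HH T) → Target (HH T) := fun _ =>
  target_alt (k := 6) (by norm_num) (by norm_num) (by decide +kernel) hm8 hid2 diag check1 check2 check3 o1 o2 o3

theorem concl : Concl Amb.gA T := by
  refine concl_of_step valid check stepc (by decide +kernel) self ?_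
  intro t ht

  simp only [targets, List.mem_cons, List.not_mem_nil, or_false] at ht
  rcases ht with rfl | rfl | rfl | rfl
  · exact N00.concl
  · exact N01.concl
  · exact N03.concl
  · exact N07.concl

end Cfsg.Agent.Lib.OverLat.A8.N11
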