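import Cfsg.Agent.Lib.OverLat.A8.Common
import Cfsg.Agent.Lib.OverLat.A8.Amb
import Cfsg.Agent.Lib.OverLat.A8.N00
import Cfsg.Agent.Lib.OverLat.A8.N02
import Cfsg.Agent.Lib.OverLat.A8.N03
import Cfsg.Agent.Lib.OverLat.A8.N08

set_option autoImplicit false
set_option linter.unusedSectionVars false
set_option maxRecDepth 1000000

namespace Cfsg.Agent.Lib.OverLat.A8.N12

open Cfsg.Agent.Lib.PermComp.Core Cfsg.Agent.Lib.OverLat.Core Cfsg.Agent.Lib.OverLat.Basic Cfsg.Agent.Lib.OverLat.A8.Common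

def T : List Nat := [nat_lit 0xfa8519, nat_lit 0x9a9e1a]
def prog : List (Nat × Nat × Nat) := [(nat_lit 1, nat_lit 1, nat_lit 0), (nat_lit 1, nat_lit 1, nat_lit 0), (nat_lit 0, nat_lit 1, nat_lit 1), (nat_lit 0, nat_lit 0, nat_lit 1), (nat_lit 0, nat_lit 5, nat_lit 5), (nat_lit 0, nat_lit 0, nat_lit 6), (nat_lit 0, nat_lit 0, nat_lit 7), (nat_lit 0, nat_lit 0, nat_lit 7), (nat_lit 0, nat_lit 0, nat_lit 8), (nat_lit 0, nat_lit 0, nat_lit 10), (nat_lit 0, nat_lit 0, nat_lit 11), (nat_lit 0, nat_lit 0, nat_lit 12), (nat_lit 0, nat_lit 0, nat_lit 12), (nat_lit 0, nat_lit 0, nat_lit 14), (nat_lit 0, nat_lit 0, nat_lit 15), (nat_lit 0, nat_lit 16, nat_lit 15), (nat_lit 0, nat_lit 0, nat_lit 17), (nat_lit 0, nat_lit 0, nat_lit 18), (nat_lit 0, nat_lit 14, nat_lit 0), (nat_lit 1, nat_lit 4, nat_lit 0), (nat_lit 1, nat_lit 1, nat_lit 0), (nat_lit 0, nat_lit 6, nat_lit 6), (nat_lit 0, nat_lit 0, nat_lit 3), (nat_lit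 0, nat_lit 0, nat_lit 4), (nat_lit 0, nat_lit 0, nat_lit 9), (nat_lit 0, nat_lit 0, nat_lit 10), (nat_lit 0, nat_lit 0, nat_lit 7), (nat_lit 0, nat_lit 0, nat_lit 12), (nat_lit 0, nat_lit 0, nat_lit 13), (nat_lit 0, nat_lit 0, nat_lit 14), (nat_lit 0, nat_lit 0, nat_lit 11), (nat_lit 0, nat_lit 0, nat_lit 16), (nat_lit 0, nat_lit 12, nat_lit 11), (nat_lit 0, nat_lit 0, nat_lit 9), (nat_lit 1, nat_lit 2, nat_lit 0), (nat_lit 0, nat_lit 1, nat_lit 1), (nat_lit 0, nat_lit 0, nat_lit 2), (nat_lit 0, nat_lit 0, nat_lit 3), (nat_lit 0, nat_lit 0, nat_lit 6), (nat_lit 0, nat_lit 0, nat_lit 7), (nat_lit 0, nat_lit 0, nat_lit 8), (nat_lit 0, nat_lit 0, nat_lit 9), (nat_lit 0, nat_lit 0, nat_lit 8), (nat_lit 0, nat_lit 0, nat_lit 9), (nat_lit 0, nat_lit 0, nat_lit 10), (nat_lit 0, nat_lit 10, nat_lit 10), (nat_lit 0, nat_lit 0, nat_lit 1)]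
def lev0 : Lev := ⟨nat_lit 0, [nat_lit 0x9abe88, nat_lit 0x7ac5c8, nat_lit 0x5ac3d8, nat_lit 0xfa8519], [(nat_lit 1, nat_lit 0xfa8519, nat_lit 0), (nat_lit 3, nat_lit 0x5ac3d8, nat_lit 1), (nat_lit 7, nat_lit 0x9abe88, nat_lit 3), (nat_lit 2, nat_lit 0x7ac5c8, nat_lit 3), (nat_lit 4, nat_lit 0x9abe88, nat_lit 7)], nat_lit 0x9f, nat_lit 0x5a88cf0000000000005a87cc5a8f0bfa870afa8519fac688, nat_lit 0x1ab5cc0000000000005a87cc7aa1ccfaa60cfaa2c4fac688⟩
def lev1 : Lev := ⟨nat_lit 1, [nat_lit 0x9abe88, nat_lit 0x7ac5c8, nat_lit 0x5ac3d8], [(nat_lit 3, nat_lit 0x5ac3d8, nat_lit 1), (nat_lit 7, nat_lit 0x9abe88, nat_lit 3), (nat_lit 2, nat_lit 0x7ac5c8, nat_lit 3), (nat_lit 4, nat_lit 0x9abe88, nat_lit 7)], nat_lit 0x9e, nat_lit 0x5ab3380000000000005af2e05ac3d8fac2d0fac688000000, nat_lit 0x3aa9d80000000000009a95d85ac3d8fac458fac688000000⟩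
def lev2 : Lev := ⟨nat_lit 2, [nat_lit 0x9abe88, nat_lit 0x7ac5c8], [(nat_lit 7, nat_lit 0x7ac5c8, nat_lit 2), (nat_lit 4, nat_lit 0x9abe88, nat_lit 7), (nat_lit 3, nat_lit 0x7ac5c8, nat_lit 7)], nat_lit 0x9c, nat_lit 0x7ac5c8000000000000fab5085acec8fac688000000000000, nat_lit 0x5acec8000000000000faa8c87ac5c8fac688000000000000⟩
def lev3 : Lev := ⟨nat_lit 3, [nat_lit 0x9abe88], [(nat_lit 7, nat_lit 0x9abe88, nat_lit 3), (nat_lit 4, nat_lit 0x9abe88, nat_lit 7)], nat_lit 0x98, nat_lit 0x9abe880000000000007af888fac688000000000000000000, nat_lit 0x7af8880000000000009abe88fac688000000000000000000⟩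
def levels : List Lev := [lev0, lev1, lev2, lev3]

theorem valid : allL (validC 8 3 7 idc8) T = true := by decide +kernel

theorem check : checkAll 8 3 7 24 0xffffff idc8 T prog levels = true := by decide +kernel

def targets : List (List Nat) := [N00.T, N02.T, N03.T, N08.T]
def cert : StepCert where
  N := nat_lit 56
  b := nat_lit 6
  bm := nat_lit 63
  U := nat_lit 0x9776884ee139eae8c166e8b862ee5432ee1a9ee68859d139f958c178d8b8785e543a5e1a9bd688c0d6a7c9d10fc85e5cc651dac3d899d057d1ca523bcc59cace5e81ccd887c8d7e0c7d614c1570fd3d4c8dd52c4cfd222cd5139cbd8c1c55ee0c454e7c252fad1d287ddd062c5d8b8c1de54d1507bdcd813d0de1adc5519de5688d5a139d578c1d4b8b8d43e54d61e1ad7c688af2139ab78c1a738b8a33e54b31e1abf4688fac688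
  V := nat_lit 0x97768832adc3f2b58132beb0728e5672e23ad2f6883a2bc3fa35413a3ea87a0e557a523aba76881e16ae1e2b8b7e03955e5233be32865e66453e519a5e3c0d7e5c811e3ca95e17a8be06721e274ebe64c8de0559be1c1a3e2d43be35817e15701e14f53e541e1e6a99de1a133e3ab07e0a563e6153de306a7e622ade22c5de56883f2b039f35413f38a87f08557f5222bf468837ad0397b58137b8b077885677e222d7c688fac688
  tabsA := [(nat_lit 0x8c73aa, nat_lit 0x497b49a0e9611b669b8b5baf1e472b61fd002053429c4b372d940f2a0072c5176a0f37a6593c0ca54563), (nat_lit 0x972e19, nat_lit 0x10c610508724c28b2139aa6a781e41c51289792534e5a385865d6dfa15a4f46bb70bafb31cf6d35cb7)]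
  tabsL := [(nat_lit 0xfa8519, nat_lit 0xdf5cb6d33c6fb30badad344f8dfaa5828a556e798d66476285779c69859449038b20c2891c5086103040), (nat_lit 0x9a9e1a, nat_lit 0xdf1cf6d74cabb70beeb2999e86462a7105128a89e534e5a36a07dd6d95d54d13c724c2ca2010c6144080)]
  rt := nat_lit 0xdf1c71c71c6baebaebacd34d34d34d34d34d34d34d34d34d34d34d34d34d34d3471c71c71c1041041040
  par := nat_lit 0x34cf2cb102eb6cb2b02485e75d71a6185d65555144d34924514103cf38e34d00a2482070040c2081000
  gi := nat_lit 0x41001000041001001001040040040001040040040040040040040040040000041001000041001000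
  rootMask := nat_lit 0x82080000002082
  roots := [(nat_lit 1, nat_lit 0, [nat_lit 0x132d1693, nat_lit 0x4cb44b65a]), (nat_lit 7, nat_lit 0, [nat_lit 0x9a2d1689, nat_lit 0x4cb44b65a]), (nat_lit 13, nat_lit 0, [nat_lit 0x165265b, nat_lit 0x1965148a]), (nat_lit 43, nat_lit 1, [nat_lit 0xd3691, nat_lit 0x4a29b]), (nat_lit 49, nat_lit 2, [nat_lit 0x5b28b, nat_lit 0x69328a]), (nat_lit 55, nat_lit 3, [nat_lit 0x1452, nat_lit 0x8a4d2])]

theorem stepc : stepCheck 8 3 7 24 0xffffff idc8 levels targets T cert = true := by decide +kernel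

def b_T : List Nat := [nat_lit 0x21742, nat_lit 0x151d]
def b_prog : List (Nat × Nat × Nat) := [(nat_lit 1, nat_lit 1, nat_lit 0), (nat_lit 1, nat_lit 1, nat_lit 0), (nat_lit 0, nat_lit 3, nat_lit 3), (nat_lit 0, nat_lit 0, nat_lit 3), (nat_lit 0, nat_lit 0, nat_lit 4), (nat_lit 0, nat_lit 0, nat_lit 6), (nat_lit 0, nat_lit 0, nat_lit 7), (nat_lit 0, nat_lit 0, nat_lit 7), (nat_lit 0, nat_lit 0, nat_lit 8), (nat_lit 0, nat_lit 0, nat_lit 10), (nat_lit 0, nat_lit 0, nat_lit 11), (nat_lit 0, nat_lit 0, nat_lit 11), (nat_lit 0, nat_lit 0, nat_lit 12), (nat_lit 0, nat_lit 12, nat_lit 11), (nat_lit 0, nat_lit 0, nat_lit 1), (nat_lit 0, nat_lit 15, nat_lit 16), (nat_lit 0, nat_lit 0, nat_lit 17), (nat_lit 0, nat_lit 0, nat_lit 17), (nat_lit 0, nat_lit 0, nat_lit 19), (nat_lit 0, nat_lit 0, nat_lit 20), (nat_lit 0, nat_lit 21, nat_lit 20), (nat_lit 0, nat_lit 0, nat_lit 22), (nat_lit 0, nat_lit 0, nat_lit 22),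 (nat_lit 0, nat_lit 23, nat_lit 23), (nat_lit 0, nat_lit 0, nat_lit 24), (nat_lit 0, nat_lit 0, nat_lit 25), (nat_lit 0, nat_lit 0, nat_lit 27), (nat_lit 0, nat_lit 0, nat_lit 27), (nat_lit 0, nat_lit 0, nat_lit 29), (nat_lit 0, nat_lit 0, nat_lit 30), (nat_lit 0, nat_lit 0, nat_lit 31), (nat_lit 0, nat_lit 0, nat_lit 31), (nat_lit 0, nat_lit 18, nat_lit 0), (nat_lit 1, nat_lit 18, nat_lit 0), (nat_lit 0, nat_lit 11, nat_lit 11), (nat_lit 0, nat_lit 0, nat_lit 15), (nat_lit 0, nat_lit 0, nat_lit 13), (nat_lit 0, nat_lit 3, nat_lit 0), (nat_lit 0, nat_lit 23, nat_lit 23), (nat_lit 0, nat_lit 0, nat_lit 6), (nat_lit 0, nat_lit 0, nat_lit 20), (nat_lit 0, nat_lit 0, nat_lit 26), (nat_lit 0, nat_lit 0, nat_lit 19), (nat_lit 0, nat_lit 0, nat_lit 10), (nat_lit 0, nat_lit 0, nat_lit 11), (nat_lit 0, nat_lit 0, nat_lit 30), (nat_lit 1, nat_lit 8, nat_lit 0), (nat_lit 1, nat_lit 1, nat_lit 0), (nat_lit 0, nat_lit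 0, nat_lit 1), (nat_lit 0, nat_lit 3, nat_lit 3), (nat_lit 0, nat_lit 0, nat_lit 4), (nat_lit 0, nat_lit 0, nat_lit 13), (nat_lit 0, nat_lit 0, nat_lit 6), (nat_lit 0, nat_lit 0, nat_lit 7), (nat_lit 0, nat_lit 0, nat_lit 16), (nat_lit 0, nat_lit 0, nat_lit 9), (nat_lit 0, nat_lit 0, nat_lit 10), (nat_lit 0, nat_lit 0, nat_lit 11), (nat_lit 0, nat_lit 9, nat_lit 0)]
def b_lev0 : Lev := ⟨nat_lit 0, [nat_lit 0x23a88, nat_lit 0x1ab08, nat_lit 0x21ad0, nat_lit 0x21742], [(nat_lit 2, nat_lit 0x21742, nat_lit 0), (nat_lit 4, nat_lit 0x1ab08, nat_lit 2), (nat_lit 3, nat_lit 0x21ad0, nat_lit 2), (nat_lit 5, nat_lit 0x21742, nat_lit 2), (nat_lit 1, nat_lit 0x21ad0, nat_lit 4)], nat_lit 0x3f, nat_lit 0x21c551ac42ac0e17426a506c688, nat_lit 0x99b18561684a556214ec06c688⟩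
def b_lev1 : Lev := ⟨nat_lit 1, [nat_lit 0x23a88, nat_lit 0x1ab08, nat_lit 0x21ad0], [(nat_lit 2, nat_lit 0x21ad0, nat_lit 1), (nat_lit 4, nat_lit 0x1ab08, nat_lit 2), (nat_lit 3, nat_lit 0x21ad0, nat_lit 2), (nat_lit 5, nat_lit 0x23a88, nat_lit 3)], nat_lit 0x3e, nat_lit 0x29ca117602a5621ad0b1a200000, nat_lit 0x29ca117604cca1d460b1a200000⟩
def b_lev2 : Lev := ⟨nat_lit 2, [nat_lit 0x23a88, nat_lit 0x1ab08], [(nat_lit 4, nat_lit 0x1ab08, nat_lit 2), (nat_lit 3, nat_lit 0x23a88, nat_lit 4), (nat_lit 5, nat_lit 0x23a88, nat_lit 3)], nat_lit 0x3c, nat_lit 0x89d21ab08aa322c688000000000, nat_lit 0x55c21ab08ad422c688000000000⟩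
def b_lev3 : Lev := ⟨nat_lit 3, [nat_lit 0x23a88], [(nat_lit 5, nat_lit 0x23a88, nat_lit 3), (nat_lit 4, nat_lit 0x23a88, nat_lit 5)], nat_lit 0x38, nat_lit 0x8ea21d888b1a200000000000000, nat_lit 0x762223a88b1a200000000000000⟩
def b_levels : List Lev := [b_lev0, b_lev1, b_lev2, b_lev3]

def d_T : List Nat := [nat_lit 0xc9bd8a76502431, nat_lit 0x89acbd46517032]
def d_prog : List (Nat × Nat × Nat) := [(nat_lit 1, nat_lit 1, nat_lit 0), (nat_lit 1, nat_lit 1, nat_lit 0), (nat_lit 0, nat_lit 3, nat_lit 3), (nat_lit 0, nat_lit 0, nat_lit 3), (nat_lit 0, nat_lit 0, nat_lit 4), (nat_lit 0, nat_lit 0, nat_lit 6), (nat_lit 0, nat_lit 0, nat_lit 7), (nat_lit 0, nat_lit 0, nat_lit 8), (nat_lit 0, nat_lit 0, nat_lit 9), (nat_lit 0, nat_lit 7, nat_lit 8), (nat_lit 0, nat_lit 0, nat_lit 1), (nat_lit 0, nat_lit 11, nat_lit 11), (nat_lit 0, nat_lit 0, nat_lit 13), (nat_lit 0, nat_lit 0, nat_lit 14), (nat_lit 0, nat_lit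 0, nat_lit 14), (nat_lit 0, nat_lit 0, nat_lit 15), (nat_lit 0, nat_lit 0, nat_lit 17), (nat_lit 0, nat_lit 0, nat_lit 18), (nat_lit 0, nat_lit 0, nat_lit 18), (nat_lit 0, nat_lit 0, nat_lit 20), (nat_lit 0, nat_lit 0, nat_lit 21), (nat_lit 0, nat_lit 0, nat_lit 21), (nat_lit 0, nat_lit 12, nat_lit 0), (nat_lit 1, nat_lit 12, nat_lit 0), (nat_lit 1, nat_lit 1, nat_lit 0), (nat_lit 0, nat_lit 2, nat_lit 14), (nat_lit 0, nat_lit 0, nat_lit 3), (nat_lit 0, nat_lit 0, nat_lit 4), (nat_lit 0, nat_lit 0, nat_lit 5), (nat_lit 0, nat_lit 0, nat_lit 18), (nat_lit 0, nat_lit 0, nat_lit 7), (nat_lit 0, nat_lit 7, nat_lit 6), (nat_lit 0, nat_lit 0, nat_lit 7), (nat_lit 0, nat_lit 0, nat_lit 2), (nat_lit 0, nat_lit 8, nat_lit 23), (nat_lit 0, nat_lit 0, nat_lit 24), (nat_lit 0, nat_lit 0, nat_lit 13), (nat_lit 0, nat_lit 0, nat_lit 14), (nat_lit 0, nat_lit 0, nat_lit 27), (nat_lit 0, nat_lit 0, nat_lit 16), (nat_lit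 0, nat_lit 0, nat_lit 29), (nat_lit 0, nat_lit 0, nat_lit 18), (nat_lit 0, nat_lit 0, nat_lit 19), (nat_lit 0, nat_lit 0, nat_lit 32), (nat_lit 1, nat_lit 10, nat_lit 0), (nat_lit 1, nat_lit 1, nat_lit 0), (nat_lit 0, nat_lit 12, nat_lit 2), (nat_lit 0, nat_lit 0, nat_lit 3), (nat_lit 0, nat_lit 0, nat_lit 4), (nat_lit 0, nat_lit 0, nat_lit 15), (nat_lit 0, nat_lit 0, nat_lit 16), (nat_lit 0, nat_lit 0, nat_lit 17), (nat_lit 0, nat_lit 0, nat_lit 8), (nat_lit 0, nat_lit 0, nat_lit 19), (nat_lit 0, nat_lit 0, nat_lit 10), (nat_lit 0, nat_lit 0, nat_lit 11), (nat_lit 0, nat_lit 10, nat_lit 11), (nat_lit 0, nat_lit 0, nat_lit 1)]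
def d_lev0 : Lev := ⟨nat_lit 0, [nat_lit 0xdca9b846537210, nat_lit 0xdc98ba36527410, nat_lit 0xdacb9816573240, nat_lit 0xc9bd8a76502431], [(nat_lit 1, nat_lit 0xc9bd8a76502431, nat_lit 0), (nat_lit 4, nat_lit 0xdacb9816573240, nat_lit 1), (nat_lit 3, nat_lit 0xc9bd8a76502431, nat_lit 1), (nat_lit 2, nat_lit 0xdc98ba36527410, nat_lit 4), (nat_lit 7, nat_lit 0xdacb9816573240, nat_lit 4)], nat_lit 0x9f, nat_lit 0xb9ad8c465021370000000000000000000000000000a9cd8b1650273498bcad765140238bcda916504372c9bd8a76502431dcba9876543210, nat_lit 0xa8dbc9065713240000000000000000000000000000ab8dc9265013748ab9dc76530142abc98d16532074adb8c976521304dcba9876543210⟩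
def d_lev1 : Lev := ⟨nat_lit 1, [nat_lit 0xdca9b846537210, nat_lit 0xdc98ba36527410, nat_lit 0xdacb9816573240], [(nat_lit 4, nat_lit 0xdacb9816573240, nat_lit 1), (nat_lit 3, nat_lit 0xdca9b846537210, nat_lit 4), (nat_lit 2, nat_lit 0xdc98ba36527410, nat_lit 4), (nat_lit 7, nat_lit 0xdacb9816573240, nat_lit 4)], nat_lit 0x9e, nat_lit 0xdbac98465132700000000000000000000000000000dacb9816573240d9cab816547230d8c9ba16537420dcba987654321000000000000000, nat_lit 0xdacb98165732400000000000000000000000000000dbac9846513270db9ac836541270db98ac36524170dcba987654321000000000000000⟩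
def d_lev2 : Lev := ⟨nat_lit 2, [nat_lit 0xdca9b846537210, nat_lit 0xdc98ba36527410], [(nat_lit 4, nat_lit 0xdc98ba36527410, nat_lit 2), (nat_lit 3, nat_lit 0xdca9b846537210, nat_lit 4), (nat_lit 7, nat_lit 0xdca9b846537210, nat_lit 3)], nat_lit 0x9c, nat_lit 0xdca89b465237100000000000000000000000000000dc98ba36527410dcb8a976524310dcba98765432100000000000000000000000000000, nat_lit 0xdc8b9a265734100000000000000000000000000000dc98ba36527410dcb98a76532410dcba98765432100000000000000000000000000000⟩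
def d_lev3 : Lev := ⟨nat_lit 3, [nat_lit 0xdca9b846537210], [(nat_lit 7, nat_lit 0xdca9b846537210, nat_lit 3), (nat_lit 4, nat_lit 0xdca9b846537210, nat_lit 7)], nat_lit 0x98, nat_lit 0xdca9b8465372100000000000000000000000000000dc9ba836574210dcba9876543210000000000000000000000000000000000000000000, nat_lit 0xdc9ba8365742100000000000000000000000000000dca9b846537210dcba9876543210000000000000000000000000000000000000000000⟩
def d_levels : List Lev := [d_lev0, d_lev1, d_lev2, d_lev3]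

def Ds : List (Nat × Nat × Nat) := [(nat_lit 0xfa8519, nat_lit 0x21742, nat_lit 0xc9bd8a76502431), (nat_lit 0x9a9e1a, nat_lit 0x151d, nat_lit 0x89acbd46517032)]
theorem hid2 : ∀ i < 6, app 3 7 0x2c688 i = i := by decide +kernel

theorem diag : allL (diagOK 4 15 6 3 7 0x2c688) Ds = true := by decide +kernel

theorem check2 : checkAll 6 3 7 18 0x3ffff 0x2c688 (Ds.map (·.2.1)) b_prog b_levels = true := by decide +kernel

theorem check3 : checkAll (8 + 6) 4 15 56 0xffffffffffffff 0xdcba9876543210 (Ds.map (·.2.2)) d_prog d_levels = true := by decide +kernel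

theorem check1 : checkAll 8 3 7 24 0xffffff idc8 (Ds.map (·.1)) prog levels = true := by decide +kernel

theorem o1 : orderC d_levels = orderC levels := by decide +kernel

theorem o2 : orderC d_levels = orderC b_levels := by decide +kernel

theorem o3 : orderC b_levels * 2 = Nat.factorial 6 := by decide +kernel

theorem self : Excl (HH T) → Target (HH T) := fun _ =>
  target_alt (k := 6) (by norm_num) (by norm_num) (by decide +kernel) hm8 hid2 diag check1 check2 check3 o1 o2 o3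

theorem concl : Concl Amb.gA T := by
  refine concl_of_step valid check stepc (by decide +kernel) self ?_
  intro t ht

  simp only [targets, List.mem_cons, List.not_mem_nil, or_false] at ht
  rcases ht with rfl | rfl | rfl | rfl
  · exact N00.concl
  · exact N02.concl
  · exact N03.concl
  · exact N08.concl

end Cfsg.Agent.Lib.OverLat.A8.N12
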