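import Cfsg.Agent.Lib.OverLat.A8.Common
import Cfsg.Agent.Lib.OverLat.A8.Amb
import Cfsg.Agent.Lib.OverLat.A8.N00
import Cfsg.Agent.Lib.OverLat.A8.N01
import Cfsg.Agent.Lib.OverLat.A8.N05

set_option autoImplicit false
set_option linter.unusedSectionVars false
set_option maxRecDepth 1000000

namespace Cfsg.Agent.Lib.OverLat.A8.N14

open Cfsg.Agent.Lib.PermComp.Core Cfsg.Agent.Lib.OverLat.Core Cfsg.Agent.Lib.OverLat.Basic Cfsg.Agent.Lib.OverLat.A8.Common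

def T : List Nat := [nat_lit 0xf72644, nat_lit 0xf4439a]
def prog : List (Nat × Nat × Nat) := [(nat_lit 1, nat_lit 1, nat_lit 0), (nat_lit 1, nat_lit 1, nat_lit 0), (nat_lit 0, nat_lit 2, nat_lit 2), (nat_lit 0, nat_lit 0, nat_lit 4), (nat_lit 0, nat_lit 0, nat_lit 5), (nat_lit 0, nat_lit 0, nat_lit 6), (nat_lit 0, nat_lit 0, nat_lit 6), (nat_lit 0, nat_lit 6, nat_lit 0), (nat_lit 0, nat_lit 9, nat_lit 9), (nat_lit 0, nat_lit 0, nat_lit 10), (nat_lit 0, nat_lit 0, nat_lit 11), (nat_lit 0, nat_lit 0, nat_lit 11), (nat_lit 0, nat_lit 0, nat_lit 12), (nat_lit 0, nat_lit 0, nat_lit 14), (nat_lit 0, nat_lit 0, nat_lit 15), (nat_lit 0, nat_lit 0, nat_lit 16), (nat_lit 0, nat_lit 0, nat_lit 16), (nat_lit 0, nat_lit 0, nat_lit 18), (nat_lit 0, nat_lit 0, nat_lit 19), (nat_lit 0, nat_lit 17, nat_lit 0), (nat_lit 0, nat_lit 21, nat_lit 20), (nat_lit 0, nat_lit 0, nat_lit 22), (nat_lit 0, nat_lit 0, nat_lit 23),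 (nat_lit 0, nat_lit 21, nat_lit 21), (nat_lit 0, nat_lit 0, nat_lit 23), (nat_lit 0, nat_lit 0, nat_lit 2), (nat_lit 0, nat_lit 17, nat_lit 26), (nat_lit 0, nat_lit 0, nat_lit 27), (nat_lit 0, nat_lit 0, nat_lit 29), (nat_lit 0, nat_lit 0, nat_lit 30), (nat_lit 0, nat_lit 0, nat_lit 30), (nat_lit 0, nat_lit 0, nat_lit 32), (nat_lit 0, nat_lit 0, nat_lit 33), (nat_lit 0, nat_lit 0, nat_lit 34), (nat_lit 0, nat_lit 0, nat_lit 34), (nat_lit 0, nat_lit 0, nat_lit 36), (nat_lit 0, nat_lit 12, nat_lit 0), (nat_lit 0, nat_lit 13, nat_lit 9), (nat_lit 1, nat_lit 12, nat_lit 0), (nat_lit 0, nat_lit 1, nat_lit 13), (nat_lit 0, nat_lit 0, nat_lit 3), (nat_lit 0, nat_lit 0, nat_lit 15), (nat_lit 0, nat_lit 0, nat_lit 4), (nat_lit 0, nat_lit 0, nat_lit 35), (nat_lit 0, nat_lit 0, nat_lit 36), (nat_lit 0, nat_lit 0, nat_lit 7), (nat_lit 0, nat_lit 0, nat_lit 9), (nat_lit 0, nat_lit 0, nat_lit 27), (nat_lit 0, nat_lit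 0, nat_lit 22), (nat_lit 0, nat_lit 10, nat_lit 0), (nat_lit 0, nat_lit 12, nat_lit 42), (nat_lit 0, nat_lit 0, nat_lit 43), (nat_lit 0, nat_lit 0, nat_lit 26), (nat_lit 0, nat_lit 0, nat_lit 16), (nat_lit 0, nat_lit 0, nat_lit 46), (nat_lit 0, nat_lit 0, nat_lit 47), (nat_lit 0, nat_lit 0, nat_lit 30), (nat_lit 0, nat_lit 0, nat_lit 19), (nat_lit 0, nat_lit 0, nat_lit 21), (nat_lit 0, nat_lit 0, nat_lit 33)]
def lev0 : Lev := ⟨nat_lit 0, [nat_lit 0xeead08, nat_lit 0xf2e4c8, nat_lit 0xe55d18, nat_lit 0xf72644], [(nat_lit 4, nat_lit 0xf72644, nat_lit 0), (nat_lit 2, nat_lit 0xeead08, nat_lit 4), (nat_lit 6, nat_lit 0xf2e4c8, nat_lit 4), (nat_lit 5, nat_lit 0xe55d18, nat_lit 4), (nat_lit 3, nat_lit 0xf2e4c8, nat_lit 2), (nat_lit 1, nat_lit 0xf72644, nat_lit 2)], nat_lit 0x7f, nat_lit 0xf63446e8ccc5f72644f56843f5cc42f9aa21fac688, nat_lit 0xe358d1ec45a9f70711f33151ef4a11f99b02fac688⟩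
def lev1 : Lev := ⟨nat_lit 1, [nat_lit 0xeead08, nat_lit 0xf2e4c8, nat_lit 0xe55d18], [(nat_lit 3, nat_lit 0xe55d18, nat_lit 1), (nat_lit 6, nat_lit 0xeead08, nat_lit 3), (nat_lit 2, nat_lit 0xf2e4c8, nat_lit 3), (nat_lit 4, nat_lit 0xf2e4c8, nat_lit 6), (nat_lit 5, nat_lit 0xe55d18, nat_lit 4)], nat_lit 0x7e, nat_lit 0xe656b0eca9a8e754e0e55d18e5d990fac688000000, nat_lit 0xe656b0e8bd28f614f0ee2370ea3a70fac688000000⟩
def lev2 : Lev := ⟨nat_lit 2, [nat_lit 0xeead08, nat_lit 0xf2e4c8], [(nat_lit 4, nat_lit 0xeead08, nat_lit 2), (nat_lit 3, nat_lit 0xf2e4c8, nat_lit 2), (nat_lit 6, nat_lit 0xf2e4c8, nat_lit 4)], nat_lit 0x5c, nat_lit 0xeab988000000eead08f2e4c8fac688000000000000, nat_lit 0xeab988000000eead08f2e4c8fac688000000000000⟩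
def levels : List Lev := [lev0, lev1, lev2]

theorem valid : allL (validC 8 3 7 idc8) T = true := by decide +kernel

theorem check : checkAll 8 3 7 24 0xffffff idc8 T prog levels = true := by decide +kernel

def targets : List (List Nat) := [N00.T, N01.T, N05.T]
def cert : StepCert where
  N := nat_lit 120
  b := nat_lit 7
  bm := nat_lit 127
  U := nat_lit 0x7cd8863de82a5dd0749c5cca1cead4bdac44ddca88be20cedd1728bde10ade0a5a5f18e8be2631dcab189cbd421e97165c3ba1bc1c9cbf3302bd42c69ea0f1ddd062dc466a9d50735d8d0d9c629d1d3b8c3f2625bd418bbe2c581e9ca3deb40cde04cd9f0a535ceae05ec2f09ea60e7d0d291e62ab1cd51e3e3d507d0366dc4a993f2b035f115c5e505e9d5cc11f46553c55333d681d7e15855ecc0b9ea3981e6aca3e86a67ee1117c294e1f45593c5cd47f52223e899a7ee4447f5888eea80eec694ae3155cef4055ea1785e6a998ee82a6f0274eeb4159f852d4e75622f2839aeae644f356883dd8161caae6ddca117ce9425ccd433d5c1c3c6a9c7f1b027c446e5de065bd8c621de50d7d518c9d0b8b5e6a587eac0c3ec0f29dd2861e2ccd1f5853dcd4e0bca11e7e63509c5c99dc394a3f055c5f02ec9ce62abe045ebd68c1dd421d3e27859ee40b5e99981d5674de50ca5c474e9f2159bc62d41ec39adea644bf4688fac688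
  V := nat_lit 0xc23ea9d0ba3ac60bd3ce740dd1846fcf8b11ddca88c3d50bdca760d3aa0bddd214d4b5e0c7d702dda328cd7829c2a667c999c5cf82a5d7a819c3c559c6f503de1a13dcc615c67153cc2bccd0729dc9894fd4173acbc14bcfd310ce90a7de88cadc54ccd5f054d195e8c6c5d8c2f70accaf44d0d09fc222efcd5878c11f5cddc285d5a139d503e3c253d3ce7541d44657c620fdd0337ac85ee1cec1cacaf318d1d40fc296bcd2ae43c13f0dd542c7ce047dd61e1acab23cd28ed1d63e88e2bd0af13c0df502e6f44c53e857a1eab330e29c9ce1670df54383fa045df61632eae21cf28791f66688c23a7ac1952fddca42d13e29cd41e9ce037ad182bdd5ae21c0ced5d01bd3cf9a14d02acfca0f4bc9f14cd1d3d0ce8f0ac6c43bc27a99cc550fd63057de14e8c3a32bd15e58ce7285dd380dd502fcd485dcd0f62ac3d2d4d3b541dc435ac85739d2f0cacab3e0c60757de540bc147cdd57303d3845dcac21fde8711d7c688fac688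
  tabsA := [(nat_lit 0x8c73aa, nat_lit 0x77b83b3885e0684709e167dddae7b122cdd5e79d2e18dd08da34362772c31026c444df2b72972db5d590b76a3a8592b24f8dd781a02abb5e0bd29e0d2771d692287c3339a5ce7b372eb822f7883931c7148118a6aa50fa569147615a639bf400095437a99290c88193), (nat_lit 0x972e19, nat_lit 0x65168a62232d6a038ad97ae3aa4f53c43a838837679040d1ec25bb0dd77f4420cb12c14ec783f31765bb4451683ea2dcb5571de389c01b8fc676499c10eb05d34fa1315023646967ba360d9f6db8b90d05f4aaaa49c81339595d7389626e6362444c2a7f6127a137de)]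
  tabsL := [(nat_lit 0xf72644, nat_lit 0xefcfb75e9c7961e1ab75cdf9b3e39fb6bd8d96f5df8f2b4e89b8ab65c911ec1a8ff05ebb4ad59771aad3a34274c97264398b0e1407cf1d3764b5c316cd5a3356bd82e587c9a044914983651528329d325465d09d141091e383819a0c30b15104088f1a2c4870a04100), (nat_lit 0xf4439a, nat_lit 0xeddf8f4ebcf959cb4386fa3bb06cdb7744887af253d5a65c57d0b3e6b58f161bd32adf9d72dc0b15eb54a4e67cd9329d478d11e417ef5db670cd7356ed182b58c98af5a9d09554a119e3494b294c44287488879c1280f8b3a34d823260b81284c9101c305080c10180)]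
  rt := nat_lit 0xe3c78f1e3c78b972e5cb972e5cb972e5cb972e5cb972e5cb972e5cb972e5cb972e5cb972e5cb972e5cb972e5cb972e5cb972e5cb972e5cab56ad5ab56ad5ab56ad5ab56040810204081020408102040810204081020408102040810204081020408102040810204080
  par := nat_lit 0xedd79f3e5c406dd7ab363c37eedcb362c57ad56a51a1427ce9b3664b95264c8911e3c68b16244870a14180fdfbe7cf5e3c76edd3a72e403566cd93160b96ad58b15ab00850203c74e1b3668c962a50993224078e1a3460b1424488101c3860c14284080c1820204000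
  gi := nat_lit 0x20008002000010004000000400002040000204080020000102000010204001000400002000800004000020400100000800200080020000002000000004080020008000000800000001000400102000800200081020000102040010004001000400100040010200000
  rootMask := nat_lit 0x20000000000000200080000000002
  roots := [(nat_lit 1, nat_lit 0, [nat_lit 0x348a6ca, nat_lit 0x325b699]), (nat_lit 43, nat_lit 1, [nat_lit 0x12d2689, nat_lit 0x3493]), (nat_lit 57, nat_lit 0, [nat_lit 0x245b691, nat_lit 0x13449292]), (nat_lit 113, nat_lit 2, [nat_lit 0x122d9, nat_lit 0x348b])]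

theorem stepc : stepCheck 8 3 7 24 0xffffff idc8 levels targets T cert = true := by decide +kernel

def b_T : List Nat := [nat_lit 0x97e4c8, nat_lit 0x7e95a0]
def b_prog : List (Nat × Nat × Nat) := [(nat_lit 1, nat_lit 1, nat_lit 0), (nat_lit 1, nat_lit 1, nat_lit 0), (nat_lit 0, nat_lit 3, nat_lit 3), (nat_lit 0, nat_lit 0, nat_lit 3), (nat_lit 0, nat_lit 0, nat_lit 4), (nat_lit 0, nat_lit 0, nat_lit 6), (nat_lit 0, nat_lit 0, nat_lit 7), (nat_lit 0, nat_lit 0, nat_lit 7), (nat_lit 0, nat_lit 0, nat_lit 8), (nat_lit 0, nat_lit 0, nat_lit 10), (nat_lit 0, nat_lit 0, nat_lit 11), (nat_lit 0, nat_lit 0, nat_lit 11), (nat_lit 0, nat_lit 0, nat_lit 12), (nat_lit 0, nat_lit 11, nat_lit 11), (nat_lit 0, nat_lit 0, nat_lit 1), (nat_lit 0, nat_lit 15, nat_lit 16), (nat_lit 0, nat_lit 0, nat_lit 17), (nat_lit 0, nat_lit 0, nat_lit 17), (nat_lit 0, nat_lit 0, nat_lit 19), (nat_lit 0, nat_lit 0, nat_lit 20),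 (nat_lit 0, nat_lit 19, nat_lit 0), (nat_lit 1, nat_lit 6, nat_lit 0), (nat_lit 1, nat_lit 1, nat_lit 0), (nat_lit 0, nat_lit 8, nat_lit 2), (nat_lit 0, nat_lit 0, nat_lit 9), (nat_lit 0, nat_lit 0, nat_lit 4), (nat_lit 0, nat_lit 4, nat_lit 3), (nat_lit 0, nat_lit 0, nat_lit 1), (nat_lit 0, nat_lit 7, nat_lit 7), (nat_lit 0, nat_lit 0, nat_lit 14), (nat_lit 0, nat_lit 0, nat_lit 9), (nat_lit 0, nat_lit 8, nat_lit 8), (nat_lit 0, nat_lit 0, nat_lit 9), (nat_lit 0, nat_lit 0, nat_lit 2)]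
def b_lev0 : Lev := ⟨nat_lit 2, [nat_lit 0xbbc298, nat_lit 0x78cea8, nat_lit 0xde5688, nat_lit 0x97e4c8], [(nat_lit 3, nat_lit 0x97e4c8, nat_lit 2), (nat_lit 1, nat_lit 0xbbc298, nat_lit 3), (nat_lit 7, nat_lit 0x78cea8, nat_lit 3), (nat_lit 5, nat_lit 0x78cea8, nat_lit 1), (nat_lit 6, nat_lit 0xde5688, nat_lit 7), (nat_lit 4, nat_lit 0x97e4c8, nat_lit 7)], nat_lit 0xfe, nat_lit 0x85e5e8a5f5a08ce578c5573897e4c8fac6889ee458000000, nat_lit 0x50faf08b9af0317ce83e2770b374c8fac688d2f2d0000000⟩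
def b_lev1 : Lev := ⟨nat_lit 4, [nat_lit 0xbbc298, nat_lit 0x78cea8, nat_lit 0xde5688], [(nat_lit 5, nat_lit 0xde5688, nat_lit 4), (nat_lit 7, nat_lit 0xbbc298, nat_lit 5), (nat_lit 1, nat_lit 0x78cea8, nat_lit 5), (nat_lit 3, nat_lit 0x78cea8, nat_lit 7), (nat_lit 6, nat_lit 0xde5688, nat_lit 7)], nat_lit 0xfa, nat_lit 0xd67298f2e298de5688fac688c63ab8000000ce1ea8000000, nat_lit 0x9f5298f2e298de5688fac6883dd8b00000007cdca0000000⟩
def b_lev2 : Lev := ⟨nat_lit 1, [nat_lit 0xbbc298, nat_lit 0x78cea8], [(nat_lit 3, nat_lit 0xbbc298, nat_lit 1), (nat_lit 5, nat_lit 0x78cea8, nat_lit 1), (nat_lit 7, nat_lit 0x78cea8, nat_lit 3)], nat_lit 0xaa, nat_lit 0x39cab800000078cea8000000bbc298000000fac688000000, nat_lit 0x39cab800000078cea8000000bbc298000000fac688000000⟩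
def b_levels : List Lev := [b_lev0, b_lev1, b_lev2]

def d_T : List Nat := [nat_lit 0xcdfeab9875623104, nat_lit 0xbfd9aec875041632]
def d_prog : List (Nat × Nat × Nat) := [(nat_lit 1, nat_lit 1, nat_lit 0), (nat_lit 1, nat_lit 1, nat_lit 0), (nat_lit 0, nat_lit 3, nat_lit 3), (nat_lit 0, nat_lit 0, nat_lit 3), (nat_lit 0, nat_lit 0, nat_lit 4), (nat_lit 0, nat_lit 0, nat_lit 6), (nat_lit 0, nat_lit 0, nat_lit 7), (nat_lit 0, nat_lit 0, nat_lit 8), (nat_lit 0, nat_lit 0, nat_lit 9), (nat_lit 0, nat_lit 7, nat_lit 7), (nat_lit 0, nat_lit 0, nat_lit 1), (nat_lit 0, nat_lit 11, nat_lit 11), (nat_lit 0, nat_lit 0, nat_lit 13), (nat_lit 0, nat_lit 0, nat_lit 14), (nat_lit 0, nat_lit 0, nat_lit 14), (nat_lit 0, nat_lit 0, nat_lit 15), (nat_lit 0, nat_lit 0, nat_lit 17), (nat_lit 0, nat_lit 0, nat_lit 18), (nat_lit 0, nat_lit 0, nat_lit 18), (nat_lit 0, nat_lit 0, nat_lit 20), (nat_lit 0, nat_lit 0, nat_lit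 21), (nat_lit 0, nat_lit 0, nat_lit 21), (nat_lit 0, nat_lit 22, nat_lit 23), (nat_lit 0, nat_lit 0, nat_lit 23), (nat_lit 0, nat_lit 0, nat_lit 24), (nat_lit 0, nat_lit 0, nat_lit 25), (nat_lit 0, nat_lit 0, nat_lit 27), (nat_lit 0, nat_lit 0, nat_lit 27), (nat_lit 0, nat_lit 26, nat_lit 27), (nat_lit 0, nat_lit 0, nat_lit 1), (nat_lit 1, nat_lit 19, nat_lit 0), (nat_lit 1, nat_lit 9, nat_lit 0), (nat_lit 1, nat_lit 2, nat_lit 0), (nat_lit 0, nat_lit 3, nat_lit 3), (nat_lit 0, nat_lit 0, nat_lit 23), (nat_lit 0, nat_lit 0, nat_lit 24), (nat_lit 0, nat_lit 0, nat_lit 25), (nat_lit 0, nat_lit 0, nat_lit 15), (nat_lit 0, nat_lit 0, nat_lit 16), (nat_lit 0, nat_lit 0, nat_lit 28), (nat_lit 0, nat_lit 0, nat_lit 10), (nat_lit 0, nat_lit 0, nat_lit 19), (nat_lit 0, nat_lit 11, nat_lit 9), (nat_lit 0, nat_lit 0, nat_lit 12), (nat_lit 0, nat_lit 0, nat_lit 2), (nat_lit 0, nat_lit 34, nat_lit 23), (nat_lit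 0, nat_lit 0, nat_lit 16), (nat_lit 0, nat_lit 0, nat_lit 25), (nat_lit 0, nat_lit 17, nat_lit 16), (nat_lit 0, nat_lit 0, nat_lit 1)]
def d_lev0 : Lev := ⟨nat_lit 0, [nat_lit 0xbe9cfad872534610, nat_lit 0x9ebcdaf874562310, nat_lit 0xfecdab9875613240, nat_lit 0xcdfeab9875623104], [(nat_lit 4, nat_lit 0xcdfeab9875623104, nat_lit 0), (nat_lit 3, nat_lit 0xbe9cfad872534610, nat_lit 4), (nat_lit 6, nat_lit 0x9ebcdaf874562310, nat_lit 4), (nat_lit 1, nat_lit 0xfecdab9875613240, nat_lit 4), (nat_lit 2, nat_lit 0xcdfeab9875623104, nat_lit 4), (nat_lit 5, nat_lit 0xfecdab9875613240, nat_lit 6)], nat_lit 0x7f, nat_lit 0xcb9eadf875432106da9ebcf876132405cdfeab9875623104c9beafd875264103efcdba9876513042dcfeba9876523401fedcba9876543210, nat_lit 0x9cafebd8706543219cfabed876024351dcefab9875603421ac9fdbe874630521efcdba9876513042dcfeba9876523401fedcba9876543210⟩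
def d_lev1 : Lev := ⟨nat_lit 1, [nat_lit 0xbe9cfad872534610, nat_lit 0x9ebcdaf874562310, nat_lit 0xfecdab9875613240], [(nat_lit 4, nat_lit 0xfecdab9875613240, nat_lit 1), (nat_lit 3, nat_lit 0xbe9cfad872534610, nat_lit 4), (nat_lit 6, nat_lit 0x9ebcdaf874562310, nat_lit 4), (nat_lit 2, nat_lit 0x9ebcdaf874562310, nat_lit 3), (nat_lit 5, nat_lit 0xfecdab9875613240, nat_lit 6)], nat_lit 0x7e, nat_lit 0x9ecbadf8754123609edabcf876142350fecdab9875613240bec9afd875214630decfa9b875316420fedcba98765432100000000000000000, nat_lit 0x9eadcbf8716523409edabcf876142350fecdab9875613240ae9dfbc872631540cefd9ba873625140fedcba98765432100000000000000000⟩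
def d_lev2 : Lev := ⟨nat_lit 2, [nat_lit 0xbe9cfad872534610, nat_lit 0x9ebcdaf874562310], [(nat_lit 6, nat_lit 0xbe9cfad872534610, nat_lit 2), (nat_lit 3, nat_lit 0x9ebcdaf874562310, nat_lit 2), (nat_lit 4, nat_lit 0x9ebcdaf874562310, nat_lit 6)], nat_lit 0x5c, nat_lit 0xbe9cfad8725346100000000000000000defc9ab8735264109ebcdaf874562310fedcba987654321000000000000000000000000000000000, nat_lit 0xbe9cfad8725346100000000000000000defc9ab8735264109ebcdaf874562310fedcba987654321000000000000000000000000000000000⟩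
def d_levels : List Lev := [d_lev0, d_lev1, d_lev2]

def Ds : List (Nat × Nat × Nat) := [(nat_lit 0xf72644, nat_lit 0x97e4c8, nat_lit 0xcdfeab9875623104), (nat_lit 0xf4439a, nat_lit 0x7e95a0, nat_lit 0xbfd9aec875041632)]
theorem hid2 : ∀ i < 8, app 3 7 0xfac688 i = i := by decide +kernel

theorem diag : allL (diagOK 4 15 8 3 7 0xfac688) Ds = true := by decide +kernel

theorem check2 : checkAll 8 3 7 24 0xffffff 0xfac688 (Ds.map (·.2.1)) b_prog b_levels = true := by decide +kernel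

theorem check3 : checkAll (8 + 8) 4 15 64 0xffffffffffffffff 0xfedcba9876543210 (Ds.map (·.2.2)) d_prog d_levels = true := by decide +kernel

theorem check1 : checkAll 8 3 7 24 0xffffff idc8 (Ds.map (·.1)) prog levels = true := by decide +kernel

theorem o1 : orderC d_levels = orderC levels := by decide +kernel

theorem o2 : orderC d_levels = orderC b_levels := by decide +kernel

theorem o3 : orderC b_levels = 168 := by decide +kernel

def mat0 : GL (Fin 3) (ZMod 2) := ⟨!![1, 1, 0; 0, 1, 1; 0, 0, 1], !![1, 1, 1; 0, 1, 1; 0, 0, 1], by decide +kernel, by decide +kernel⟩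

theorem rep0 : ∀ a : Fin 3 → ZMod 2, app 3 7 0x97e4c8 (eV 3 a) = eV 3 ((mat0 : Matrix (Fin 3) (Fin 3) (ZMod 2)).mulVec a) := by decide +kernel

def mat1 : GL (Fin 3) (ZMod 2) := ⟨!![0, 0, 1; 0, 1, 0; 1, 1, 0], !![0, 1, 1; 0, 1, 0; 1, 0, 0], by decide +kernel, by decide +kernel⟩

theorem rep1 : ∀ a : Fin 3 → ZMod 2, app 3 7 0x7e95a0 (eV 3 a) = eV 3 ((mat1 : Matrix (Fin 3) (Fin 3) (ZMod 2)).mulVec a) := by decide +kernel

theorem hGL : ∀ c ∈ Ds.map (·.2.1), ∃ g : GL (Fin 3) (ZMod 2), Cfsg.Agent.Lib.PermComp.Core.Rep 3 7 (eV 3) c (rho 3 g) := by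
  intro c hc
  simp only [Ds, List.map_cons, List.map_nil, List.mem_cons, List.not_mem_nil, or_false] at hc
  rcases hc with rfl | rfl
  · exact ⟨mat0, rep_of_mat 3 _ _ rep0⟩
  · exact ⟨mat1, rep_of_mat 3 _ _ rep1⟩

theorem self : Excl (HH T) → Target (HH T) := fun _ =>
  target_gl3 (by decide +kernel) hm8 hid2 diag check1 check2 check3 o1 o2 o3 hGL

theorem concl : Concl Amb.gA T := by
  refine concl_of_step valid check stepc (by decide +kernel) self ?_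
  intro t ht

  simp only [targets, List.mem_cons, List.not_mem_nil, or_false] at ht
  rcases ht with rfl | rfl | rfl
  · exact N00.concl
  · exact N01.concl
  · exact N05.concl

end Cfsg.Agent.Lib.OverLat.A8.N14
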