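import Cfsg.Agent.Lib.OverLat.A8.Common
import Cfsg.Agent.Lib.OverLat.A8.Amb
import Cfsg.Agent.Lib.OverLat.A8.N00
import Cfsg.Agent.Lib.OverLat.A8.N01
import Cfsg.Agent.Lib.OverLat.A8.N04

set_option autoImplicit false
set_option linter.unusedSectionVars false
set_option maxRecDepth 1000000

namespace Cfsg.Agent.Lib.OverLat.A8.N16

open Cfsg.Agent.Lib.PermComp.Core Cfsg.Agent.Lib.OverLat.Core Cfsg.Agent.Lib.OverLat.Basic Cfsg.Agent.Lib.OverLat.A8.Common

def T : List Nat := [nat_lit 0xe842f5, nat_lit 0xe83b31]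
def prog : List (Nat × Nat × Nat) := [(nat_lit 1, nat_lit 1, nat_lit 0), (nat_lit 1, nat_lit 1, nat_lit 0), (nat_lit 0, nat_lit 2, nat_lit 2), (nat_lit 0, nat_lit 0, nat_lit 4), (nat_lit 0, nat_lit 0, nat_lit 5), (nat_lit 0, nat_lit 0, nat_lit 6), (nat_lit 0, nat_lit 0, nat_lit 6), (nat_lit 0, nat_lit 8, nat_lit 8), (nat_lit 0, nat_lit 0, nat_lit 9), (nat_lit 0, nat_lit 0, nat_lit 10), (nat_lit 0, nat_lit 0, nat_lit 10), (nat_lit 0, nat_lit 0, nat_lit 11), (nat_lit 0, nat_lit 0, nat_lit 13), (nat_lit 0, nat_lit 0, nat_lit 14), (nat_lit 0, nat_lit 0, nat_lit 15), (nat_lit 0, nat_lit 0, nat_lit 15), (nat_lit 0, nat_lit 0, nat_lit 17), (nat_lit 0, nat_lit 0, nat_lit 18), (nat_lit 0, nat_lit 19, nat_lit 18), (nat_lit 0, nat_lit 0, nat_lit 20), (nat_lit 0, nat_lit 0, nat_lit 21), (nat_lit 0, nat_lit 19, nat_lit 20), (nat_lit 0, nat_lit 0, nat_lit 1), (nat_lit 0, nat_lit 15, nat_lit 23), (nat_lit 0, nat_lit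 0, nat_lit 24), (nat_lit 0, nat_lit 0, nat_lit 26), (nat_lit 0, nat_lit 0, nat_lit 27), (nat_lit 0, nat_lit 0, nat_lit 27), (nat_lit 0, nat_lit 0, nat_lit 29), (nat_lit 0, nat_lit 0, nat_lit 30), (nat_lit 0, nat_lit 0, nat_lit 31), (nat_lit 0, nat_lit 0, nat_lit 31), (nat_lit 0, nat_lit 0, nat_lit 33), (nat_lit 0, nat_lit 11, nat_lit 32), (nat_lit 0, nat_lit 0, nat_lit 33), (nat_lit 0, nat_lit 0, nat_lit 2), (nat_lit 1, nat_lit 29, nat_lit 0), (nat_lit 1, nat_lit 1, nat_lit 0), (nat_lit 1, nat_lit 15, nat_lit 0), (nat_lit 0, nat_lit 32, nat_lit 21), (nat_lit 0, nat_lit 0, nat_lit 4), (nat_lit 0, nat_lit 0, nat_lit 5), (nat_lit 0, nat_lit 5, nat_lit 4), (nat_lit 0, nat_lit 0, nat_lit 4), (nat_lit 0, nat_lit 21, nat_lit 26), (nat_lit 0, nat_lit 0, nat_lit 9), (nat_lit 0, nat_lit 0, nat_lit 10), (nat_lit 0, nat_lit 0, nat_lit 11), (nat_lit 0, nat_lit 0, nat_lit 41), (nat_lit 0, nat_lit 5, nat_lit 0)]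
def lev0 : Lev := ⟨nat_lit 0, [nat_lit 0xf16748, nat_lit 0xf72708, nat_lit 0xf0bd50, nat_lit 0xe842f5], [(nat_lit 5, nat_lit 0xe842f5, nat_lit 0), (nat_lit 2, nat_lit 0xf16748, nat_lit 5), (nat_lit 6, nat_lit 0xf72708, nat_lit 5), (nat_lit 1, nat_lit 0xf0bd50, nat_lit 5), (nat_lit 4, nat_lit 0xf72708, nat_lit 2), (nat_lit 3, nat_lit 0xe842f5, nat_lit 2)], nat_lit 0x7f, nat_lit 0xf022eee842f5f852d4e2ac63f462e2f435a1fac688, nat_lit 0xe0e51de4459dfa045dee9116f3141deb18c5fac688⟩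
def lev1 : Lev := ⟨nat_lit 1, [nat_lit 0xf16748, nat_lit 0xf72708, nat_lit 0xf0bd50], [(nat_lit 2, nat_lit 0xf0bd50, nat_lit 1), (nat_lit 5, nat_lit 0xf16748, nat_lit 2), (nat_lit 4, nat_lit 0xf72708, nat_lit 2), (nat_lit 6, nat_lit 0xf72708, nat_lit 5), (nat_lit 3, nat_lit 0xf0bd50, nat_lit 4)], nat_lit 0x7e, nat_lit 0xf4b530f8b8a8e8bba0f56318f0bd50fac688000000, nat_lit 0xe728e8f8b8a8e999a8f32358ed6868fac688000000⟩
def lev2 : Lev := ⟨nat_lit 2, [nat_lit 0xf16748, nat_lit 0xf72708], [(nat_lit 5, nat_lit 0xf16748, nat_lit 2), (nat_lit 4, nat_lit 0xf72708, nat_lit 2), (nat_lit 6, nat_lit 0xf72708, nat_lit 5)], nat_lit 0x74, nat_lit 0xea5788f16748f72708000000fac688000000000000, nat_lit 0xea5788f16748f72708000000fac688000000000000⟩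
def levels : List Lev := [lev0, lev1, lev2]

theorem valid : allL (validC 8 3 7 idc8) T = true := by decide +kernel

theorem check : checkAll 8 3 7 24 0xffffff idc8 T prog levels = true := by decide +kernel

def targets : List (List Nat) := [N00.T, N01.T, N04.T]
def cert : StepCert where
  N := nat_lit 120
  b := nat_lit 7
  bm := nat_lit 127
  U := nat_lit 0xbc68533c67541cd7321e98f29cd4337e9434dd505cdd1163bc388e3c46ae7c23749c2a735c4c6b5c3d4c3dc0b5be30b15ce82b5ee60cbf421a3f3a227ec5819cb585bdc4313e34357ce12a9ee0cadea21cdcaa231da3ac1e2b8bdc155cdc54631f14ec1f550b9ea05e7ca1669dac687e2d489c1a9e7c52a69f16a83de162be605a3e8ce2bc8d1a5dea215e621d5e87a15c899d1e1ad61dd316de1750ddd850bd07313d08f57f58881eb2a6bc27a13c299d9ce7507ee8505c18f5deb888eb10eceb510bf4189ee456a6ef18a8fa82e2f88b1aee85a1f0859de5d116f1dc50ed0b31f102f5f356881f52d4dc58d1be23833dab841e15ab1dd58cbc86b43e88b37d606c9d614bbd0c5c3d0d637ec0569cb1565f53035c58739c17aa7c598a9f1a1a7f52229ea7817ca9859daa317e2235dc872ade88cadd18c55e885e5c87665de8685e67483c589ebc16a63f38a8ddd421de141d1eb5a11cc59d3e3d50bdcc501d42f5bf4688fac688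
  V := nat_lit 0xd3b055d1067dc6262fc6b427c670eac68ee2de0353dd1163c3b88dc0c6bdc50f1dc5f115ccc1d5cd09cdc44abbc7d883d0b1ead287cad7c21ad5983acacec1c878e9c7cac2c458fad0ae2bd2f40bde831add912ac88b1fc9d10fdd02e5de10d5d484e7d620cfc2f313c11f2bccfb10cd5f08c1f2a5c21e9dd4f6a0d11a3bd3d213ce943ccfa22cd19bc2d053daca97c4c833ecc1d467c22a5fdd5660de3a50c7a744c4357cd63e88c2989fcb9705c8333dd17668d2be50c435e5deb888f485a3f6218be332a5e216b5f4bca0fa941cf9a22cea9cc4e862ece22a73ee6a50e5ad44e4655cf66688d6045fde3445cbd119c98b39c8d0e7ca0acfc786acc6b0bcd08f53d1714bcf8354cd117cc2ce53c1786bd621d9c631d5c8f625ca3e0dd5f222d61e1acaf701c83f29c5fb02c45f1adca62cdeb40cdc3561c2b3d4c117ecd0bbd0d157c8c232bdc396a5d4b8b8de1ac2dc52e2ca98c7c842efcd5878cfca50c4455fd7c688fac688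
  tabsA := [(nat_lit 0x8c73aa, nat_lit 0xacfb3ea621369304820b70f770aa104934dc0be2ef4ee2f999320f63743164c6a2c01f650ad28b7c6e11e034e3ba0192691f181b0dd651552c6b6183af315143cef14a63b975039a52597d973feef5990b0d91b412af22d9c5cac088a5cc314172d4a51f5e8ae6fa4f), (nat_lit 0x972e19, nat_lit 0x730304118cd468245594aae98cf1041ac93579a1d06c3c1c2c9db28108f73ae1ae0700938f8720fd6374542d1ef7c40bac124696a5b6d2189fcca6278869de3b54b51347e6a9a93375c3cdf5d876c5d05ac71a1b6b1d8485e805774b6a2bf4422fe197a676dba9e26c)]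
  tabsL := [(nat_lit 0xe842f5, nat_lit 0xeb777f7a3db5cae9c74f3c7cacc6bfb6df0dd3ebc49db3567c3a3348cb0a9e4c582f4cab72d58ad5295081365c98f161c17cfdcbc7aedd345ac59b86cddaab64c17ae58807a624a122a529ca25102cc223c591a13e6849d0870d8d325ca93221880e18280870a0c100), (nat_lit 0xe83b31, nat_lit 0xe973776a1df549ebc3472c5cec45bdb2d71df02b439bb75e6c1a73c7c906965c786fcba976dd9af569d19f3a64a911a2427afdcbb7cf1d2b58c19376ae1b3466c57ae5a7c725229d1aa52a09a60e28ba13a55222406409e0670d8c3460b14241480f1a2c4880c10100)]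
  rt := nat_lit 0x8102040810204081020408102040810204081020408102040810204081020408102040810204081020408102040810204072e5cb972e5cab56ad5ab56ad5ab56ad5ab56040810204081020408102040810204081020408102040810204081020408102040810204080
  par := nat_lit 0xe5cb7efd5ab264c78ef5ebb76d5ab366a54a74e952a34674e9b3664c972e54a93264488f1a3458b12243870a14183020007ceddba74e403264c58b05ebd72e5ab15ab00911a244810193260c172e50a12223c78e1c3468c182c58910203870c18284080c1820404000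
  gi := nat_lit 0x20008002000800200080020008002000800200080020008002000800200080020008002040010004001000400100040000004001000000100040010200080000008000000010004001000400100040000004001000400100040000200080020008100040010000000
  rootMask := nat_lit 0x10200080000000002
  roots := [(nat_lit 1, nat_lit 0, [nat_lit 0x14d26cb, nat_lit 0x1348b699]), (nat_lit 43, nat_lit 1, [nat_lit 0x89699, nat_lit 0x2cb692]), (nat_lit 57, nat_lit 2, [nat_lit 0x8b6d9, nat_lit 0x99452]), (nat_lit 64, nat_lit 0, [nat_lit 0xb44b2d1, nat_lit 0x4b49a])]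

theorem stepc : stepCheck 8 3 7 24 0xffffff idc8 levels targets T cert = true := by decide +kernel

def b_T : List Nat := [nat_lit 0x97e4c8, nat_lit 0x356ee0]
def b_prog : List (Nat × Nat × Nat) := [(nat_lit 1, nat_lit 1, nat_lit 0), (nat_lit 1, nat_lit 1, nat_lit 0), (nat_lit 0, nat_lit 3, nat_lit 3), (nat_lit 0, nat_lit 0, nat_lit 3), (nat_lit 0, nat_lit 0, nat_lit 4), (nat_lit 0, nat_lit 0, nat_lit 6), (nat_lit 0, nat_lit 0, nat_lit 7), (nat_lit 0, nat_lit 0, nat_lit 7), (nat_lit 0, nat_lit 0, nat_lit 8), (nat_lit 0, nat_lit 0, nat_lit 10), (nat_lit 0, nat_lit 0, nat_lit 11), (nat_lit 0, nat_lit 0, nat_lit 11), (nat_lit 0, nat_lit 0, nat_lit 12), (nat_lit 0, nat_lit 12, nat_lit 11), (nat_lit 0, nat_lit 0, nat_lit 13), (nat_lit 0, nat_lit 0, nat_lit 14), (nat_lit 0, nat_lit 0, nat_lit 3), (nat_lit 0, nat_lit 17, nat_lit 18), (nat_lit 0, nat_lit 0, nat_lit 19), (nat_lit 0, nat_lit 0, nat_lit 19), (nat_lit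 0, nat_lit 0, nat_lit 21), (nat_lit 0, nat_lit 0, nat_lit 22), (nat_lit 0, nat_lit 8, nat_lit 0), (nat_lit 0, nat_lit 24, nat_lit 23), (nat_lit 0, nat_lit 0, nat_lit 25), (nat_lit 0, nat_lit 0, nat_lit 25), (nat_lit 1, nat_lit 9, nat_lit 0), (nat_lit 1, nat_lit 4, nat_lit 0), (nat_lit 0, nat_lit 5, nat_lit 2), (nat_lit 0, nat_lit 0, nat_lit 6), (nat_lit 0, nat_lit 0, nat_lit 7), (nat_lit 0, nat_lit 0, nat_lit 5), (nat_lit 0, nat_lit 0, nat_lit 6), (nat_lit 0, nat_lit 0, nat_lit 10), (nat_lit 0, nat_lit 0, nat_lit 17), (nat_lit 0, nat_lit 0, nat_lit 12), (nat_lit 0, nat_lit 0, nat_lit 19), (nat_lit 0, nat_lit 10, nat_lit 9), (nat_lit 0, nat_lit 0, nat_lit 1), (nat_lit 0, nat_lit 22, nat_lit 16), (nat_lit 0, nat_lit 0, nat_lit 23), (nat_lit 0, nat_lit 0, nat_lit 18), (nat_lit 0, nat_lit 0, nat_lit 16), (nat_lit 0, nat_lit 0, nat_lit 20), (nat_lit 0, nat_lit 17, nat_lit 0)]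
def b_lev0 : Lev := ⟨nat_lit 2, [nat_lit 0xb3e688, nat_lit 0x977688, nat_lit 0xe6b8b0, nat_lit 0x97e4c8], [(nat_lit 3, nat_lit 0x97e4c8, nat_lit 2), (nat_lit 4, nat_lit 0xe6b8b0, nat_lit 3), (nat_lit 6, nat_lit 0xb3e688, nat_lit 4), (nat_lit 7, nat_lit 0x977688, nat_lit 4), (nat_lit 5, nat_lit 0x977688, nat_lit 6), (nat_lit 1, nat_lit 0xe6b8b0, nat_lit 6)], nat_lit 0xfe, nat_lit 0x7a15e87e95a073157877953097e4c8fac6889ee458000000, nat_lit 0x58dee0ca9ee0356ee0a72ee0b374c8fac688d2f2d0000000⟩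
def b_lev1 : Lev := ⟨nat_lit 1, [nat_lit 0xb3e688, nat_lit 0x977688, nat_lit 0xe6b8b0], [(nat_lit 6, nat_lit 0xe6b8b0, nat_lit 1), (nat_lit 4, nat_lit 0xb3e688, nat_lit 6), (nat_lit 5, nat_lit 0x977688, nat_lit 6), (nat_lit 7, nat_lit 0x977688, nat_lit 4), (nat_lit 3, nat_lit 0xe6b8b0, nat_lit 4)], nat_lit 0xfa, nat_lit 0xc63ab8e6b8b0873ea8a7bca0bbc298000000fac688000000, nat_lit 0x3dd8b0e6b8b074f8b0af98b0bbc298000000fac688000000⟩
def b_lev2 : Lev := ⟨nat_lit 4, [nat_lit 0xb3e688, nat_lit 0x977688], [(nat_lit 6, nat_lit 0xb3e688, nat_lit 4), (nat_lit 7, nat_lit 0x977688, nat_lit 4), (nat_lit 5, nat_lit 0x977688, nat_lit 6)], nat_lit 0xf0, nat_lit 0x977688b3e688de5688fac688000000000000000000000000, nat_lit 0x977688b3e688de5688fac688000000000000000000000000⟩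
def b_levels : List Lev := [b_lev0, b_lev1, b_lev2]

def d_T : List Nat := [nat_lit 0xcdfeab9872041365, nat_lit 0x9daefbc872035461]
def d_prog : List (Nat × Nat × Nat) := [(nat_lit 1, nat_lit 1, nat_lit 0), (nat_lit 1, nat_lit 1, nat_lit 0), (nat_lit 0, nat_lit 3, nat_lit 3), (nat_lit 0, nat_lit 0, nat_lit 3), (nat_lit 0, nat_lit 0, nat_lit 4), (nat_lit 0, nat_lit 0, nat_lit 6), (nat_lit 0, nat_lit 0, nat_lit 7), (nat_lit 0, nat_lit 0, nat_lit 8), (nat_lit 0, nat_lit 0, nat_lit 9), (nat_lit 0, nat_lit 7, nat_lit 8), (nat_lit 0, nat_lit 0, nat_lit 9), (nat_lit 0, nat_lit 0, nat_lit 10), (nat_lit 0, nat_lit 0, nat_lit 3), (nat_lit 0, nat_lit 13, nat_lit 13), (nat_lit 0, nat_lit 0, nat_lit 15), (nat_lit 0, nat_lit 0, nat_lit 16), (nat_lit 0, nat_lit 0, nat_lit 16), (nat_lit 0, nat_lit 0, nat_lit 17), (nat_lit 0, nat_lit 0, nat_lit 19), (nat_lit 0, nat_lit 0, nat_lit 20), (nat_lit 0, nat_lit 0, nat_lit 20),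 (nat_lit 0, nat_lit 0, nat_lit 22), (nat_lit 0, nat_lit 0, nat_lit 23), (nat_lit 0, nat_lit 0, nat_lit 23), (nat_lit 0, nat_lit 22, nat_lit 0), (nat_lit 0, nat_lit 25, nat_lit 26), (nat_lit 0, nat_lit 0, nat_lit 26), (nat_lit 0, nat_lit 0, nat_lit 27), (nat_lit 0, nat_lit 0, nat_lit 28), (nat_lit 0, nat_lit 0, nat_lit 30), (nat_lit 0, nat_lit 0, nat_lit 30), (nat_lit 0, nat_lit 21, nat_lit 0), (nat_lit 0, nat_lit 18, nat_lit 32), (nat_lit 0, nat_lit 0, nat_lit 33), (nat_lit 0, nat_lit 0, nat_lit 35), (nat_lit 0, nat_lit 0, nat_lit 36), (nat_lit 0, nat_lit 0, nat_lit 36), (nat_lit 0, nat_lit 0, nat_lit 37), (nat_lit 0, nat_lit 0, nat_lit 39), (nat_lit 0, nat_lit 0, nat_lit 40), (nat_lit 0, nat_lit 30, nat_lit 0), (nat_lit 0, nat_lit 9, nat_lit 28), (nat_lit 0, nat_lit 0, nat_lit 17), (nat_lit 0, nat_lit 0, nat_lit 11), (nat_lit 0, nat_lit 0, nat_lit 3), (nat_lit 0, nat_lit 32, nat_lit 32), (nat_lit 0, nat_lit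 0, nat_lit 14), (nat_lit 0, nat_lit 0, nat_lit 15), (nat_lit 0, nat_lit 0, nat_lit 35), (nat_lit 0, nat_lit 0, nat_lit 17), (nat_lit 0, nat_lit 0, nat_lit 18), (nat_lit 0, nat_lit 0, nat_lit 19), (nat_lit 0, nat_lit 0, nat_lit 27)]
def d_lev0 : Lev := ⟨nat_lit 0, [nat_lit 0xaed9bfc876134250, nat_lit 0xabdcef9876451230, nat_lit 0xfac9ebd871265340, nat_lit 0xcdfeab9872041365], [(nat_lit 5, nat_lit 0xcdfeab9872041365, nat_lit 0), (nat_lit 1, nat_lit 0xaed9bfc876134250, nat_lit 5), (nat_lit 4, nat_lit 0xabdcef9876451230, nat_lit 5), (nat_lit 2, nat_lit 0xfac9ebd871265340, nat_lit 5), (nat_lit 3, nat_lit 0xabdcef9876451230, nat_lit 1), (nat_lit 6, nat_lit 0xcdfeab9872041365, nat_lit 1)], nat_lit 0x7f, nat_lit 0x9fbdcae873510426cdfeab9872041365cdabfe98720531649dfbaec8720145639cfabed8730645129daefbc872035461fedcba9876543210, nat_lit 0xe9cbdaf870526143dcefab9871042635baefcd9871403625dae9cbf871230645da9ebcf874236015bce9adf871324605fedcba9876543210⟩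
def d_lev1 : Lev := ⟨nat_lit 2, [nat_lit 0xaed9bfc876134250, nat_lit 0xabdcef9876451230, nat_lit 0xfac9ebd871265340], [(nat_lit 3, nat_lit 0xfac9ebd871265340, nat_lit 2), (nat_lit 4, nat_lit 0xaed9bfc876134250, nat_lit 3), (nat_lit 1, nat_lit 0xabdcef9876451230, nat_lit 3), (nat_lit 5, nat_lit 0xfac9ebd871265340, nat_lit 3), (nat_lit 6, nat_lit 0xfac9ebd871265340, nat_lit 4)], nat_lit 0x7e, nat_lit 0xbfd9aec872314650fb9daec874312560af9cebd875261430fac9ebd871265340fedcba9876543210afc9bed8732641500000000000000000, nat_lit 0xead9fbc872135640fac9ebd871265340eb9cafd874621530fb9daec874312560fedcba9876543210ea9dbfc8741365200000000000000000⟩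
def d_lev2 : Lev := ⟨nat_lit 1, [nat_lit 0xaed9bfc876134250, nat_lit 0xabdcef9876451230], [(nat_lit 5, nat_lit 0xaed9bfc876134250, nat_lit 1), (nat_lit 3, nat_lit 0xabdcef9876451230, nat_lit 1), (nat_lit 4, nat_lit 0xabdcef9876451230, nat_lit 5)], nat_lit 0x3a, nat_lit 0xaed9bfc876134250fbd9eac876315240abdcef98764512300000000000000000fedcba98765432100000000000000000, nat_lit 0xaed9bfc876134250fbd9eac876315240abdcef98764512300000000000000000fedcba98765432100000000000000000⟩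
def d_levels : List Lev := [d_lev0, d_lev1, d_lev2]

def Ds : List (Nat × Nat × Nat) := [(nat_lit 0xe842f5, nat_lit 0x97e4c8, nat_lit 0xcdfeab9872041365), (nat_lit 0xe83b31, nat_lit 0x356ee0, nat_lit 0x9daefbc872035461)]
theorem hid2 : ∀ i < 8, app 3 7 0xfac688 i = i := by decide +kernel

theorem diag : allL (diagOK 4 15 8 3 7 0xfac688) Ds = true := by decide +kernel

theorem check2 : checkAll 8 3 7 24 0xffffff 0xfac688 (Ds.map (·.2.1)) b_prog b_levels = true := by decide +kernel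

theorem check3 : checkAll (8 + 8) 4 15 64 0xffffffffffffffff 0xfedcba9876543210 (Ds.map (·.2.2)) d_prog d_levels = true := by decide +kernel

theorem check1 : checkAll 8 3 7 24 0xffffff idc8 (Ds.map (·.1)) prog levels = true := by decide +kernel

theorem o1 : orderC d_levels = orderC levels := by decide +kernel

theorem o2 : orderC d_levels = orderC b_levels := by decide +kernel

theorem o3 : orderC b_levels = 168 := by decide +kernel

def mat0 : GL (Fin 3) (ZMod 2) := ⟨!![1, 1, 0; 0, 1, 1; 0, 0, 1], !![1, 1, 1; 0, 1, 1; 0, 0, 1], by decide +kernel, by decide +kernel⟩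

theorem rep0 : ∀ a : Fin 3 → ZMod 2, app 3 7 0x97e4c8 (eV 3 a) = eV 3 ((mat0 : Matrix (Fin 3) (Fin 3) (ZMod 2)).mulVec a) := by decide +kernel

def mat1 : GL (Fin 3) (ZMod 2) := ⟨!![0, 1, 0; 0, 1, 1; 1, 0, 1], !![1, 1, 1; 1, 0, 0; 1, 1, 0], by decide +kernel, by decide +kernel⟩

theorem rep1 : ∀ a : Fin 3 → ZMod 2, app 3 7 0x356ee0 (eV 3 a) = eV 3 ((mat1 : Matrix (Fin 3) (Fin 3) (ZMod 2)).mulVec a) := by decide +kernel

theorem hGL : ∀ c ∈ Ds.map (·.2.1), ∃ g : GL (Fin 3) (ZMod 2), Cfsg.Agent.Lib.PermComp.Core.Rep 3 7 (eV 3) c (rho 3 g) := by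
  intro c hc
  simp only [Ds, List.map_cons, List.map_nil, List.mem_cons, List.not_mem_nil, or_false] at hc
  rcases hc with rfl | rfl
  · exact ⟨mat0, rep_of_mat 3 _ _ rep0⟩
  · exact ⟨mat1, rep_of_mat 3 _ _ rep1⟩

theorem self : Excl (HH T) → Target (HH T) := fun _ =>
  target_gl3 (by decide +kernel) hm8 hid2 diag check1 check2 check3 o1 o2 o3 hGL

theorem concl : Concl Amb.gA T := by
  refine concl_of_step valid check stepc (by decide +kernel) self ?_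
  intro t ht

  simp only [targets, List.mem_cons, List.not_mem_nil, or_false] at ht
  rcases ht with rfl | rfl | rfl
  · exact N00.concl
  · exact N01.concl
  · exact N04.concl

end Cfsg.Agent.Lib.OverLat.A8.N16
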