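import Cfsg.Agent.Lib.OverLat.A8.Common
import Cfsg.Agent.Lib.OverLat.A8.Amb
import Cfsg.Agent.Lib.OverLat.A8.N00
import Cfsg.Agent.Lib.OverLat.A8.N04
import Cfsg.Agent.Lib.OverLat.A8.N05

set_option autoImplicit false
set_option linter.unusedSectionVars false
set_option maxRecDepth 1000000

namespace Cfsg.Agent.Lib.OverLat.A8.N18

open Cfsg.Agent.Lib.PermComp.Core Cfsg.Agent.Lib.OverLat.Core Cfsg.Agent.Lib.OverLat.Basic Cfsg.Agent.Lib.OverLat.A8.Common

def T : List Nat := [nat_lit 0xdc3855, nat_lit 0x33d616]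
def prog : List (Nat × Nat × Nat) := [(nat_lit 1, nat_lit 1, nat_lit 0), (nat_lit 1, nat_lit 1, nat_lit 0), (nat_lit 0, nat_lit 2, nat_lit 2), (nat_lit 0, nat_lit 0, nat_lit 4), (nat_lit 0, nat_lit 0, nat_lit 5), (nat_lit 0, nat_lit 0, nat_lit 6), (nat_lit 0, nat_lit 0, nat_lit 6), (nat_lit 0, nat_lit 6, nat_lit 5), (nat_lit 0, nat_lit 0, nat_lit 6), (nat_lit 0, nat_lit 0, nat_lit 8), (nat_lit 0, nat_lit 0, nat_lit 3), (nat_lit 0, nat_lit 12, nat_lit 12), (nat_lit 0, nat_lit 0, nat_lit 13), (nat_lit 0, nat_lit 0, nat_lit 14), (nat_lit 0, nat_lit 0, nat_lit 14), (nat_lit 0, nat_lit 0, nat_lit 15), (nat_lit 0, nat_lit 0, nat_lit 17), (nat_lit 0, nat_lit 0, nat_lit 18), (nat_lit 0, nat_lit 0, nat_lit 19), (nat_lit 0, nat_lit 0, nat_lit 19), (nat_lit 0, nat_lit 0, nat_lit 21), (nat_lit 0, nat_lit 0, nat_lit 22), (nat_lit 0, nat_lit 12, nat_lit 0), (nat_lit 0, nat_lit 24, nat_lit 23), (nat_lit 0, nat_lit 0, nat_lit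 25), (nat_lit 0, nat_lit 0, nat_lit 26), (nat_lit 0, nat_lit 18, nat_lit 0), (nat_lit 1, nat_lit 0, nat_lit 0), (nat_lit 0, nat_lit 17, nat_lit 17), (nat_lit 0, nat_lit 0, nat_lit 6), (nat_lit 0, nat_lit 0, nat_lit 7), (nat_lit 0, nat_lit 0, nat_lit 20), (nat_lit 0, nat_lit 0, nat_lit 5), (nat_lit 0, nat_lit 0, nat_lit 22), (nat_lit 0, nat_lit 0, nat_lit 7), (nat_lit 0, nat_lit 0, nat_lit 12), (nat_lit 0, nat_lit 0, nat_lit 9), (nat_lit 0, nat_lit 0, nat_lit 10), (nat_lit 0, nat_lit 0, nat_lit 27), (nat_lit 0, nat_lit 11, nat_lit 0)]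
def lev0 : Lev := ⟨nat_lit 0, [nat_lit 0x5e3b88, nat_lit 0x7543b8, nat_lit 0xdc3855], [(nat_lit 5, nat_lit 0xdc3855, nat_lit 0), (nat_lit 4, nat_lit 0x5e3b88, nat_lit 5), (nat_lit 2, nat_lit 0x7543b8, nat_lit 5), (nat_lit 3, nat_lit 0x5e3b88, nat_lit 4), (nat_lit 6, nat_lit 0x5e3b88, nat_lit 2), (nat_lit 1, nat_lit 0xdc3855, nat_lit 2), (nat_lit 7, nat_lit 0x5e3b88, nat_lit 6)], nat_lit 0xff, nat_lit 0x701b979416bedc3855e85674584a7bac19f212a7b9fac688, nat_lit 0x9ee652376a5dc3855e6079539c1d547bc252ae707fac688⟩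
def lev1 : Lev := ⟨nat_lit 1, [nat_lit 0x5e3b88, nat_lit 0x7543b8], [(nat_lit 7, nat_lit 0x7543b8, nat_lit 1), (nat_lit 2, nat_lit 0x5e3b88, nat_lit 7), (nat_lit 3, nat_lit 0x7543b8, nat_lit 7), (nat_lit 6, nat_lit 0x5e3b88, nat_lit 2), (nat_lit 5, nat_lit 0x5e3b88, nat_lit 3), (nat_lit 4, nat_lit 0x5e3b88, nat_lit 5)], nat_lit 0xfe, nat_lit 0x7543b88fd2b03bb5283d5ce02b4f58b333d0fac688000000, nat_lit 0x2b4f58a67c98b8a8f8ce15787543b857e858fac688000000⟩
def lev2 : Lev := ⟨nat_lit 2, [nat_lit 0x5e3b88], [(nat_lit 6, nat_lit 0x5e3b88, nat_lit 2), (nat_lit 7, nat_lit 0x5e3b88, nat_lit 6)], nat_lit 0xc4, nat_lit 0xc9d9c85e3b88000000000000000000fac688000000000000, nat_lit 0x5e3b88c9d9c8000000000000000000fac688000000000000⟩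
def levels : List Lev := [lev0, lev1, lev2]

theorem valid : allL (validC 8 3 7 idc8) T = true := by decide +kernel

theorem check : checkAll 8 3 7 24 0xffffff idc8 T prog levels = true := by decide +kernel

def targets : List (List Nat) := [N00.T, N04.T, N05.T]
def cert : StepCert where
  N := nat_lit 120
  b := nat_lit 7
  bm := nat_lit 127
  U := nat_lit 0x57b8314c4e6ea9f38432bc8785de16fa3055ddca887af842054deb625dd1a8bf846b414f87ba16deb8883a77501af2a343cace1355d97729c85de80d425e732ae8f8116a7baf83a2701d7a358cbc4477355889eb8eae31f1a06e3d5784ce1a87f4c6160f7855b3e68837cc98cc7aa129fc258c647d89917ef2e05af702a3e5d0b472f2b0c5f528ba05d9cfa80db02e73ca0a7b7a5e421dd3a2223d7a0e9cbc0729eb634bd155ce314e706eab978468694f31ea8786f616f98855de568812e67a675117b372133d3c2599847deca9465a07e98b8ace985e8bf4b0b47e52b083bca9af9d10232767c6a8f8c14a7b774e428ef18ae8173508e9eb706bd152be31a5778479094f3a3a879cd616e33855d7c68894667a39d1179af213e8bc25ce047d67a946d107e95e0acec25e8ba7b0b4f1d2b01e3ca97e9d1018a7673728f80b4a7bb9ce4276718a4397354469eb81ebd1953e312af784c9894fd0ba87e656161bb855bf4688fac688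
  V := nat_lit 0xa739c260cdd58b8b990ee8b9627a72f85853ddca889abe114cc1774e5e466b89a9154f8ba1f872deb8889956789a909fa1c5ce5662c7573f08d03bca6651d632b5b831e157ab9c1c2d6e252f0abc8427f558b1ec66fd02e0eb13ca07791ddca1e3466a943c57b3e688af42b89d9c858c1bba307cd5217ba3f2e213f7109ce60ab386ee989caaf05bd2c4bc3d0a67e1153dd1947a5e11ca1a1f2d583e2e8ca754b13755ce46674bc280ddd3ab87a1113f8d11eab982f672f83a54de568832e617162e7397e05acc197a387ad4e13d2958d7c4a1f58c7a708de708abc65e98acf886afac6015173e3eb5303dc156774e118afc0be427a550b1af51ee4566e9c28b8771193f4c19d8b9c2766af43856bf46883376151a2a7b9af05aec19aa3c5cd4a13f315ce744c1d5cc7e508ea788b3e66a98ccd887ceae6019172f37353835c1977bca118b5e0ba427e650b1f551fa466779428a87b91d3b8c1de8a9e25672b83857d7c688fac688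
  tabsA := [(nat_lit 0x8c73aa, nat_lit 0x5b6325cd888f3d413963b96ae437e115fd2be9a3542b6928c0e38d01c1af72430be6f617cc6c2accb89f25ddacc6616f3ad0733e2aafa7e50c6f32ab36c1106c74484294140a63261a3232b08fd2f2097eb741d3104fa6a891ebef00b9ce3a2a50c0e4e0b6d329da30), (nat_lit 0x972e19, nat_lit 0x4fa1c6a6b9ebc33aaa52f98e8b399a6a455d769304dc2486fc34cc218ef144004bae2bc88f911a17b015e3981d436f67221ac1f5d67dba0b148042576b0732b34b142836c613337e21c96d34b6038c2f7cb180455aff84f287891f623ec6dea1d4f36f44349d85eb24)]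
  tabsL := [(nat_lit 0xdc3855, nat_lit 0xefd3af6e7c7970dbbb7ebd9ab268cf832e9bd770e6b78f159bf62e5aaf56b529f52650a73a3d197163439b2654090fa0c47909dbf7ae5d3562d9c2e64cdbac52d143056997ad48a91274694fa04274f192a68e122c5cd901a606141e28991103830b0e241840a04100), (nat_lit 0x33d616, nat_lit 0xe3cbb77ebd39efd5c366edbaeb69b55715fd19f363cb92e61c17aedbb362bc87545ed3a90a94da13e24e95325b9931e34586fe0c07cf1d9d5edd2a75ae1a366a7953364c582e58ad4a842992234480f81266c48b2270c1a32087172c54a12203c68c0a284070c10180)]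
  rt := nat_lit 0xe3c78f1e3c78ead5ab56ad5aaad5ab56ad5ab56ad5ab56ad5ab56ad5ab56ab972e5cb972e5cb972e5cb972e5cb972e5cb972e5cb972e5c9d3a74e9d3a74e9d3a74e9d3a74e9d3a74e9d3a74e9d3a74e810204081020408102040810204081020408102040810204080
  par := nat_lit 0xe9d39f2e3c406edbb35ebd403263c582fdebd76e5bb76acd9b162bd6ab5404f9f3664b95223c68b161c385060407ef9ebc78eddba72e403262c17ae58ad52952a14274c992a44889121407cf9e3a740162a50992203c70d1a3060b14284881018305080c1820204000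
  gi := nat_lit 0x20008102000010004080020000102000810000081000408002000810200001000400102040010200080020408002000810004001020000100040800204081000400102000810004001020400102000010004080020408100040010200081000400102040010200000
  rootMask := nat_lit 0x20400002000000200000020000002
  roots := [(nat_lit 1, nat_lit 0, [nat_lit 0x25b653, nat_lit 0x134ca6cb]), (nat_lit 29, nat_lit 0, [nat_lit 0x2db253, nat_lit 0x1b4d345a]), (nat_lit 57, nat_lit 0, [nat_lit 0x6cb4ca, nat_lit 0x4ca2d3699]), (nat_lit 85, nat_lit 0, [nat_lit 0x32d9653, nat_lit 0x228b2db]), (nat_lit 106, nat_lit 1, [nat_lit 0x32cb6da, nat_lit 0xb4d968b]), (nat_lit 113, nat_lit 2, [nat_lit 0x6532d1, nat_lit 0x536db])]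

theorem stepc : stepCheck 8 3 7 24 0xffffff idc8 levels targets T cert = true := by decide +kernel

def b_T : List Nat := [nat_lit 0xde5688, nat_lit 0xa72ee0]
def b_prog : List (Nat × Nat × Nat) := [(nat_lit 1, nat_lit 1, nat_lit 0), (nat_lit 1, nat_lit 1, nat_lit 0), (nat_lit 0, nat_lit 3, nat_lit 3), (nat_lit 0, nat_lit 0, nat_lit 3), (nat_lit 0, nat_lit 0, nat_lit 4), (nat_lit 0, nat_lit 0, nat_lit 6), (nat_lit 0, nat_lit 0, nat_lit 7), (nat_lit 0, nat_lit 0, nat_lit 7), (nat_lit 0, nat_lit 0, nat_lit 8), (nat_lit 0, nat_lit 0, nat_lit 10), (nat_lit 0, nat_lit 0, nat_lit 11), (nat_lit 0, nat_lit 0, nat_lit 11), (nat_lit 0, nat_lit 0, nat_lit 12), (nat_lit 0, nat_lit 12, nat_lit 11), (nat_lit 0, nat_lit 0, nat_lit 12), (nat_lit 0, nat_lit 0, nat_lit 2), (nat_lit 0, nat_lit 14, nat_lit 14), (nat_lit 0, nat_lit 18, nat_lit 17), (nat_lit 0, nat_lit 0, nat_lit 19), (nat_lit 0, nat_lit 0, nat_lit 19), (nat_lit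 0, nat_lit 3, nat_lit 0), (nat_lit 0, nat_lit 21, nat_lit 21), (nat_lit 0, nat_lit 0, nat_lit 22), (nat_lit 0, nat_lit 0, nat_lit 23), (nat_lit 0, nat_lit 0, nat_lit 25), (nat_lit 0, nat_lit 0, nat_lit 25), (nat_lit 0, nat_lit 0, nat_lit 27), (nat_lit 0, nat_lit 0, nat_lit 28), (nat_lit 0, nat_lit 0, nat_lit 29), (nat_lit 0, nat_lit 0, nat_lit 29), (nat_lit 0, nat_lit 15, nat_lit 0), (nat_lit 0, nat_lit 13, nat_lit 31), (nat_lit 0, nat_lit 0, nat_lit 32), (nat_lit 0, nat_lit 0, nat_lit 33), (nat_lit 0, nat_lit 0, nat_lit 34), (nat_lit 0, nat_lit 0, nat_lit 35), (nat_lit 0, nat_lit 0, nat_lit 37), (nat_lit 0, nat_lit 23, nat_lit 0), (nat_lit 1, nat_lit 7, nat_lit 0), (nat_lit 0, nat_lit 23, nat_lit 23), (nat_lit 0, nat_lit 0, nat_lit 2), (nat_lit 0, nat_lit 0, nat_lit 20), (nat_lit 0, nat_lit 0, nat_lit 26), (nat_lit 0, nat_lit 0, nat_lit 12), (nat_lit 0, nat_lit 0, nat_lit 6), (nat_lit 0, nat_lit 0, nat_lit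 7), (nat_lit 0, nat_lit 0, nat_lit 30), (nat_lit 0, nat_lit 8, nat_lit 0), (nat_lit 0, nat_lit 32, nat_lit 10), (nat_lit 0, nat_lit 0, nat_lit 18), (nat_lit 0, nat_lit 0, nat_lit 19), (nat_lit 0, nat_lit 12, nat_lit 0)]
def b_lev0 : Lev := ⟨nat_lit 4, [nat_lit 0x4ecdc8, nat_lit 0xdec4c8, nat_lit 0xad43f0, nat_lit 0xde5688], [(nat_lit 5, nat_lit 0xde5688, nat_lit 4), (nat_lit 2, nat_lit 0xad43f0, nat_lit 5), (nat_lit 7, nat_lit 0x4ecdc8, nat_lit 2), (nat_lit 3, nat_lit 0xdec4c8, nat_lit 2), (nat_lit 6, nat_lit 0xdec4c8, nat_lit 7), (nat_lit 1, nat_lit 0xad43f0, nat_lit 3)], nat_lit 0xfe, nat_lit 0xd67298f662d0de5688fac6885633b87623f0ea1ce8000000, nat_lit 0x9f5298f35458de5688fac6882b59d8475f18ecd5a0000000⟩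
def b_lev1 : Lev := ⟨nat_lit 1, [nat_lit 0x4ecdc8, nat_lit 0xdec4c8, nat_lit 0xad43f0], [(nat_lit 6, nat_lit 0xad43f0, nat_lit 1), (nat_lit 3, nat_lit 0x4ecdc8, nat_lit 6), (nat_lit 7, nat_lit 0xdec4c8, nat_lit 6), (nat_lit 2, nat_lit 0xdec4c8, nat_lit 3), (nat_lit 5, nat_lit 0xad43f0, nat_lit 7)], nat_lit 0xee, nat_lit 0xa9c3b8ad43f05ccce8000000bbc298bf42d0fac688000000, nat_lit 0x2bcb9847cd58ccc5e8000000bbc298d7c458fac688000000⟩
def b_lev2 : Lev := ⟨nat_lit 2, [nat_lit 0x4ecdc8, nat_lit 0xdec4c8], [(nat_lit 7, nat_lit 0x4ecdc8, nat_lit 2), (nat_lit 3, nat_lit 0xdec4c8, nat_lit 2), (nat_lit 6, nat_lit 0xdec4c8, nat_lit 7)], nat_lit 0xcc, nat_lit 0x4ecdc86acf88000000000000dec4c8fac688000000000000, nat_lit 0x4ecdc86acf88000000000000dec4c8fac688000000000000⟩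
def b_levels : List Lev := [b_lev0, b_lev1, b_lev2]

def d_T : List Nat := [nat_lit 0xefcdba9867034125, nat_lit 0xd9eafbc814753026]
def d_prog : List (Nat × Nat × Nat) := [(nat_lit 1, nat_lit 1, nat_lit 0), (nat_lit 1, nat_lit 1, nat_lit 0), (nat_lit 0, nat_lit 2, nat_lit 2), (nat_lit 0, nat_lit 0, nat_lit 4), (nat_lit 0, nat_lit 0, nat_lit 5), (nat_lit 0, nat_lit 0, nat_lit 5), (nat_lit 0, nat_lit 0, nat_lit 6), (nat_lit 0, nat_lit 0, nat_lit 8), (nat_lit 0, nat_lit 0, nat_lit 9), (nat_lit 0, nat_lit 0, nat_lit 9), (nat_lit 0, nat_lit 0, nat_lit 11), (nat_lit 0, nat_lit 0, nat_lit 12), (nat_lit 0, nat_lit 0, nat_lit 12), (nat_lit 0, nat_lit 12, nat_lit 11), (nat_lit 0, nat_lit 0, nat_lit 12), (nat_lit 0, nat_lit 0, nat_lit 14), (nat_lit 0, nat_lit 0, nat_lit 3), (nat_lit 0, nat_lit 17, nat_lit 18), (nat_lit 0, nat_lit 0, nat_lit 18), (nat_lit 0, nat_lit 0, nat_lit 19), (nat_lit 0, nat_lit 0, nat_lit 20),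 (nat_lit 0, nat_lit 0, nat_lit 22), (nat_lit 0, nat_lit 0, nat_lit 22), (nat_lit 0, nat_lit 9, nat_lit 0), (nat_lit 1, nat_lit 7, nat_lit 0), (nat_lit 0, nat_lit 1, nat_lit 8), (nat_lit 0, nat_lit 0, nat_lit 9), (nat_lit 0, nat_lit 0, nat_lit 10), (nat_lit 0, nat_lit 0, nat_lit 4), (nat_lit 0, nat_lit 0, nat_lit 5), (nat_lit 0, nat_lit 0, nat_lit 13), (nat_lit 0, nat_lit 0, nat_lit 7), (nat_lit 0, nat_lit 0, nat_lit 15), (nat_lit 0, nat_lit 0, nat_lit 9), (nat_lit 0, nat_lit 0, nat_lit 10), (nat_lit 0, nat_lit 0, nat_lit 18), (nat_lit 0, nat_lit 11, nat_lit 11), (nat_lit 0, nat_lit 0, nat_lit 1)]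
def d_lev0 : Lev := ⟨nat_lit 0, [nat_lit 0xfb9daec843751260, nat_lit 0xdfec9ba827435610, nat_lit 0xefcdba9867034125], [(nat_lit 5, nat_lit 0xefcdba9867034125, nat_lit 0), (nat_lit 7, nat_lit 0xfb9daec843751260, nat_lit 5), (nat_lit 4, nat_lit 0xdfec9ba827435610, nat_lit 5), (nat_lit 2, nat_lit 0xdfec9ba827435610, nat_lit 7), (nat_lit 6, nat_lit 0xefcdba9867034125, nat_lit 7), (nat_lit 3, nat_lit 0xdfec9ba827435610, nat_lit 4), (nat_lit 1, nat_lit 0xefcdba9867034125, nat_lit 2)], nat_lit 0xff, nat_lit 0xbfd9aec834015627bec9afd843520716efcdba9867034125fdce9ba872053164decfa9b8260451739deabfc8530147629cfabed804523671fedcba9876543210, nat_lit 0xead9fbc802367145ae9dfbc820576413efcdba9867034125fceda9b871403625cefd9ba816340725ade9bcf821736045da9ebcf812563407fedcba9876543210⟩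
def d_lev1 : Lev := ⟨nat_lit 2, [nat_lit 0xfb9daec843751260, nat_lit 0xdfec9ba827435610], [(nat_lit 6, nat_lit 0xdfec9ba827435610, nat_lit 2), (nat_lit 3, nat_lit 0xfb9daec843751260, nat_lit 6), (nat_lit 7, nat_lit 0xdfec9ba827435610, nat_lit 6), (nat_lit 1, nat_lit 0xfb9daec843751260, nat_lit 3), (nat_lit 5, nat_lit 0xdfec9ba827435610, nat_lit 3), (nat_lit 4, nat_lit 0xfb9daec843751260, nat_lit 7)], nat_lit 0xfe, nat_lit 0xedfca9b862354710dfec9ba827435610ad9ecbf863412570b9fdeca8321754609fbdcae824517360fedcba9876543210cfa9deb8257641300000000000000000, nat_lit 0xdfec9ba827435610edfca9b8623547109cebafd817256340dbcaf9e841327650e9cbdaf831562740fedcba9876543210eabf9dc8546317200000000000000000⟩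
def d_lev2 : Lev := ⟨nat_lit 1, [nat_lit 0xfb9daec843751260], [(nat_lit 6, nat_lit 0xfb9daec843751260, nat_lit 1), (nat_lit 3, nat_lit 0xfb9daec843751260, nat_lit 6)], nat_lit 0x4a, nat_lit 0xfb9daec84375126000000000000000000000000000000000fac9ebd8514762300000000000000000fedcba98765432100000000000000000, nat_lit 0xfac9ebd85147623000000000000000000000000000000000fb9daec8437512600000000000000000fedcba98765432100000000000000000⟩
def d_levels : List Lev := [d_lev0, d_lev1, d_lev2]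

def Ds : List (Nat × Nat × Nat) := [(nat_lit 0xdc3855, nat_lit 0xde5688, nat_lit 0xefcdba9867034125), (nat_lit 0x33d616, nat_lit 0xa72ee0, nat_lit 0xd9eafbc814753026)]
theorem hid2 : ∀ i < 8, app 3 7 0xfac688 i = i := by decide +kernel

theorem diag : allL (diagOK 4 15 8 3 7 0xfac688) Ds = true := by decide +kernel

theorem check2 : checkAll 8 3 7 24 0xffffff 0xfac688 (Ds.map (·.2.1)) b_prog b_levels = true := by decide +kernel

theorem check3 : checkAll (8 + 8) 4 15 64 0xffffffffffffffff 0xfedcba9876543210 (Ds.map (·.2.2)) d_prog d_levels = true := by decide +kernel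

theorem check1 : checkAll 8 3 7 24 0xffffff idc8 (Ds.map (·.1)) prog levels = true := by decide +kernel

theorem o1 : orderC d_levels = orderC levels := by decide +kernel

theorem o2 : orderC d_levels = orderC b_levels := by decide +kernel

theorem o3 : orderC b_levels = 168 := by decide +kernel

def mat0 : GL (Fin 3) (ZMod 2) := ⟨!![1, 0, 1; 0, 1, 0; 0, 0, 1], !![1, 0, 1; 0, 1, 0; 0, 0, 1], by decide +kernel, by decide +kernel⟩

theorem rep0 : ∀ a : Fin 3 → ZMod 2, app 3 7 0xde5688 (eV 3 a) = eV 3 ((mat0 : Matrix (Fin 3) (Fin 3) (ZMod 2)).mulVec a) := by decide +kernel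

def mat1 : GL (Fin 3) (ZMod 2) := ⟨!![0, 1, 0; 0, 1, 1; 1, 0, 0], !![0, 0, 1; 1, 0, 0; 1, 1, 0], by decide +kernel, by decide +kernel⟩

theorem rep1 : ∀ a : Fin 3 → ZMod 2, app 3 7 0xa72ee0 (eV 3 a) = eV 3 ((mat1 : Matrix (Fin 3) (Fin 3) (ZMod 2)).mulVec a) := by decide +kernel

theorem hGL : ∀ c ∈ Ds.map (·.2.1), ∃ g : GL (Fin 3) (ZMod 2), Cfsg.Agent.Lib.PermComp.Core.Rep 3 7 (eV 3) c (rho 3 g) := by
  intro c hc
  simp only [Ds, List.map_cons, List.map_nil, List.mem_cons, List.not_mem_nil, or_false] at hc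
  rcases hc with rfl | rfl
  · exact ⟨mat0, rep_of_mat 3 _ _ rep0⟩
  · exact ⟨mat1, rep_of_mat 3 _ _ rep1⟩

theorem self : Excl (HH T) → Target (HH T) := fun _ =>
  target_gl3 (by decide +kernel) hm8 hid2 diag check1 check2 check3 o1 o2 o3 hGL

theorem concl : Concl Amb.gA T := by
  refine concl_of_step valid check stepc (by decide +kernel) self ?_
  intro t ht

  simp only [targets, List.mem_cons, List.not_mem_nil, or_false] at ht
  rcases ht with rfl | rfl | rfl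
  · exact N00.concl
  · exact N04.concl
  · exact N05.concl

end Cfsg.Agent.Lib.OverLat.A8.N18
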