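import Cfsg.Agent.Lib.OverLat.A8.Common
import Cfsg.Agent.Lib.OverLat.A8.Amb
import Cfsg.Agent.Lib.OverLat.A8.N00
import Cfsg.Agent.Lib.OverLat.A8.N03
import Cfsg.Agent.Lib.OverLat.A8.N06
import Cfsg.Agent.Lib.OverLat.A8.N09

set_option autoImplicit false
set_option linter.unusedSectionVars false
set_option maxRecDepth 1000000

namespace Cfsg.Agent.Lib.OverLat.A8.N19

open Cfsg.Agent.Lib.PermComp.Core Cfsg.Agent.Lib.OverLat.Core Cfsg.Agent.Lib.OverLat.Basic Cfsg.Agent.Lib.OverLat.A8.Common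

def T : List Nat := [nat_lit 0xde845c, nat_lit 0xfaa318]
def prog : List (Nat × Nat × Nat) := [(nat_lit 1, nat_lit 1, nat_lit 0), (nat_lit 0, nat_lit 1, nat_lit 1), (nat_lit 0, nat_lit 0, nat_lit 3), (nat_lit 0, nat_lit 0, nat_lit 4), (nat_lit 0, nat_lit 0, nat_lit 5), (nat_lit 0, nat_lit 0, nat_lit 5), (nat_lit 0, nat_lit 5, nat_lit 0), (nat_lit 0, nat_lit 8, nat_lit 8), (nat_lit 0, nat_lit 0, nat_lit 9), (nat_lit 0, nat_lit 0, nat_lit 10), (nat_lit 0, nat_lit 0, nat_lit 10), (nat_lit 0, nat_lit 0, nat_lit 11), (nat_lit 0, nat_lit 0, nat_lit 13), (nat_lit 0, nat_lit 0, nat_lit 14), (nat_lit 0, nat_lit 0, nat_lit 15), (nat_lit 0, nat_lit 0, nat_lit 15), (nat_lit 0, nat_lit 0, nat_lit 17), (nat_lit 0, nat_lit 0, nat_lit 18), (nat_lit 0, nat_lit 17, nat_lit 0), (nat_lit 0, nat_lit 20, nat_lit 19), (nat_lit 0, nat_lit 0, nat_lit 21), (nat_lit 0, nat_lit 0, nat_lit 22), (nat_lit 0, nat_lit 21, nat_lit 0), (nat_lit 0,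 nat_lit 15, nat_lit 23), (nat_lit 0, nat_lit 0, nat_lit 24), (nat_lit 0, nat_lit 0, nat_lit 26), (nat_lit 0, nat_lit 0, nat_lit 27), (nat_lit 0, nat_lit 0, nat_lit 27), (nat_lit 0, nat_lit 0, nat_lit 29), (nat_lit 0, nat_lit 0, nat_lit 30), (nat_lit 0, nat_lit 0, nat_lit 31), (nat_lit 0, nat_lit 0, nat_lit 31), (nat_lit 0, nat_lit 0, nat_lit 33), (nat_lit 0, nat_lit 32, nat_lit 0), (nat_lit 0, nat_lit 27, nat_lit 15), (nat_lit 0, nat_lit 0, nat_lit 1), (nat_lit 0, nat_lit 0, nat_lit 2), (nat_lit 0, nat_lit 3, nat_lit 30), (nat_lit 0, nat_lit 0, nat_lit 31), (nat_lit 0, nat_lit 0, nat_lit 5), (nat_lit 0, nat_lit 0, nat_lit 21), (nat_lit 0, nat_lit 0, nat_lit 18), (nat_lit 0, nat_lit 0, nat_lit 23), (nat_lit 0, nat_lit 0, nat_lit 9), (nat_lit 1, nat_lit 7, nat_lit 0), (nat_lit 0, nat_lit 1, nat_lit 8), (nat_lit 0, nat_lit 0, nat_lit 2), (nat_lit 0, nat_lit 0, nat_lit 3), (nat_lit 0, nat_lit 3, nat_lit 3), (nat_lit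 0, nat_lit 0, nat_lit 1)]
def lev0 : Lev := ⟨nat_lit 0, [nat_lit 0xdeb888, nat_lit 0xfab2a0, nat_lit 0xfab508, nat_lit 0xde845c], [(nat_lit 4, nat_lit 0xde845c, nat_lit 0), (nat_lit 3, nat_lit 0xdeb888, nat_lit 4), (nat_lit 1, nat_lit 0xfab2a0, nat_lit 3), (nat_lit 2, nat_lit 0xfab508, nat_lit 3)], nat_lit 0x1f, nat_lit 0xde845cfa8463fa885afa8519fac688, nat_lit 0xde82d4fa90d4fab214faa2c4fac688⟩
def lev1 : Lev := ⟨nat_lit 2, [nat_lit 0xdeb888, nat_lit 0xfab2a0, nat_lit 0xfab508], [(nat_lit 4, nat_lit 0xfab508, nat_lit 2), (nat_lit 3, nat_lit 0xdeb888, nat_lit 4), (nat_lit 1, nat_lit 0xfab2a0, nat_lit 3)], nat_lit 0x1e, nat_lit 0xfab508dec4c8fac688deb460000000, nat_lit 0xfaa8c8dec4c8fac688de98d0000000⟩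
def lev2 : Lev := ⟨nat_lit 1, [nat_lit 0xdeb888, nat_lit 0xfab2a0], [(nat_lit 4, nat_lit 0xfab2a0, nat_lit 1), (nat_lit 3, nat_lit 0xdeb888, nat_lit 4)], nat_lit 0x1a, nat_lit 0xfab2a0dec298000000fac688000000, nat_lit 0xfa9898dec298000000fac688000000⟩
def lev3 : Lev := ⟨nat_lit 3, [nat_lit 0xdeb888], [(nat_lit 4, nat_lit 0xdeb888, nat_lit 3)], nat_lit 0x18, nat_lit 0xdeb888fac688000000000000000000, nat_lit 0xdeb888fac688000000000000000000⟩
def levels : List Lev := [lev0, lev1, lev2, lev3]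

theorem valid : allL (validC 8 3 7 idc8) T = true := by decide +kernel

theorem check : checkAll 8 3 7 24 0xffffff idc8 T prog levels = true := by decide +kernel

def targets : List (List Nat) := [N09.T, N06.T, N00.T, N03.T]
def cert : StepCert where
  N := nat_lit 168
  b := nat_lit 8
  bm := nat_lit 255
  U := nat_lit 0x886f4b4c6f4c0e7d51056f5c0cef54667d50846f5a41ef618cef422d7d60707d5189fd4821ef54857d58286f5c0a7d4b80ef5345ef44226f5a50fd584e7d48117d5968fd60616f4c646f5481ef4a31fd502a7d5840ef5c717d4806ef1a8afc584efc600eee8c2eee1412eeca86fcd046fd180aee5c8efc88a46e9cac6e54ae6e42aa7cc8a67c98a87d0ba56ec4a0ef1ab17c58acee22ad7d08b07c99a9fc60a1ee8ca5ee14a26ecab0fcd0a8fd18a16e5cb1fc8823eaa3537a0b63eb114f7a44337a1a737a4267eaa043eb0b2b7ac4077b1a8bea5883ea994fea600f7a8c2f7a14137aca87ead047eb180b7a5c8fea88e0eb13d07a5ad17a19e1eaa1c87acce26a8be46aa3ca7a0bd0fac2e56ae0ee6a50e16b19cd7a0cec6b11c9fa44c47a9ccc7a54d1fa0ae5eb10c67a1ace7a42eceaa0ea6ac8e66a98c8fa1ce86b0bc57ac4c0fb1af16a58ccfa22ed6b08f06a99e9ea60c1fa8cc5fa14c27acaf0ead0e8eb18c17a5cf1ea88a3e519b3760aa7e898ab721caf7222afe508a77614abe318a3745cb3e6881ee5199af60a3ee8985af21c7af2227ee5083af6145ee3181af45c9ee688f46519d6760af4e898d5721cd5f222f5e508d4f614f56318d4745cf66688e35519d3d60ae75898cbd21ccfd222ef5508c7d614eb5318c3d45cf35688ddd508f8d614dd5318f8545cde5688bb845cbf4688fac688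
  V := nat_lit 0x71718d710dcd8d5c47710377710c6f8d5e70717235711bc6717c298d1d788d6e458d7b88710a7e8d73707103bd8d518f71706e710bf171523e8d63e88d5dc88d63478d1fa8710f4e710e75717a0e8d6a788d53b87103ee8d6f4872a2378ef3908e9dd0728c8f728c7a72e40f8ef4708ea3f07283978efc887382b5738c5573dc118fd5888fd2b08fa18d73857173a22e8fe350739c2a8fad488fe2858f9b90738a8e738a7273d40e8fe4688fa3a87383568fea88b190be95e1cab1ae46958dd195e23a95ee11b19eb0b1a1ce9585b995a237b1f390b1f286b19dd0958c8f958c7a95e40fb1f470b1a3f0958397b1fc88f1a06e9de2159de342f19a869d858df1d08ef190b59dd18a9de429f19570f1dc50f1a3469d8d4af1ac459d8b919d82b59d8c559dea0af1aa709dd2329ddc11f19ca8f1d588f1d2b09d83aaf1a18d9d85719da22ef1e3509d9c2af1ad48f1e285f19b909d8a8e9d8a729dd40ef1e468f1a3a89d8356f1ea88b3a2c697e60ab3b2b097839a979c1ab3acc8978672b3a3989782d6b3e688d2a2c79af60ad2b2b89a83da9a9e1ad2aec89a867ad2a3d89a82d7d2f688f322c59f560af332a89f035a9f1a1af32ac89f066af323589f02d5f35688f622c6be660af632b0be039abe1c1af62cc8be0672f62398be02d6f66688de2ac8fa066ade2358fa02d5de5688bb82d4d7c688fac688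
  tabsA := [(nat_lit 0x8c73aa, nat_lit 0x53d5a2c822d143f23294e066e01180e1e1528000b0a1f6379321902220f7a0448997f3e1b1353516da46b092f3127811189624c3c8b7864251d59577c078c3516457b501773034144967137121a494088390c944b61770d202e5b6a5d9a3a759e426f2a6583102621552b870885673b4f91765f1c246833985470369b957234a052a74a74478fa17e56a6389269845ea397865c90609c4d6c43a28d7d4693309f80668a58a58e9d), (nat_lit 0x972e19, nat_lit 0x8b574e8f4539916b374a326465a6a3a496699ea04c995451425a5f909b3e5d59110f0c63685e620a3a0605314b3c47355307043f090b0d3d4936480ea2814025871e4d958685988c5223208293a589418d6e7a5b789a9f6d739d3ba11b332f76192858751430928a72977e71a7163894602d2a799c8e7f614422431d000321341f50672c662701082b5c296a4f184613021017561555837c8070121c7d847b88266c746f771a242e)]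
  tabsL := [(nat_lit 0xde845c, nat_lit 0x958ca79f9ca6a59aa09198a48aa3a2a18e9e9d9b999796949392908f8d8b808982888784868583817d7c7a7f7e7b766c78736e707977757472716f6d666b6a5a696468676558625c63615f605e5d5b594652575540564351543a534f32504e4d414c4b4a3e494847454442303c373f343d3b3938363533312e2f2b2d282c2a292627242521231e22201f1c1d1a1b171914181615121310110d0f0a0e0c0b08090507060304010200), (nat_lit 0xfaa318, nat_lit 0xa7a1a4a59b9ea69796a29994a3939d92a09f909c9a988d958f8b918a8e8c868883898581878084827e7f797775747d727c717b7a6f78766d736c706e696a6b6768636560665e61645b625d595f585c5a54535057564c4a55494d4e5244514f47483f424b3d453b39463843364135403e333c3a31373034322f2c2a2e292d2b262728252220241f23211c1d1e1b18161a151917121314110e0c100b0f0d08090a0607030405020100)]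
  rt := nat_lit 0x8a8a8a8a8a8a8a8a8a8a8a8a8a8a8a8a8a8a8a8a8a8a8a8a8a8a8a8a8a8a808080808080808080806c6c6c6c6c6c6c6c6c6c6c6c6c6c6c6c6c6c6c6c585858585858585858585858585858585858585830303030303030303030303030303030303030303030303030303030303030303030303030303030262626262626262626261c1c1c1c1c1c1c1c1c1c12121212121212121212080808080808080808080303030303010100
  par := nat_lit 0xa5a1a19c9a9998979696959494939392929190908f8e8d8d8c8b8b8a8a00868683838281818080007c7b797775747372727171706f6f6e6d6d6c6c0069696765646363605f5e5e5c5b5b5a59595858005452504f4d4c4a4a4949484644444241403f3f3e3d3d3b39393837363635353433333231313030002e2c2a2a292928262600242220201f1f1e1c1c001a181616151514121200100e0c0c0b0b0a0808000605030300010000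
  gi := nat_lit 0x100000000000101000001000100010000010000000100000100010000010001000001000100000000010101010001000100000100000100010000010000000001000100010000010000010001000001000100000101000100000001000000000100000100010100010001000100000100000100010000000101000100000100000001010001000001000000010100010000010000000101000100000100000000010000000000
  rootMask := nat_lit 0x4010000100001000000000100401004010a
  roots := [(nat_lit 1, nat_lit 0, [nat_lit 0x49a, nat_lit 0x11]), (nat_lit 3, nat_lit 1, [nat_lit 0x459651, nat_lit 0x269a4cb]), (nat_lit 8, nat_lit 2, [nat_lit 0xb459, nat_lit 0x264b453]), (nat_lit 18, nat_lit 2, [nat_lit 0x12d12c9, nat_lit 0x265a253]), (nat_lit 28, nat_lit 3, [nat_lit 0x24d3289, nat_lit 0x32d12d2]), (nat_lit 38, nat_lit 2, [nat_lit 0x2451699, nat_lit 0x9a69265a]), (nat_lit 48, nat_lit 2, [nat_lit 0xd3459491, nat_lit 0x2d268b293]), (nat_lit 88, nat_lit 2, [nat_lit 0x932ca489, nat_lit 0x892d1]),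 (nat_lit 108, nat_lit 2, [nat_lit 0xb45a4c9, nat_lit 0x28b459]), (nat_lit 128, nat_lit 3, [nat_lit 0x59451452, nat_lit 0x19451459]), (nat_lit 138, nat_lit 2, [nat_lit 0xa45a499, nat_lit 0x129a2cb])]

theorem stepc : stepCheck 8 3 7 24 0xffffff idc8 levels targets T cert = true := by decide +kernel

def b_T : List Nat := [nat_lit 0x45c, nat_lit 0x2318]
def b_prog : List (Nat × Nat × Nat) := [(nat_lit 1, nat_lit 1, nat_lit 0), (nat_lit 1, nat_lit 1, nat_lit 0), (nat_lit 0, nat_lit 3, nat_lit 3), (nat_lit 0, nat_lit 3, nat_lit 4), (nat_lit 0, nat_lit 0, nat_lit 5), (nat_lit 0, nat_lit 0, nat_lit 5), (nat_lit 0, nat_lit 0, nat_lit 7), (nat_lit 0, nat_lit 0, nat_lit 8), (nat_lit 0, nat_lit 9, nat_lit 8), (nat_lit 0, nat_lit 0, nat_lit 10), (nat_lit 0, nat_lit 0, nat_lit 10), (nat_lit 0, nat_lit 10, nat_lit 9), (nat_lit 0, nat_lit 0, nat_lit 11), (nat_lit 0, nat_lit 0, nat_lit 2), (nat_lit 0, nat_lit 14, nat_lit 14), (nat_lit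 0, nat_lit 0, nat_lit 15), (nat_lit 0, nat_lit 0, nat_lit 16), (nat_lit 0, nat_lit 0, nat_lit 18), (nat_lit 0, nat_lit 0, nat_lit 18), (nat_lit 0, nat_lit 0, nat_lit 20), (nat_lit 0, nat_lit 0, nat_lit 21), (nat_lit 0, nat_lit 0, nat_lit 22), (nat_lit 0, nat_lit 0, nat_lit 22), (nat_lit 0, nat_lit 10, nat_lit 0), (nat_lit 0, nat_lit 15, nat_lit 24), (nat_lit 0, nat_lit 0, nat_lit 25), (nat_lit 0, nat_lit 0, nat_lit 26), (nat_lit 0, nat_lit 0, nat_lit 27), (nat_lit 0, nat_lit 0, nat_lit 28), (nat_lit 0, nat_lit 0, nat_lit 30), (nat_lit 0, nat_lit 15, nat_lit 31), (nat_lit 0, nat_lit 0, nat_lit 31), (nat_lit 0, nat_lit 31, nat_lit 0), (nat_lit 0, nat_lit 8, nat_lit 34), (nat_lit 0, nat_lit 0, nat_lit 35), (nat_lit 0, nat_lit 0, nat_lit 35), (nat_lit 0, nat_lit 0, nat_lit 36), (nat_lit 0, nat_lit 36, nat_lit 0), (nat_lit 0, nat_lit 28, nat_lit 39), (nat_lit 0, nat_lit 38, nat_lit 0), (nat_lit 0, nat_lit 37, nat_lit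 41), (nat_lit 0, nat_lit 0, nat_lit 41), (nat_lit 0, nat_lit 0, nat_lit 42), (nat_lit 0, nat_lit 0, nat_lit 43), (nat_lit 0, nat_lit 0, nat_lit 45), (nat_lit 0, nat_lit 0, nat_lit 46), (nat_lit 0, nat_lit 0, nat_lit 46), (nat_lit 0, nat_lit 0, nat_lit 47), (nat_lit 0, nat_lit 0, nat_lit 48), (nat_lit 0, nat_lit 0, nat_lit 50), (nat_lit 0, nat_lit 37, nat_lit 0), (nat_lit 0, nat_lit 35, nat_lit 52), (nat_lit 0, nat_lit 0, nat_lit 52), (nat_lit 0, nat_lit 0, nat_lit 53), (nat_lit 0, nat_lit 0, nat_lit 55), (nat_lit 0, nat_lit 0, nat_lit 55), (nat_lit 0, nat_lit 0, nat_lit 56), (nat_lit 0, nat_lit 0, nat_lit 57), (nat_lit 0, nat_lit 26, nat_lit 58), (nat_lit 0, nat_lit 0, nat_lit 60), (nat_lit 0, nat_lit 0, nat_lit 60), (nat_lit 0, nat_lit 0, nat_lit 62), (nat_lit 0, nat_lit 0, nat_lit 63), (nat_lit 0, nat_lit 0, nat_lit 63), (nat_lit 0, nat_lit 0, nat_lit 64), (nat_lit 0, nat_lit 0, nat_lit 65), (nat_lit 0, nat_lit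 35, nat_lit 67), (nat_lit 0, nat_lit 0, nat_lit 68), (nat_lit 0, nat_lit 0, nat_lit 68), (nat_lit 0, nat_lit 0, nat_lit 69), (nat_lit 0, nat_lit 0, nat_lit 70), (nat_lit 0, nat_lit 70, nat_lit 0), (nat_lit 0, nat_lit 68, nat_lit 72), (nat_lit 0, nat_lit 0, nat_lit 74), (nat_lit 0, nat_lit 0, nat_lit 74), (nat_lit 0, nat_lit 0, nat_lit 75), (nat_lit 0, nat_lit 0, nat_lit 76), (nat_lit 0, nat_lit 0, nat_lit 77), (nat_lit 0, nat_lit 0, nat_lit 78), (nat_lit 0, nat_lit 66, nat_lit 78), (nat_lit 0, nat_lit 0, nat_lit 1), (nat_lit 1, nat_lit 67, nat_lit 0), (nat_lit 1, nat_lit 42, nat_lit 0), (nat_lit 0, nat_lit 69, nat_lit 32), (nat_lit 0, nat_lit 0, nat_lit 26), (nat_lit 0, nat_lit 0, nat_lit 19), (nat_lit 0, nat_lit 3, nat_lit 0), (nat_lit 0, nat_lit 63, nat_lit 47), (nat_lit 0, nat_lit 0, nat_lit 58), (nat_lit 0, nat_lit 0, nat_lit 31), (nat_lit 0, nat_lit 0, nat_lit 18), (nat_lit 0, nat_lit 0, nat_lit 58), (nat_lit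 0, nat_lit 0, nat_lit 62), (nat_lit 0, nat_lit 0, nat_lit 55), (nat_lit 0, nat_lit 12, nat_lit 0), (nat_lit 0, nat_lit 71, nat_lit 37), (nat_lit 0, nat_lit 0, nat_lit 30), (nat_lit 0, nat_lit 0, nat_lit 83), (nat_lit 0, nat_lit 0, nat_lit 84), (nat_lit 0, nat_lit 0, nat_lit 48), (nat_lit 0, nat_lit 0, nat_lit 62), (nat_lit 0, nat_lit 0, nat_lit 63), (nat_lit 0, nat_lit 0, nat_lit 44), (nat_lit 0, nat_lit 0, nat_lit 22), (nat_lit 0, nat_lit 22, nat_lit 0), (nat_lit 0, nat_lit 18, nat_lit 18), (nat_lit 0, nat_lit 0, nat_lit 19), (nat_lit 0, nat_lit 0, nat_lit 12), (nat_lit 0, nat_lit 0, nat_lit 3), (nat_lit 0, nat_lit 0, nat_lit 4), (nat_lit 0, nat_lit 0, nat_lit 23), (nat_lit 0, nat_lit 0, nat_lit 6), (nat_lit 0, nat_lit 0, nat_lit 17), (nat_lit 0, nat_lit 0, nat_lit 18), (nat_lit 0, nat_lit 0, nat_lit 27)]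
def b_lev0 : Lev := ⟨nat_lit 0, [nat_lit 0x3888, nat_lit 0x3508, nat_lit 0x1710, nat_lit 0x45c], [(nat_lit 4, nat_lit 0x45c, nat_lit 0), (nat_lit 3, nat_lit 0x3888, nat_lit 4), (nat_lit 1, nat_lit 0x1710, nat_lit 4), (nat_lit 2, nat_lit 0x3508, nat_lit 3)], nat_lit 0x1f, nat_lit 0x45c08c6216844cc688, nat_lit 0x2d421a8c8519424688⟩
def b_lev1 : Lev := ⟨nat_lit 1, [nat_lit 0x3888, nat_lit 0x3508, nat_lit 0x1710], [(nat_lit 2, nat_lit 0x1710, nat_lit 1), (nat_lit 4, nat_lit 0x3508, nat_lit 2), (nat_lit 3, nat_lit 0x3888, nat_lit 4)], nat_lit 0x1e, nat_lit 0x14e02a305c423440000, nat_lit 0x14e045c099823440000⟩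
def b_lev2 : Lev := ⟨nat_lit 2, [nat_lit 0x3888, nat_lit 0x3508], [(nat_lit 4, nat_lit 0x3508, nat_lit 2), (nat_lit 3, nat_lit 0x3888, nat_lit 4)], nat_lit 0x1c, nat_lit 0x350889911a200000000, nat_lit 0x28c889911a200000000⟩
def b_lev3 : Lev := ⟨nat_lit 3, [nat_lit 0x3888], [(nat_lit 4, nat_lit 0x3888, nat_lit 3)], nat_lit 0x18, nat_lit 0x38888d1000000000000, nat_lit 0x38888d1000000000000⟩
def b_levels : List Lev := [b_lev0, b_lev1, b_lev2, b_lev3]

def d_T : List Nat := [nat_lit 0x8a9bc67502134, nat_lit 0xa9cb876521430]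
def d_prog : List (Nat × Nat × Nat) := [(nat_lit 1, nat_lit 1, nat_lit 0), (nat_lit 1, nat_lit 1, nat_lit 0), (nat_lit 0, nat_lit 2, nat_lit 2), (nat_lit 0, nat_lit 0, nat_lit 4), (nat_lit 0, nat_lit 0, nat_lit 5), (nat_lit 0, nat_lit 0, nat_lit 5), (nat_lit 0, nat_lit 0, nat_lit 6), (nat_lit 0, nat_lit 0, nat_lit 8), (nat_lit 0, nat_lit 0, nat_lit 9), (nat_lit 0, nat_lit 0, nat_lit 9), (nat_lit 0, nat_lit 0, nat_lit 11), (nat_lit 0, nat_lit 0, nat_lit 12), (nat_lit 0, nat_lit 0, nat_lit 12), (nat_lit 0, nat_lit 13, nat_lit 14), (nat_lit 0, nat_lit 0, nat_lit 14), (nat_lit 0, nat_lit 0, nat_lit 15), (nat_lit 0, nat_lit 0, nat_lit 16), (nat_lit 0, nat_lit 0, nat_lit 18), (nat_lit 0, nat_lit 0, nat_lit 18), (nat_lit 0, nat_lit 18, nat_lit 17), (nat_lit 0, nat_lit 0, nat_lit 19), (nat_lit 0, nat_lit 0, nat_lit 20), (nat_lit 0, nat_lit 0, nat_lit 3), (nat_lit 0, nat_lit 9, nat_lit 24), (nat_lit 0, nat_lit 0, nat_lit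 25), (nat_lit 0, nat_lit 0, nat_lit 25), (nat_lit 0, nat_lit 0, nat_lit 26), (nat_lit 0, nat_lit 0, nat_lit 28), (nat_lit 0, nat_lit 0, nat_lit 28), (nat_lit 0, nat_lit 0, nat_lit 30), (nat_lit 0, nat_lit 0, nat_lit 30), (nat_lit 0, nat_lit 0, nat_lit 31), (nat_lit 0, nat_lit 0, nat_lit 33), (nat_lit 0, nat_lit 30, nat_lit 33), (nat_lit 0, nat_lit 0, nat_lit 34), (nat_lit 0, nat_lit 0, nat_lit 36), (nat_lit 0, nat_lit 0, nat_lit 37), (nat_lit 0, nat_lit 0, nat_lit 37), (nat_lit 0, nat_lit 0, nat_lit 38), (nat_lit 0, nat_lit 0, nat_lit 40), (nat_lit 0, nat_lit 0, nat_lit 41), (nat_lit 1, nat_lit 18, nat_lit 0), (nat_lit 0, nat_lit 29, nat_lit 9), (nat_lit 0, nat_lit 0, nat_lit 2), (nat_lit 0, nat_lit 0, nat_lit 11), (nat_lit 0, nat_lit 0, nat_lit 22), (nat_lit 0, nat_lit 0, nat_lit 23), (nat_lit 0, nat_lit 0, nat_lit 34), (nat_lit 0, nat_lit 0, nat_lit 7), (nat_lit 0, nat_lit 0, nat_lit 26), (nat_lit 0, nat_lit 0,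 nat_lit 9), (nat_lit 0, nat_lit 0, nat_lit 18), (nat_lit 0, nat_lit 29, nat_lit 11), (nat_lit 0, nat_lit 0, nat_lit 20), (nat_lit 0, nat_lit 0, nat_lit 31), (nat_lit 0, nat_lit 0, nat_lit 22), (nat_lit 0, nat_lit 0, nat_lit 43), (nat_lit 0, nat_lit 0, nat_lit 44), (nat_lit 0, nat_lit 0, nat_lit 35), (nat_lit 0, nat_lit 0, nat_lit 26), (nat_lit 0, nat_lit 18, nat_lit 0), (nat_lit 1, nat_lit 9, nat_lit 0), (nat_lit 0, nat_lit 10, nat_lit 1), (nat_lit 0, nat_lit 0, nat_lit 11), (nat_lit 0, nat_lit 0, nat_lit 3), (nat_lit 0, nat_lit 0, nat_lit 4), (nat_lit 0, nat_lit 4, nat_lit 0)]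
def d_lev0 : Lev := ⟨nat_lit 0, [nat_lit 0xabc9867523410, nat_lit 0xbca9867534210, nat_lit 0xbc9a876534120, nat_lit 0x8a9bc67502134], [(nat_lit 4, nat_lit 0x8a9bc67502134, nat_lit 0), (nat_lit 2, nat_lit 0xabc9867523410, nat_lit 4), (nat_lit 3, nat_lit 0xbca9867534210, nat_lit 4), (nat_lit 1, nat_lit 0xbc9a876534120, nat_lit 2)], nat_lit 0x1f, nat_lit 0x8a9bc675021348a9cb765021438c9ba765041328bac976503241cba9876543210, nat_lit 0x89bac6750132498bac76510324b98ac765310249ba8c76513204cba9876543210⟩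
def d_lev1 : Lev := ⟨nat_lit 1, [nat_lit 0xabc9867523410, nat_lit 0xbca9867534210, nat_lit 0xbc9a876534120], [(nat_lit 2, nat_lit 0xbc9a876534120, nat_lit 1), (nat_lit 4, nat_lit 0xabc9867523410, nat_lit 2), (nat_lit 3, nat_lit 0xbca9867534210, nat_lit 4)], nat_lit 0x1e, nat_lit 0xba9c867532140ca9b876542130bc9a876534120cba98765432100000000000000, nat_lit 0x9cba867514320c9ba876541320bc9a876534120cba98765432100000000000000⟩
def d_lev2 : Lev := ⟨nat_lit 3, [nat_lit 0xabc9867523410, nat_lit 0xbca9867534210], [(nat_lit 4, nat_lit 0xbca9867534210, nat_lit 3), (nat_lit 2, nat_lit 0xabc9867523410, nat_lit 4)], nat_lit 0x1c, nat_lit 0xbca9867534210cba9876543210bac987653241000000000000000000000000000, nat_lit 0xbca9867534210cba9876543210acb987652431000000000000000000000000000⟩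
def d_lev3 : Lev := ⟨nat_lit 2, [nat_lit 0xabc9867523410], [(nat_lit 4, nat_lit 0xabc9867523410, nat_lit 2)], nat_lit 0x14, nat_lit 0xabc98675234100000000000000cba987654321000000000000000000000000000, nat_lit 0xabc98675234100000000000000cba987654321000000000000000000000000000⟩
def d_levels : List Lev := [d_lev0, d_lev1, d_lev2, d_lev3]

def Ds : List (Nat × Nat × Nat) := [(nat_lit 0xde845c, nat_lit 0x45c, nat_lit 0x8a9bc67502134), (nat_lit 0xfaa318, nat_lit 0x2318, nat_lit 0xa9cb876521430)]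
theorem hid2 : ∀ i < 5, app 3 7 0x4688 i = i := by decide +kernel

theorem diag : allL (diagOK 4 15 5 3 7 0x4688) Ds = true := by decide +kernel

theorem check2 : checkAll 5 3 7 15 0x7fff 0x4688 (Ds.map (·.2.1)) b_prog b_levels = true := by decide +kernel

theorem check3 : checkAll (8 + 5) 4 15 52 0xfffffffffffff 0xcba9876543210 (Ds.map (·.2.2)) d_prog d_levels = true := by decide +kernel

theorem check1 : checkAll 8 3 7 24 0xffffff idc8 (Ds.map (·.1)) prog levels = true := by decide +kernel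

theorem o1 : orderC d_levels = orderC levels := by decide +kernel

theorem o2 : orderC d_levels = orderC b_levels := by decide +kernel

theorem o3 : orderC b_levels = Nat.factorial 5 := by decide +kernel

theorem self : Excl (HH T) → Target (HH T) := fun _ =>
  Or.inr (Or.inl (exists_iso_perm (k := 5) (by decide +kernel) hm8 hid2 diag check1 check2 check3 o1 o2 o3))

theorem concl : Concl Amb.gA T := by
  refine concl_of_step valid check stepc (by decide +kernel) self ?_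
  intro t ht

  simp only [targets, List.mem_cons, List.not_mem_nil, or_false] at ht
  rcases ht with rfl | rfl | rfl | rfl
  · exact N09.concl
  · exact N06.concl
  · exact N00.concl
  · exact N03.concl

end Cfsg.Agent.Lib.OverLat.A8.N19
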