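import Cfsg.Agent.Lib.OverLat.A8.Common
import Cfsg.Agent.Lib.OverLat.A8.Amb
import Cfsg.Agent.Lib.OverLat.A8.N00
import Cfsg.Agent.Lib.OverLat.A8.N01
import Cfsg.Agent.Lib.OverLat.A8.N08
import Cfsg.Agent.Lib.OverLat.A8.N09

set_option autoImplicit false
set_option linter.unusedSectionVars false
set_option maxRecDepth 1000000

namespace Cfsg.Agent.Lib.OverLat.A8.N20

open Cfsg.Agent.Lib.PermComp.Core Cfsg.Agent.Lib.OverLat.Core Cfsg.Agent.Lib.OverLat.Basic Cfsg.Agent.Lib.OverLat.A8.Common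

def T : List Nat := [nat_lit 0xfac099, nat_lit 0xf73054]
def prog : List (Nat × Nat × Nat) := [(nat_lit 1, nat_lit 1, nat_lit 0), (nat_lit 0, nat_lit 1, nat_lit 1), (nat_lit 0, nat_lit 0, nat_lit 3), (nat_lit 0, nat_lit 0, nat_lit 4), (nat_lit 0, nat_lit 0, nat_lit 5), (nat_lit 0, nat_lit 0, nat_lit 5), (nat_lit 0, nat_lit 7, nat_lit 7), (nat_lit 0, nat_lit 0, nat_lit 8), (nat_lit 0, nat_lit 0, nat_lit 9), (nat_lit 0, nat_lit 0, nat_lit 9), (nat_lit 0, nat_lit 0, nat_lit 10), (nat_lit 0, nat_lit 0, nat_lit 12), (nat_lit 0, nat_lit 0, nat_lit 13), (nat_lit 0, nat_lit 0, nat_lit 14), (nat_lit 0, nat_lit 0, nat_lit 14), (nat_lit 0, nat_lit 0, nat_lit 16), (nat_lit 0, nat_lit 0, nat_lit 17), (nat_lit 0, nat_lit 18, nat_lit 17), (nat_lit 0, nat_lit 0, nat_lit 19), (nat_lit 0, nat_lit 0, nat_lit 20), (nat_lit 0, nat_lit 19, nat_lit 0), (nat_lit 1, nat_lit 15, nat_lit 0), (nat_lit 0, nat_lit 16, nat_lit 5), (nat_lit 0, nat_lit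 0, nat_lit 17), (nat_lit 0, nat_lit 0, nat_lit 3), (nat_lit 0, nat_lit 0, nat_lit 4), (nat_lit 0, nat_lit 0, nat_lit 20), (nat_lit 0, nat_lit 0, nat_lit 6), (nat_lit 0, nat_lit 6, nat_lit 0), (nat_lit 0, nat_lit 6, nat_lit 8), (nat_lit 0, nat_lit 0, nat_lit 9), (nat_lit 0, nat_lit 0, nat_lit 14), (nat_lit 0, nat_lit 0, nat_lit 15), (nat_lit 0, nat_lit 0, nat_lit 16), (nat_lit 1, nat_lit 5, nat_lit 0), (nat_lit 0, nat_lit 1, nat_lit 1), (nat_lit 0, nat_lit 0, nat_lit 7), (nat_lit 0, nat_lit 0, nat_lit 8), (nat_lit 0, nat_lit 0, nat_lit 9), (nat_lit 0, nat_lit 0, nat_lit 10), (nat_lit 0, nat_lit 0, nat_lit 6), (nat_lit 0, nat_lit 0, nat_lit 7), (nat_lit 0, nat_lit 0, nat_lit 8), (nat_lit 0, nat_lit 8, nat_lit 0)]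
def lev0 : Lev := ⟨nat_lit 0, [nat_lit 0xf73888, nat_lit 0xfab508, nat_lit 0xf74650, nat_lit 0xfac099], [(nat_lit 1, nat_lit 0xfac099, nat_lit 0), (nat_lit 2, nat_lit 0xf74650, nat_lit 1), (nat_lit 3, nat_lit 0xfac099, nat_lit 1), (nat_lit 4, nat_lit 0xfab508, nat_lit 2)], nat_lit 0x1f, nat_lit 0xf73054fac283f7405afac099fac688, nat_lit 0xf70853fac099f74213fac283fac688⟩
def lev1 : Lev := ⟨nat_lit 1, [nat_lit 0xf73888, nat_lit 0xfab508, nat_lit 0xf74650], [(nat_lit 2, nat_lit 0xf74650, nat_lit 1), (nat_lit 4, nat_lit 0xfab508, nat_lit 2), (nat_lit 3, nat_lit 0xf73888, nat_lit 4)], nat_lit 0x1e, nat_lit 0xf73460fac458f74650fac688000000, nat_lit 0xf718d0fac2d0f74650fac688000000⟩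
def lev2 : Lev := ⟨nat_lit 2, [nat_lit 0xf73888, nat_lit 0xfab508], [(nat_lit 4, nat_lit 0xfab508, nat_lit 2), (nat_lit 3, nat_lit 0xf73888, nat_lit 4)], nat_lit 0x1c, nat_lit 0xfab508f744c8fac688000000000000, nat_lit 0xfaa8c8f744c8fac688000000000000⟩
def lev3 : Lev := ⟨nat_lit 3, [nat_lit 0xf73888], [(nat_lit 4, nat_lit 0xf73888, nat_lit 3)], nat_lit 0x18, nat_lit 0xf73888fac688000000000000000000, nat_lit 0xf73888fac688000000000000000000⟩
def levels : List Lev := [lev0, lev1, lev2, lev3]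

theorem valid : allL (validC 8 3 7 idc8) T = true := by decide +kernel

theorem check : checkAll 8 3 7 24 0xffffff idc8 T prog levels = true := by decide +kernel

def targets : List (List Nat) := [N09.T, N00.T, N01.T, N08.T]
def cert : StepCert where
  N := nat_lit 168
  b := nat_lit 8
  bm := nat_lit 255
  U := nat_lit 0x51fd412d7d60307d5a447ba30d7d4c11fb9168fb848d7d412e7b9050fd5810fb9a057d63707d51847b9a217d5c41fba170fb90857d58507d4b647b94617d6181fb8a4cfba0817d4b21fb948cfb82317d430cfb94117d59717d48c57b18cd7b01aa7c43ccfa84a8fc23c17b0bb0fc1ac47a9ca87ce1ca7a0bacfc14cc7aa1b07ccaa9fc60a47cd4b1fc42c67a83a1fc54c27a99ce7a885a7a1954fc1c397a1c797a21347ce2547ccc197acc15fd1158fb1894fcc2567c5878faa059fb01957c4339fa84357c23787a8c55fc447a7a8174fd10587b0b947c5a387aa3367c1a18fa9c157ce195fc503a7a98997a0b35fc1419faa1167cca757c601a7a8b14fcd4767c4298fa83747c54987a9999fa883d6b189d5c585cdc237d5c443ddd101d6b0b1ceaa35c5ce19cea985e6a0b7cdc147c6aa15ddc609c6a8b3c5cd49ddc423e6a831ddc541e6a997e6a88e55c23e15ce1f16a0be5dc14ed5c60e0dcd4f0ea83ec5c54f06a99f1ea8857710b3af6141af2d47af054977688d57644b9f881b9710bd67650b8f898d4f614b8788bd472d4d5f054ba768857e6447bd8815bd10b97e6503bd89837e6141bd88b17e2d477e0549bd688eae644ef5881eb510bf2e650e75898e6e614e3588be2e2d4eee054f35688bd6644ddd881dd510bbe6650dcd898bce614dc588bbc62d4bde054de5688deb054bf4688fac688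
  V := nat_lit 0x8d6bc18d1d788d623d8991f58d0d4f89ea47898fa98d7d4189dc788d63e889e22f8d11778d6e4589f2358d037e899bc689ee688d73708d61cd898e758d1f4689fa0e899de88d714e898a7e89fc298d6179898c6f8d63478d6f489da3709dad418fd1919d8ca98f91aa9da14e8fe22a9d82b58f95859dd18a8f8c6a9d9c858fe40d8f9b908f84758fea119dd0b18f8a569dd2869ddc8899d3c28f03ea99837a999f428f143d8f05cd99854f8f2a4799a3e88f74298f53d0999ea899abc18f7151998ab98f117a998e8d8f0bd199de818f2e6899a1cd8f72159990bd8f523a9982af8f15478f7a5099d2b899f14a8f0a7a999a878f540f8f1f5099d08f8f046f8f5e1199f0a98f0e5599f28599fa88d1a378ce7350ce11eace0f51ce2a78d1a14fd190afce15c5d1f2a8d1d1cace0e6ad19e85ce1bd0d1f08dce047dce7a11d1d0b9ce0a57d1d287d1de88ee1172ee1546f1e14aee0a72ee1d50ee046ef1e0a9ee0c55f1e285f1ea889721cb9a867a9a845f9a8e539776889f07519bba819ba14b9f56509bb2a89f066a9bb08d9f045d9f0a539bd688b307d1ba3e81ba21cbb37650ba32b8b3067aba308fb3045fb30e53ba7688f28791f63c81f6218bf2e650f632b0f28672f6308ef2845ef28c53f66688d38751de3a81de214bd3d650de32a8d3866ade308dd3845dd38a53de5688de8853d7c688fac688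
  tabsA := [(nat_lit 0x8c73aa, nat_lit 0x8260c2a6d4b2e120702202f4d1628891b000a6673392514851101741e1c2c6a1a622d7219556f1f53a1485d5c47189c4a430b232967818469a4220f065886107f24a682497188387c0564613404157b91465f41703f0e993536210d275a83756b8013035e8d79378733099e443d2b59176c51681d964c457e78988f32658c57426e50a393943c779f76317a7da795a5304f8e4e405b60a0909a3e5497633b52568a8b9d3a9ba292), (nat_lit 0x972e19, nat_lit 0x4842a18c3f4d32464aa3a68f3991944735989c36344b3ca4434193499938780584047e7b887f82810b078906860a7c08850c5c57500f6a5d711c6e696f0e19611865111a1615536d6272585f1e55701f1b7310666714641274209b95a2313aa59f9da78b30333b9e97448a3d8d37929a903e408ea045964c2d2c2e002f2402232822292526012a5413567552635e5a0d6b4f1d60595b4e6c51176877097d807a768379038721272b)]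
  tabsL := [(nat_lit 0xfac099, nat_lit 0x9593979199a5a3909ba79fa69d8ea1a4a2a09e8c9c9a989694928a8f8d8b8884877e7c897a868580788283817f7d767b79777564726f62747371695b6b57616865555d70546e6d6c6a526766606359505f5e5c5a58564e53514f4a4c4148424d494b3e443c47464543403a3f3d3b353937323836303433312f2c2e2d2b2a242827292226252321201a1e1d1f181c1b191716101413150e12110f0d0c060a090b0408070503020100), (nat_lit 0xf73054, nat_lit 0x8fa4a78d9a929c9498a6a096a28a9ea5a3a19f8b9d9b9997959391908e8c857b868189838887797f847d7682807e7c777a7858737453755a6c4f6672675c716a706d565f6e6f5e636b69685165646261604e5d5b5957555452504b434d4746454c3d4a49483b3f3a444241403e3c393336383437353130322e2f2b2d2c262325292a28272124221c191b1f201e1d171a18120f11151614130d100e0805070b0c0a09030604010200)]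
  rt := nat_lit 0x8a8a8a8a8a8a8a8a8a8a8a8a8a8a8a8a8a8a8a8a8a8a8a8a8a8a8a8a8a8a76767676767676767676767676767676767676764e4e4e4e4e4e4e4e4e4e4e4e4e4e4e4e4e4e4e4e4e4e4e4e4e4e4e4e4e4e4e4e4e4e4e4e4e4e4e4e3a3a3a3a3a3a3a3a3a3a3a3a3a3a3a3a3a3a3a3a303030303030303030302b2b2b2b2b21212121212121212121171717171717171717170d0d0d0d0d0d0d0d0d0d03030303030303030303010100
  par := nat_lit 0x9e9c989897979696959593939292919190908f8f8e8e8d8c8c8b8b8a8a0084838282817f7d7c7c7b7b7a7a7978777776760071706f6c6964626261605f5f5e5d5d5c5b5a5a595857575655555454535352525150504f4f4e4e004847464544434241403f3f3e3d3c3c3b3b3a3a00383534343332313030002e2d2c2b00262625242423222221001c1c1b1a1a191818170012121110100f0e0e0d0008080706060504040300010000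
  gi := nat_lit 0x1000100010001000100010001000100010001000101000100010000000101000001000100010001000100010001000001000001010001000000010001010000010100010101000001000100010001000101000100010000000100010101000000010001010100010001000000000100010000010000010000010001000101000001000100010001010000010001000100010100000100010001000101000001000100010000
  rootMask := nat_lit 0x4000040000000004000040108020080200a
  roots := [(nat_lit 1, nat_lit 0, [nat_lit 0x1b6d9, nat_lit 0xd265a]), (nat_lit 3, nat_lit 1, [nat_lit 0x22cb45b45a, nat_lit 0x16da45a]), (nat_lit 13, nat_lit 2, [nat_lit 0xcb2c9, nat_lit 0xcb693]), (nat_lit 23, nat_lit 1, [nat_lit 0xcb2d2699, nat_lit 0x934d92d9]), (nat_lit 33, nat_lit 1, [nat_lit 0x164b689691, nat_lit 0x934d96c9]), (nat_lit 43, nat_lit 3, [nat_lit 0x2d22d9, nat_lit 0x165b]), (nat_lit 48, nat_lit 2, [nat_lit 0x1b6d9, nat_lit 0x268b299]), (nat_lit 58, nat_lit 1, [nat_lit 0x122514ca, nat_lit 0x1268b2c9]),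 (nat_lit 78, nat_lit 1, [nat_lit 0x5b6514d3, nat_lit 0x1169945a]), (nat_lit 118, nat_lit 1, [nat_lit 0x894da651, nat_lit 0xb44b289]), (nat_lit 138, nat_lit 1, [nat_lit 0x4da4ca, nat_lit 0xca691253])]

theorem stepc : stepCheck 8 3 7 24 0xffffff idc8 levels targets T cert = true := by decide +kernel

def b_T : List Nat := [nat_lit 0x32a0, nat_lit 0x2063]
def b_prog : List (Nat × Nat × Nat) := [(nat_lit 1, nat_lit 1, nat_lit 0), (nat_lit 1, nat_lit 1, nat_lit 0), (nat_lit 0, nat_lit 3, nat_lit 3), (nat_lit 0, nat_lit 0, nat_lit 3), (nat_lit 0, nat_lit 0, nat_lit 4), (nat_lit 0, nat_lit 0, nat_lit 6), (nat_lit 0, nat_lit 0, nat_lit 7), (nat_lit 0, nat_lit 0, nat_lit 7), (nat_lit 0, nat_lit 0, nat_lit 8), (nat_lit 0, nat_lit 0, nat_lit 10), (nat_lit 0, nat_lit 0, nat_lit 11), (nat_lit 0, nat_lit 0, nat_lit 11), (nat_lit 0, nat_lit 0, nat_lit 12), (nat_lit 0, nat_lit 12, nat_lit 11), (nat_lit 0, nat_lit 0, nat_lit 1), (nat_lit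 0, nat_lit 15, nat_lit 16), (nat_lit 0, nat_lit 0, nat_lit 17), (nat_lit 0, nat_lit 0, nat_lit 17), (nat_lit 0, nat_lit 0, nat_lit 19), (nat_lit 0, nat_lit 0, nat_lit 20), (nat_lit 0, nat_lit 19, nat_lit 19), (nat_lit 0, nat_lit 0, nat_lit 1), (nat_lit 0, nat_lit 23, nat_lit 22), (nat_lit 0, nat_lit 0, nat_lit 24), (nat_lit 0, nat_lit 0, nat_lit 24), (nat_lit 0, nat_lit 4, nat_lit 23), (nat_lit 0, nat_lit 0, nat_lit 1), (nat_lit 0, nat_lit 27, nat_lit 27), (nat_lit 0, nat_lit 0, nat_lit 28), (nat_lit 0, nat_lit 0, nat_lit 29), (nat_lit 0, nat_lit 0, nat_lit 31), (nat_lit 0, nat_lit 0, nat_lit 31), (nat_lit 0, nat_lit 0, nat_lit 33), (nat_lit 0, nat_lit 0, nat_lit 34), (nat_lit 0, nat_lit 0, nat_lit 35), (nat_lit 0, nat_lit 0, nat_lit 35), (nat_lit 1, nat_lit 21, nat_lit 0), (nat_lit 1, nat_lit 15, nat_lit 0), (nat_lit 0, nat_lit 11, nat_lit 11), (nat_lit 0, nat_lit 0, nat_lit 17), (nat_lit 0, nat_lit 0, nat_lit 13), (nat_lit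 0, nat_lit 3, nat_lit 0), (nat_lit 0, nat_lit 27, nat_lit 15), (nat_lit 0, nat_lit 0, nat_lit 16), (nat_lit 0, nat_lit 0, nat_lit 29), (nat_lit 0, nat_lit 0, nat_lit 30), (nat_lit 0, nat_lit 0, nat_lit 10), (nat_lit 0, nat_lit 0, nat_lit 11), (nat_lit 0, nat_lit 11, nat_lit 0), (nat_lit 0, nat_lit 7, nat_lit 7), (nat_lit 0, nat_lit 0, nat_lit 1), (nat_lit 0, nat_lit 0, nat_lit 9), (nat_lit 0, nat_lit 0, nat_lit 10), (nat_lit 0, nat_lit 0, nat_lit 4), (nat_lit 0, nat_lit 0, nat_lit 5), (nat_lit 0, nat_lit 0, nat_lit 6), (nat_lit 0, nat_lit 0, nat_lit 14)]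
def b_lev0 : Lev := ⟨nat_lit 1, [nat_lit 0x3888, nat_lit 0x44c8, nat_lit 0x68c, nat_lit 0x32a0], [(nat_lit 4, nat_lit 0x32a0, nat_lit 1), (nat_lit 3, nat_lit 0x3888, nat_lit 4), (nat_lit 0, nat_lit 0x68c, nat_lit 4), (nat_lit 2, nat_lit 0x44c8, nat_lit 3)], nat_lit 0x1f, nat_lit 0x32a085310b423443284, nat_lit 0x1898853111623440899⟩
def b_lev1 : Lev := ⟨nat_lit 0, [nat_lit 0x3888, nat_lit 0x44c8, nat_lit 0x68c], [(nat_lit 4, nat_lit 0x68c, nat_lit 0), (nat_lit 3, nat_lit 0x3888, nat_lit 4), (nat_lit 2, nat_lit 0x44c8, nat_lit 3)], nat_lit 0x1d, nat_lit 0x68c111623280004688, nat_lit 0x68c6118d0300004688⟩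
def b_lev2 : Lev := ⟨nat_lit 2, [nat_lit 0x3888, nat_lit 0x44c8], [(nat_lit 3, nat_lit 0x44c8, nat_lit 2), (nat_lit 4, nat_lit 0x3888, nat_lit 3)], nat_lit 0x1c, nat_lit 0x350889911a200000000, nat_lit 0x28c889911a200000000⟩
def b_lev3 : Lev := ⟨nat_lit 3, [nat_lit 0x3888], [(nat_lit 4, nat_lit 0x3888, nat_lit 3)], nat_lit 0x18, nat_lit 0x38888d1000000000000, nat_lit 0x38888d1000000000000⟩
def b_levels : List Lev := [b_lev0, b_lev1, b_lev2, b_lev3]

def d_T : List Nat := [nat_lit 0xb9ac876540231, nat_lit 0xa89cb75630124]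
def d_prog : List (Nat × Nat × Nat) := [(nat_lit 1, nat_lit 1, nat_lit 0), (nat_lit 0, nat_lit 2, nat_lit 2), (nat_lit 0, nat_lit 0, nat_lit 2), (nat_lit 0, nat_lit 0, nat_lit 3), (nat_lit 0, nat_lit 0, nat_lit 5), (nat_lit 0, nat_lit 0, nat_lit 6), (nat_lit 0, nat_lit 0, nat_lit 7), (nat_lit 0, nat_lit 0, nat_lit 8), (nat_lit 0, nat_lit 8, nat_lit 8), (nat_lit 0, nat_lit 0, nat_lit 10), (nat_lit 0, nat_lit 0, nat_lit 11), (nat_lit 0, nat_lit 0, nat_lit 11), (nat_lit 0, nat_lit 0, nat_lit 12), (nat_lit 0, nat_lit 0, nat_lit 14), (nat_lit 0, nat_lit 0, nat_lit 15), (nat_lit 0, nat_lit 0, nat_lit 15), (nat_lit 0, nat_lit 0, nat_lit 17), (nat_lit 0, nat_lit 0, nat_lit 18), (nat_lit 0, nat_lit 0, nat_lit 18), (nat_lit 0, nat_lit 18, nat_lit 18), (nat_lit 0, nat_lit 0, nat_lit 1), (nat_lit 0, nat_lit 21, nat_lit 22), (nat_lit 0, nat_lit 0, nat_lit 22), (nat_lit 0, nat_lit 0, nat_lit 23), (nat_lit 0, nat_lit 0, nat_lit 24),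 (nat_lit 0, nat_lit 0, nat_lit 26), (nat_lit 0, nat_lit 0, nat_lit 26), (nat_lit 0, nat_lit 7, nat_lit 0), (nat_lit 1, nat_lit 7, nat_lit 0), (nat_lit 0, nat_lit 1, nat_lit 1), (nat_lit 0, nat_lit 0, nat_lit 22), (nat_lit 0, nat_lit 0, nat_lit 23), (nat_lit 0, nat_lit 0, nat_lit 24), (nat_lit 0, nat_lit 0, nat_lit 12), (nat_lit 0, nat_lit 0, nat_lit 13), (nat_lit 0, nat_lit 0, nat_lit 27), (nat_lit 0, nat_lit 0, nat_lit 8), (nat_lit 0, nat_lit 0, nat_lit 16), (nat_lit 0, nat_lit 30, nat_lit 10), (nat_lit 0, nat_lit 0, nat_lit 11), (nat_lit 0, nat_lit 0, nat_lit 19), (nat_lit 0, nat_lit 0, nat_lit 13), (nat_lit 0, nat_lit 0, nat_lit 34), (nat_lit 0, nat_lit 0, nat_lit 22), (nat_lit 0, nat_lit 0, nat_lit 23), (nat_lit 0, nat_lit 16, nat_lit 0), (nat_lit 1, nat_lit 8, nat_lit 0), (nat_lit 0, nat_lit 1, nat_lit 1), (nat_lit 0, nat_lit 0, nat_lit 10), (nat_lit 0, nat_lit 0, nat_lit 11), (nat_lit 0, nat_lit 0, nat_lit 4), (nat_lit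 0, nat_lit 0, nat_lit 5), (nat_lit 0, nat_lit 0, nat_lit 14), (nat_lit 0, nat_lit 0, nat_lit 15), (nat_lit 0, nat_lit 0, nat_lit 16), (nat_lit 0, nat_lit 0, nat_lit 9), (nat_lit 0, nat_lit 9, nat_lit 0)]
def d_lev0 : Lev := ⟨nat_lit 0, [nat_lit 0xcb89a75623410, nat_lit 0xcb9a875634210, nat_lit 0xca9b876531240, nat_lit 0xb9ac876540231], [(nat_lit 1, nat_lit 0xb9ac876540231, nat_lit 0), (nat_lit 4, nat_lit 0xca9b876531240, nat_lit 1), (nat_lit 3, nat_lit 0xb9ac876540231, nat_lit 1), (nat_lit 2, nat_lit 0xcb89a75623410, nat_lit 4)], nat_lit 0x1f, nat_lit 0xab9c8765302149cab8765412038b9ca75630412b9ac876540231cba9876543210, nat_lit 0x9bca876504213b9ac8765402319b8ac756240139cab876541203cba9876543210⟩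
def d_lev1 : Lev := ⟨nat_lit 1, [nat_lit 0xcb89a75623410, nat_lit 0xcb9a875634210, nat_lit 0xca9b876531240], [(nat_lit 4, nat_lit 0xca9b876531240, nat_lit 1), (nat_lit 2, nat_lit 0xcb89a75623410, nat_lit 4), (nat_lit 3, nat_lit 0xcb9a875634210, nat_lit 4)], nat_lit 0x1e, nat_lit 0xca9b876531240c9ab875641230c89ba75631420cba98765432100000000000000, nat_lit 0xc9ba876514230c9ab875641230c98ab75624130cba98765432100000000000000⟩
def d_lev2 : Lev := ⟨nat_lit 3, [nat_lit 0xcb89a75623410, nat_lit 0xcb9a875634210], [(nat_lit 4, nat_lit 0xcb9a875634210, nat_lit 3), (nat_lit 2, nat_lit 0xcb89a75623410, nat_lit 4)], nat_lit 0x1c, nat_lit 0xcb9a875634210cba9876543210cb98a7653241000000000000000000000000000, nat_lit 0xcb9a875634210cba9876543210cb8a97652431000000000000000000000000000⟩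
def d_lev3 : Lev := ⟨nat_lit 2, [nat_lit 0xcb89a75623410], [(nat_lit 4, nat_lit 0xcb89a75623410, nat_lit 2)], nat_lit 0x14, nat_lit 0xcb89a756234100000000000000cba987654321000000000000000000000000000, nat_lit 0xcb89a756234100000000000000cba987654321000000000000000000000000000⟩
def d_levels : List Lev := [d_lev0, d_lev1, d_lev2, d_lev3]

def Ds : List (Nat × Nat × Nat) := [(nat_lit 0xfac099, nat_lit 0x32a0, nat_lit 0xb9ac876540231), (nat_lit 0xf73054, nat_lit 0x2063, nat_lit 0xa89cb75630124)]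
theorem hid2 : ∀ i < 5, app 3 7 0x4688 i = i := by decide +kernel

theorem diag : allL (diagOK 4 15 5 3 7 0x4688) Ds = true := by decide +kernel

theorem check2 : checkAll 5 3 7 15 0x7fff 0x4688 (Ds.map (·.2.1)) b_prog b_levels = true := by decide +kernel

theorem check3 : checkAll (8 + 5) 4 15 52 0xfffffffffffff 0xcba9876543210 (Ds.map (·.2.2)) d_prog d_levels = true := by decide +kernel

theorem check1 : checkAll 8 3 7 24 0xffffff idc8 (Ds.map (·.1)) prog levels = true := by decide +kernel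

theorem o1 : orderC d_levels = orderC levels := by decide +kernel

theorem o2 : orderC d_levels = orderC b_levels := by decide +kernel

theorem o3 : orderC b_levels = Nat.factorial 5 := by decide +kernel

theorem self : Excl (HH T) → Target (HH T) := fun _ =>
  Or.inr (Or.inl (exists_iso_perm (k := 5) (by decide +kernel) hm8 hid2 diag check1 check2 check3 o1 o2 o3))

theorem concl : Concl Amb.gA T := by
  refine concl_of_step valid check stepc (by decide +kernel) self ?_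
  intro t ht

  simp only [targets, List.mem_cons, List.not_mem_nil, or_false] at ht
  rcases ht with rfl | rfl | rfl | rfl
  · exact N09.concl
  · exact N00.concl
  · exact N01.concl
  · exact N08.concl

end Cfsg.Agent.Lib.OverLat.A8.N20
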