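import Cfsg.Agent.Lib.OverLat.A8.Common
import Cfsg.Agent.Lib.OverLat.A8.Amb
import Cfsg.Agent.Lib.OverLat.A8.N00
import Cfsg.Agent.Lib.OverLat.A8.N02
import Cfsg.Agent.Lib.OverLat.A8.N07
import Cfsg.Agent.Lib.OverLat.A8.N09

set_option autoImplicit false
set_option linter.unusedSectionVars false
set_option maxRecDepth 1000000

namespace Cfsg.Agent.Lib.OverLat.A8.N21

open Cfsg.Agent.Lib.PermComp.Core Cfsg.Agent.Lib.OverLat.Core Cfsg.Agent.Lib.OverLat.Basic Cfsg.Agent.Lib.OverLat.A8.Common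

def T : List Nat := [nat_lit 0xbba621, nat_lit 0xfab2a0]
def prog : List (Nat × Nat × Nat) := [(nat_lit 1, nat_lit 1, nat_lit 0), (nat_lit 1, nat_lit 1, nat_lit 0), (nat_lit 0, nat_lit 2, nat_lit 2), (nat_lit 0, nat_lit 0, nat_lit 4), (nat_lit 0, nat_lit 0, nat_lit 5), (nat_lit 0, nat_lit 0, nat_lit 6), (nat_lit 0, nat_lit 0, nat_lit 6), (nat_lit 0, nat_lit 6, nat_lit 6), (nat_lit 0, nat_lit 0, nat_lit 7), (nat_lit 0, nat_lit 0, nat_lit 2), (nat_lit 0, nat_lit 11, nat_lit 11), (nat_lit 0, nat_lit 0, nat_lit 12), (nat_lit 0, nat_lit 0, nat_lit 13), (nat_lit 0, nat_lit 0, nat_lit 13), (nat_lit 0, nat_lit 0, nat_lit 14), (nat_lit 0, nat_lit 0, nat_lit 16), (nat_lit 0, nat_lit 0, nat_lit 17), (nat_lit 0, nat_lit 0, nat_lit 18), (nat_lit 0, nat_lit 0, nat_lit 18), (nat_lit 0, nat_lit 0, nat_lit 20), (nat_lit 0, nat_lit 0, nat_lit 21), (nat_lit 0, nat_lit 13, nat_lit 0), (nat_lit 0, nat_lit 23, nat_lit 22), (nat_lit 0,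 nat_lit 0, nat_lit 24), (nat_lit 0, nat_lit 0, nat_lit 25), (nat_lit 0, nat_lit 17, nat_lit 23), (nat_lit 0, nat_lit 0, nat_lit 1), (nat_lit 0, nat_lit 16, nat_lit 27), (nat_lit 0, nat_lit 0, nat_lit 28), (nat_lit 0, nat_lit 0, nat_lit 30), (nat_lit 0, nat_lit 0, nat_lit 31), (nat_lit 0, nat_lit 0, nat_lit 31), (nat_lit 0, nat_lit 0, nat_lit 33), (nat_lit 0, nat_lit 0, nat_lit 34), (nat_lit 0, nat_lit 0, nat_lit 35), (nat_lit 0, nat_lit 0, nat_lit 35), (nat_lit 0, nat_lit 0, nat_lit 37), (nat_lit 0, nat_lit 29, nat_lit 0), (nat_lit 1, nat_lit 16, nat_lit 0), (nat_lit 0, nat_lit 29, nat_lit 17), (nat_lit 0, nat_lit 0, nat_lit 2), (nat_lit 0, nat_lit 0, nat_lit 3), (nat_lit 0, nat_lit 3, nat_lit 0), (nat_lit 0, nat_lit 16, nat_lit 5), (nat_lit 0, nat_lit 0, nat_lit 17), (nat_lit 0, nat_lit 0, nat_lit 18), (nat_lit 0, nat_lit 0, nat_lit 24), (nat_lit 0, nat_lit 0, nat_lit 25), (nat_lit 0, nat_lit 0, nat_lit 26), (nat_lit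 0, nat_lit 0, nat_lit 39), (nat_lit 0, nat_lit 0, nat_lit 23), (nat_lit 0, nat_lit 0, nat_lit 13), (nat_lit 0, nat_lit 0, nat_lit 25), (nat_lit 0, nat_lit 14, nat_lit 0), (nat_lit 1, nat_lit 11, nat_lit 0), (nat_lit 0, nat_lit 1, nat_lit 12), (nat_lit 0, nat_lit 0, nat_lit 2), (nat_lit 0, nat_lit 0, nat_lit 3), (nat_lit 0, nat_lit 3, nat_lit 3), (nat_lit 0, nat_lit 0, nat_lit 1)]
def lev0 : Lev := ⟨nat_lit 0, [nat_lit 0xbbb888, nat_lit 0xfaa8c8, nat_lit 0xfaa318, nat_lit 0xbba621], [(nat_lit 1, nat_lit 0xbba621, nat_lit 0), (nat_lit 3, nat_lit 0xfaa318, nat_lit 1), (nat_lit 4, nat_lit 0xbba621, nat_lit 1), (nat_lit 2, nat_lit 0xfaa8c8, nat_lit 4)], nat_lit 0x1f, nat_lit 0xfa8654bbc213fa885abba621fac688, nat_lit 0xfa8654bbc05afab214bb9702fac688⟩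
def lev1 : Lev := ⟨nat_lit 1, [nat_lit 0xbbb888, nat_lit 0xfaa8c8, nat_lit 0xfaa318], [(nat_lit 3, nat_lit 0xfaa318, nat_lit 1), (nat_lit 4, nat_lit 0xbbb888, nat_lit 3), (nat_lit 2, nat_lit 0xfaa8c8, nat_lit 4)], nat_lit 0x1e, nat_lit 0xbba2e0faa318bbb310fac688000000, nat_lit 0xbb9518faa318bba858fac688000000⟩
def lev2 : Lev := ⟨nat_lit 2, [nat_lit 0xbbb888, nat_lit 0xfaa8c8], [(nat_lit 3, nat_lit 0xfaa8c8, nat_lit 2), (nat_lit 4, nat_lit 0xbbb888, nat_lit 3)], nat_lit 0x1c, nat_lit 0xbba708faa8c8fac688000000000000, nat_lit 0xbba708fab508fac688000000000000⟩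
def lev3 : Lev := ⟨nat_lit 3, [nat_lit 0xbbb888], [(nat_lit 4, nat_lit 0xbbb888, nat_lit 3)], nat_lit 0x18, nat_lit 0xbbb888fac688000000000000000000, nat_lit 0xbbb888fac688000000000000000000⟩
def levels : List Lev := [lev0, lev1, lev2, lev3]

theorem valid : allL (validC 8 3 7 idc8) T = true := by decide +kernel

theorem check : checkAll 8 3 7 24 0xffffff idc8 T prog levels = true := by decide +kernel

def targets : List (List Nat) := [N09.T, N00.T, N02.T, N07.T]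
def cert : StepCert where
  N := nat_lit 168
  b := nat_lit 8
  bm := nat_lit 255
  U := nat_lit 0x50ddc311fd4a4e7d4868fd6041dde1445de30cfd6288fd43427d59065dd345ddc48cddc289fd484c5dcc305dd340fd6381fd5131ddc2505dd9645dd4885dcb227d53665dc2857d588c5dd1285ddc60fd542d7d60685de1717d48c0df13c27a99c17a5cc1df0ac87a63c8df18c65ec2ca5e19c9fa44d15e0bd07a5ac47b13ccdf02d0fa98d1de11c55e1ccc7a54c5faa0cd5e21ce7a88197a635a5e0b1a7a5a18fb133a7a9858de1c19fa5478faa059de2199fa88546ee1166e8b14ef139d6ac85ceb0315ef0a5c6a63366ec25dea44956e0b9c6a5a3c6b1374ef029cea9895ee11356e1c7c6a543deaa0756e217e6a88e5ea84ee6a0aa1ef11e46b1aa26ecae8ea23f0ea83acee84a86e63e9ea60a16ee1ec6a62a0ef1ab06e8ba46f13f06a99b1ee81f16a0bea6ac8ad6e0ce86a5ce56b03ac6f0ae16a63a56f18a66e83b0eec2b16e19ed6a44aa6e0be26a5ae0eb13a5ef02e66a98ae6e11a8ee1ce1ea54eceaa0a9ee21f1ea88a7e898a3e654afe2a0eae621b3e688bc631af5605cbe6419bce702f4e898bde811f46654f5e2a0bd6621f666881af31a5bd05c9af4193af7023bd8987af8111bd6547bd2a05af6219bd688a3731aeb505cb37419a77702e75898af7811e35654ef52a0ab7621f35688d4731add505cd67419d4f702dcd898d5f811dc5654ddd2a0d57621de5688f72621bf4688fac688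
  V := nat_lit 0x4e61e98d6a0f8d5dc88d1fa84e1bc64e11f58d1c2f8d71a98d53c64e50774e0bf14e7c298d7b884e0dcd4e607d8d11ee8d7a464e6a394e63c54e0e754e718d8d507e4e5e318d73704e7c454e03bd8d0e6e8d1d784e1f858d6f487e206e9dd2869d83567e2a0e9d91957e23a87e54317e53829d8b917e614a9de2159da0757e2c299de2a87e6a427e03729d8c559d9ab07e1d429ddc889991577a51ca99d21799a06f99d2b87a03ea998a57999ea87a1bc299fa887315c573508f73206fd1f548d1a1e9732a0fd191d5735439d18bd173714ad1f215d1a07d732e29d1f2a8737a4273037ad18e55d19ab8731f42d1de88f18ab1f1dc0a73aa46f1a23573d40ef191aaf1e0a9738ca9739195f19b90739546f19c1573a22e73e08d73a075f1e28573ea81f1e14af1d588738d4af18395f1a17173ac0df1915673a37073d0b173e42973e342f18d5173d18af1d216f1a06e73aa31f1d2b073dc427383aaf18a56f19ca8739b82f1ea88b3b2b0b38656b39c98f29782b3e688d3a21df30353d3d2c2d3a629f332a8d3ba42f30655f31a98d39742f356889aa21fba03d39af2c29aa639ba32b89abe42ba0657ba1e989a97c2ba768897a21ef6039397e2c297a631f632b097bc42f60656f61c98979782f666889f221dde03539f52c29f2629de32a89f3a42de0655de1a989f1742de5688f71702d7c688fac688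
  tabsA := [(nat_lit 0x8c73aa, nat_lit 0x167121d84043f001529092f1c7a220e52270b5c1f2c2602421834137008314e81a46d1b23196e05635937255a079d5f7857770f3b442d118c507d3287404d0d1498802e7c10463c4b2b3816a73d895164368e62431e2849757185904f656b686003177e740aa2820c242a06831a453a69215420a03e725e6a939e73619588484a53999f927f399a764c4135a1a59c79568b6c5b665d949b916f58a37b3355478d8a96863097a68f), (nat_lit 0x972e19, nat_lit 0x8b52653354a15aa3a28c4c634060a494424e8e32989d3b9a678d575b3843373f492f4b55444d2e4f345025312c41272d2a22696b5c5f59662623242972706e95a61c996d4875a796198a1f6f51301a465668129c7a979b0589397e5e78847da015939f06928f089e79778185618790910fa50b863658104576830388827c73807b6c0d71177f74096a04075d0264210c6213530e1135013e28163a1d4a181b47003d2b203c1e140a)]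
  tabsL := [(nat_lit 0xbba621, nat_lit 0x93a49a9794999c9fa2a7a6a5a3a1a09e9d9b8e9698908a958c92918f8d8b837a7e78898880878685847c7682817f7d7b79777275707174736e6c6f6d60675e6b6a5a696866655c64586263615f5d5b594744573d42533a5638555450365251344e4f4d4c4b4a32494846454341403f3e303c3b39373533312b2f2d2e2c262a29212823272524221c201f171e191d1b1a181216150d140f1311100e080c0b030a0509070604010200), (nat_lit 0xfab2a0, nat_lit 0xa5a19da098959e9ba3a6a791a4a28f9f8d9c9a998b97968a949392908e8c8886878985827b818477797f83767d807e7c7a78756d6f736c747271706e6b666a636869655d67595b6164585f62605e5c5a51574b485545563e4f524d5453414a4c503b4e3f434649403c473544423133393d30373a383634322b2e2f2c2d2a292528212724262223201f1b1e171d1a1c1819161511140d1310120e0f0c0b070a030906080405020100)]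
  rt := nat_lit 0x8a8a8a8a8a8a8a8a8a8a8a8a8a8a8a8a8a8a8a8a8a8a8a8a8a8a8a8a8a8a76767676767676767676767676767676767676766c6c6c6c6c6c6c6c6c6c5858585858585858585858585858585858585858303030303030303030303030303030303030303030303030303030303030303030303030303030302b2b2b2b2b21212121212121212121171717171717171717170d0d0d0d0d0d0d0d0d0d03030303030303030303010100
  par := nat_lit 0x9d9d9c9b9b9a9a9998989796969594939291908f8e8d8d8c8c8b8b8a8a0085848281807f7d7c7b7a7a7979787877777676007470706f6e6d6d6c6c00686765646363625f5d5c5c5b5b5a5a595958580055504e4c4b4a4947464545444342403f3e3e3d3c3c3b3b3a393837363534343333323231313030002d2c2b2b00292826242323222121001f1e1c1a191918171700151412100f0f0e0d0d000b0a0806050504030300010000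
  gi := nat_lit 0x10000010001000001000001000101000101000101010001000100010000000000000000010000010001000100010001000000010001010100010000000000000100000100010001000100010001000000000001010000010001000000000000010000010001000000000100000100010001000100010000010001000000000000010000010000000000000100000100000000000001000001000000000000010000010000000000
  rootMask := nat_lit 0x4000040100001000000000108020080200a
  roots := [(nat_lit 1, nat_lit 0, [nat_lit 0x493453, nat_lit 0xd2692]), (nat_lit 3, nat_lit 1, [nat_lit 0x5148b299, nat_lit 0x693453]), (nat_lit 13, nat_lit 1, [nat_lit 0xa68a4d1, nat_lit 0x2516c9]), (nat_lit 23, nat_lit 2, [nat_lit 0x93691, nat_lit 0x49b4d9]), (nat_lit 33, nat_lit 1, [nat_lit 0x65a651, nat_lit 0x512d9]), (nat_lit 43, nat_lit 3, [nat_lit 0xd2459, nat_lit 0x1a453]), (nat_lit 48, nat_lit 1, [nat_lit 0x2ca2cb4d9, nat_lit 0x2692299]), (nat_lit 88, nat_lit 1, [nat_lit 0x6524d9, nat_lit 0x129925b]),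 (nat_lit 108, nat_lit 2, [nat_lit 0x28b293, nat_lit 0x68a2cb]), (nat_lit 118, nat_lit 1, [nat_lit 0x165a651, nat_lit 0x14c9649]), (nat_lit 138, nat_lit 1, [nat_lit 0x265349a, nat_lit 0x49945a])]

theorem stepc : stepCheck 8 3 7 24 0xffffff idc8 levels targets T cert = true := by decide +kernel

def b_T : List Nat := [nat_lit 0x310a, nat_lit 0x4099]
def b_prog : List (Nat × Nat × Nat) := [(nat_lit 1, nat_lit 0, nat_lit 0), (nat_lit 0, nat_lit 2, nat_lit 2), (nat_lit 0, nat_lit 0, nat_lit 2), (nat_lit 0, nat_lit 0, nat_lit 3), (nat_lit 0, nat_lit 0, nat_lit 5), (nat_lit 0, nat_lit 0, nat_lit 6), (nat_lit 0, nat_lit 0, nat_lit 6), (nat_lit 0, nat_lit 0, nat_lit 7), (nat_lit 0, nat_lit 0, nat_lit 9), (nat_lit 0, nat_lit 0, nat_lit 10), (nat_lit 0, nat_lit 0, nat_lit 10), (nat_lit 0, nat_lit 0, nat_lit 11), (nat_lit 0, nat_lit 11, nat_lit 0), (nat_lit 0, nat_lit 13, nat_lit 14), (nat_lit 0, nat_lit 0, nat_lit 15), (nat_lit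 0, nat_lit 0, nat_lit 15), (nat_lit 0, nat_lit 0, nat_lit 17), (nat_lit 0, nat_lit 0, nat_lit 18), (nat_lit 0, nat_lit 17, nat_lit 0), (nat_lit 0, nat_lit 20, nat_lit 19), (nat_lit 0, nat_lit 0, nat_lit 21), (nat_lit 0, nat_lit 0, nat_lit 21), (nat_lit 0, nat_lit 22, nat_lit 22), (nat_lit 0, nat_lit 0, nat_lit 23), (nat_lit 0, nat_lit 0, nat_lit 24), (nat_lit 0, nat_lit 0, nat_lit 26), (nat_lit 0, nat_lit 0, nat_lit 26), (nat_lit 0, nat_lit 0, nat_lit 28), (nat_lit 0, nat_lit 0, nat_lit 29), (nat_lit 0, nat_lit 0, nat_lit 30), (nat_lit 0, nat_lit 0, nat_lit 30), (nat_lit 0, nat_lit 30, nat_lit 0), (nat_lit 0, nat_lit 9, nat_lit 33), (nat_lit 0, nat_lit 0, nat_lit 33), (nat_lit 1, nat_lit 21, nat_lit 0), (nat_lit 1, nat_lit 3, nat_lit 0), (nat_lit 0, nat_lit 23, nat_lit 4), (nat_lit 0, nat_lit 0, nat_lit 5), (nat_lit 0, nat_lit 0, nat_lit 25), (nat_lit 0, nat_lit 0, nat_lit 17), (nat_lit 0, nat_lit 4, nat_lit 0), (nat_lit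 0, nat_lit 28, nat_lit 22), (nat_lit 0, nat_lit 0, nat_lit 29), (nat_lit 0, nat_lit 0, nat_lit 21), (nat_lit 0, nat_lit 0, nat_lit 12), (nat_lit 0, nat_lit 0, nat_lit 13), (nat_lit 0, nat_lit 0, nat_lit 33), (nat_lit 0, nat_lit 0, nat_lit 34), (nat_lit 0, nat_lit 0, nat_lit 14), (nat_lit 0, nat_lit 0, nat_lit 15), (nat_lit 0, nat_lit 14, nat_lit 0), (nat_lit 0, nat_lit 38, nat_lit 17), (nat_lit 0, nat_lit 0, nat_lit 30), (nat_lit 0, nat_lit 0, nat_lit 19), (nat_lit 0, nat_lit 0, nat_lit 32), (nat_lit 0, nat_lit 0, nat_lit 21), (nat_lit 0, nat_lit 0, nat_lit 37), (nat_lit 0, nat_lit 0, nat_lit 44), (nat_lit 0, nat_lit 0, nat_lit 36), (nat_lit 0, nat_lit 0, nat_lit 46), (nat_lit 0, nat_lit 25, nat_lit 25), (nat_lit 0, nat_lit 0, nat_lit 1), (nat_lit 1, nat_lit 21, nat_lit 0), (nat_lit 0, nat_lit 12, nat_lit 12), (nat_lit 0, nat_lit 0, nat_lit 13), (nat_lit 0, nat_lit 0, nat_lit 14), (nat_lit 0, nat_lit 0, nat_lit 4),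 (nat_lit 0, nat_lit 0, nat_lit 16), (nat_lit 0, nat_lit 5, nat_lit 0)]
def b_lev0 : Lev := ⟨nat_lit 0, [nat_lit 0x3888, nat_lit 0x28c8, nat_lit 0x1710, nat_lit 0x310a], [(nat_lit 2, nat_lit 0x310a, nat_lit 0), (nat_lit 3, nat_lit 0x28c8, nat_lit 2), (nat_lit 4, nat_lit 0x1710, nat_lit 2), (nat_lit 1, nat_lit 0x1710, nat_lit 4)], nat_lit 0x1f, nat_lit 0x30548116c429850c688, nat_lit 0x8538116a02cc41c688⟩
def b_lev1 : Lev := ⟨nat_lit 1, [nat_lit 0x3888, nat_lit 0x28c8, nat_lit 0x1710], [(nat_lit 2, nat_lit 0x1710, nat_lit 1), (nat_lit 3, nat_lit 0x28c8, nat_lit 2), (nat_lit 4, nat_lit 0x1710, nat_lit 2)], nat_lit 0x1e, nat_lit 0x266031305c423440000, nat_lit 0x1710654099823440000⟩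
def b_lev2 : Lev := ⟨nat_lit 2, [nat_lit 0x3888, nat_lit 0x28c8], [(nat_lit 3, nat_lit 0x28c8, nat_lit 2), (nat_lit 4, nat_lit 0x3888, nat_lit 3)], nat_lit 0x1c, nat_lit 0x270851911a200000000, nat_lit 0x27086a111a200000000⟩
def b_lev3 : Lev := ⟨nat_lit 3, [nat_lit 0x3888], [(nat_lit 4, nat_lit 0x3888, nat_lit 3)], nat_lit 0x18, nat_lit 0x38888d1000000000000, nat_lit 0x38888d1000000000000⟩
def b_levels : List Lev := [b_lev0, b_lev1, b_lev2, b_lev3]

def d_T : List Nat := [nat_lit 0xb8c9a56723041, nat_lit 0xc8ab976531240]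
def d_prog : List (Nat × Nat × Nat) := [(nat_lit 1, nat_lit 1, nat_lit 0), (nat_lit 1, nat_lit 1, nat_lit 0), (nat_lit 0, nat_lit 3, nat_lit 3), (nat_lit 0, nat_lit 0, nat_lit 3), (nat_lit 0, nat_lit 0, nat_lit 4), (nat_lit 0, nat_lit 0, nat_lit 6), (nat_lit 0, nat_lit 0, nat_lit 7), (nat_lit 0, nat_lit 0, nat_lit 8), (nat_lit 0, nat_lit 0, nat_lit 9), (nat_lit 0, nat_lit 8, nat_lit 8), (nat_lit 0, nat_lit 0, nat_lit 1), (nat_lit 0, nat_lit 11, nat_lit 11), (nat_lit 0, nat_lit 0, nat_lit 13), (nat_lit 0, nat_lit 0, nat_lit 14), (nat_lit 0, nat_lit 0, nat_lit 14), (nat_lit 0, nat_lit 0, nat_lit 15), (nat_lit 0, nat_lit 0, nat_lit 17), (nat_lit 0, nat_lit 0, nat_lit 18), (nat_lit 0, nat_lit 0, nat_lit 18), (nat_lit 0, nat_lit 0, nat_lit 20), (nat_lit 0, nat_lit 0, nat_lit 21), (nat_lit 0, nat_lit 0, nat_lit 21), (nat_lit 0, nat_lit 22, nat_lit 23), (nat_lit 0, nat_lit 0, nat_lit 23), (nat_lit 0, nat_lit 0, nat_lit 24),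 (nat_lit 0, nat_lit 0, nat_lit 25), (nat_lit 0, nat_lit 0, nat_lit 27), (nat_lit 0, nat_lit 0, nat_lit 27), (nat_lit 0, nat_lit 18, nat_lit 26), (nat_lit 0, nat_lit 0, nat_lit 1), (nat_lit 0, nat_lit 7, nat_lit 31), (nat_lit 0, nat_lit 0, nat_lit 32), (nat_lit 0, nat_lit 0, nat_lit 32), (nat_lit 0, nat_lit 0, nat_lit 33), (nat_lit 0, nat_lit 0, nat_lit 35), (nat_lit 0, nat_lit 0, nat_lit 35), (nat_lit 0, nat_lit 0, nat_lit 37), (nat_lit 0, nat_lit 0, nat_lit 37), (nat_lit 0, nat_lit 0, nat_lit 38), (nat_lit 0, nat_lit 0, nat_lit 40), (nat_lit 0, nat_lit 28, nat_lit 40), (nat_lit 0, nat_lit 0, nat_lit 41), (nat_lit 0, nat_lit 0, nat_lit 43), (nat_lit 0, nat_lit 0, nat_lit 44), (nat_lit 0, nat_lit 0, nat_lit 44), (nat_lit 0, nat_lit 0, nat_lit 45), (nat_lit 0, nat_lit 0, nat_lit 47), (nat_lit 0, nat_lit 0, nat_lit 48), (nat_lit 0, nat_lit 38, nat_lit 47), (nat_lit 0, nat_lit 0, nat_lit 1), (nat_lit 1, nat_lit 39, nat_lit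 0), (nat_lit 0, nat_lit 40, nat_lit 21), (nat_lit 0, nat_lit 0, nat_lit 2), (nat_lit 0, nat_lit 0, nat_lit 3), (nat_lit 0, nat_lit 0, nat_lit 14), (nat_lit 0, nat_lit 0, nat_lit 25), (nat_lit 0, nat_lit 0, nat_lit 34), (nat_lit 0, nat_lit 0, nat_lit 35), (nat_lit 0, nat_lit 0, nat_lit 47), (nat_lit 0, nat_lit 0, nat_lit 19), (nat_lit 0, nat_lit 0, nat_lit 38), (nat_lit 0, nat_lit 10, nat_lit 0), (nat_lit 0, nat_lit 32, nat_lit 51), (nat_lit 0, nat_lit 0, nat_lit 41), (nat_lit 0, nat_lit 0, nat_lit 34), (nat_lit 0, nat_lit 0, nat_lit 15), (nat_lit 1, nat_lit 4, nat_lit 0), (nat_lit 0, nat_lit 5, nat_lit 5), (nat_lit 0, nat_lit 0, nat_lit 2), (nat_lit 0, nat_lit 0, nat_lit 7), (nat_lit 0, nat_lit 0, nat_lit 4), (nat_lit 0, nat_lit 0, nat_lit 5), (nat_lit 0, nat_lit 0, nat_lit 10), (nat_lit 0, nat_lit 0, nat_lit 7), (nat_lit 0, nat_lit 0, nat_lit 8), (nat_lit 0, nat_lit 0, nat_lit 13), (nat_lit 0, nat_lit 9, nat_lit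 0)]
def d_lev0 : Lev := ⟨nat_lit 0, [nat_lit 0xcba8956734210, nat_lit 0xcb98a76524310, nat_lit 0xc9a8b76514230, nat_lit 0xb8c9a56723041], [(nat_lit 1, nat_lit 0xb8c9a56723041, nat_lit 0), (nat_lit 3, nat_lit 0xc9a8b76514230, nat_lit 1), (nat_lit 4, nat_lit 0xb8c9a56723041, nat_lit 1), (nat_lit 2, nat_lit 0xcb98a76524310, nat_lit 4)], nat_lit 0x1f, nat_lit 0x8ab9c765031249bc8a56724013a9b8c76504132b8c9a56723041cba9876543210, nat_lit 0x8ab9c76503124ab8c9567304128acb976531024ac89b56713402cba9876543210⟩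
def d_lev1 : Lev := ⟨nat_lit 1, [nat_lit 0xcba8956734210, nat_lit 0xcb98a76524310, nat_lit 0xc9a8b76514230], [(nat_lit 3, nat_lit 0xc9a8b76514230, nat_lit 1), (nat_lit 4, nat_lit 0xcba8956734210, nat_lit 3), (nat_lit 2, nat_lit 0xcb98a76524310, nat_lit 4)], nat_lit 0x1e, nat_lit 0xc8a9b56713240c9a8b76514230ca98b56714320cba98765432100000000000000, nat_lit 0xc8a9b56713240c8ab976531240c8ba956732140cba98765432100000000000000⟩
def d_lev2 : Lev := ⟨nat_lit 2, [nat_lit 0xcba8956734210, nat_lit 0xcb98a76524310], [(nat_lit 3, nat_lit 0xcb98a76524310, nat_lit 2), (nat_lit 4, nat_lit 0xcba8956734210, nat_lit 3)], nat_lit 0x1c, nat_lit 0xcb89a56723410cb98a76524310cba987654321000000000000000000000000000, nat_lit 0xcb89a56723410cb8a976532410cba987654321000000000000000000000000000⟩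
def d_lev3 : Lev := ⟨nat_lit 3, [nat_lit 0xcba8956734210], [(nat_lit 4, nat_lit 0xcba8956734210, nat_lit 3)], nat_lit 0x18, nat_lit 0xcba8956734210cba9876543210000000000000000000000000000000000000000, nat_lit 0xcba8956734210cba9876543210000000000000000000000000000000000000000⟩
def d_levels : List Lev := [d_lev0, d_lev1, d_lev2, d_lev3]

def Ds : List (Nat × Nat × Nat) := [(nat_lit 0xbba621, nat_lit 0x310a, nat_lit 0xb8c9a56723041), (nat_lit 0xfab2a0, nat_lit 0x4099, nat_lit 0xc8ab976531240)]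
theorem hid2 : ∀ i < 5, app 3 7 0x4688 i = i := by decide +kernel

theorem diag : allL (diagOK 4 15 5 3 7 0x4688) Ds = true := by decide +kernel

theorem check2 : checkAll 5 3 7 15 0x7fff 0x4688 (Ds.map (·.2.1)) b_prog b_levels = true := by decide +kernel

theorem check3 : checkAll (8 + 5) 4 15 52 0xfffffffffffff 0xcba9876543210 (Ds.map (·.2.2)) d_prog d_levels = true := by decide +kernel

theorem check1 : checkAll 8 3 7 24 0xffffff idc8 (Ds.map (·.1)) prog levels = true := by decide +kernel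

theorem o1 : orderC d_levels = orderC levels := by decide +kernel

theorem o2 : orderC d_levels = orderC b_levels := by decide +kernel

theorem o3 : orderC b_levels = Nat.factorial 5 := by decide +kernel

theorem self : Excl (HH T) → Target (HH T) := fun _ =>
  Or.inr (Or.inl (exists_iso_perm (k := 5) (by decide +kernel) hm8 hid2 diag check1 check2 check3 o1 o2 o3))

theorem concl : Concl Amb.gA T := by
  refine concl_of_step valid check stepc (by decide +kernel) self ?_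
  intro t ht

  simp only [targets, List.mem_cons, List.not_mem_nil, or_false] at ht
  rcases ht with rfl | rfl | rfl | rfl
  · exact N09.concl
  · exact N00.concl
  · exact N02.concl
  · exact N07.concl

end Cfsg.Agent.Lib.OverLat.A8.N21
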