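import Cfsg.Agent.Lib.OverLat.A8.Common
import Cfsg.Agent.Lib.OverLat.A8.Amb
import Cfsg.Agent.Lib.OverLat.A8.N00
import Cfsg.Agent.Lib.OverLat.A8.N08

set_option autoImplicit false
set_option linter.unusedSectionVars false
set_option maxRecDepth 1000000

namespace Cfsg.Agent.Lib.OverLat.A8.N24

open Cfsg.Agent.Lib.PermComp.Core Cfsg.Agent.Lib.OverLat.Core Cfsg.Agent.Lib.OverLat.Basic Cfsg.Agent.Lib.OverLat.A8.Common

def T : List Nat := [nat_lit 0xf742c2, nat_lit 0x7a90bc]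
def prog : List (Nat × Nat × Nat) := [(nat_lit 1, nat_lit 1, nat_lit 0), (nat_lit 1, nat_lit 1, nat_lit 0), (nat_lit 0, nat_lit 2, nat_lit 2), (nat_lit 0, nat_lit 0, nat_lit 4), (nat_lit 0, nat_lit 0, nat_lit 5), (nat_lit 0, nat_lit 0, nat_lit 6), (nat_lit 0, nat_lit 0, nat_lit 6), (nat_lit 0, nat_lit 5, nat_lit 5), (nat_lit 0, nat_lit 0, nat_lit 6), (nat_lit 0, nat_lit 0, nat_lit 2), (nat_lit 0, nat_lit 11, nat_lit 11), (nat_lit 0, nat_lit 0, nat_lit 12), (nat_lit 0, nat_lit 0, nat_lit 13), (nat_lit 0, nat_lit 0, nat_lit 13), (nat_lit 0, nat_lit 0, nat_lit 14), (nat_lit 0, nat_lit 0, nat_lit 16), (nat_lit 0, nat_lit 0, nat_lit 17), (nat_lit 0, nat_lit 0, nat_lit 18), (nat_lit 0, nat_lit 0, nat_lit 18), (nat_lit 0, nat_lit 0, nat_lit 20), (nat_lit 0, nat_lit 0, nat_lit 21), (nat_lit 0, nat_lit 20, nat_lit 20), (nat_lit 0, nat_lit 0, nat_lit 1), (nat_lit 1, nat_lit 13, nat_lit 0), (nat_lit 0, nat_lit 14, nat_lit 14), (nat_lit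 0, nat_lit 0, nat_lit 2), (nat_lit 0, nat_lit 0, nat_lit 3), (nat_lit 0, nat_lit 0, nat_lit 17), (nat_lit 0, nat_lit 0, nat_lit 18), (nat_lit 0, nat_lit 0, nat_lit 6), (nat_lit 0, nat_lit 0, nat_lit 20), (nat_lit 0, nat_lit 0, nat_lit 21), (nat_lit 0, nat_lit 0, nat_lit 22), (nat_lit 0, nat_lit 0, nat_lit 10), (nat_lit 0, nat_lit 0, nat_lit 24), (nat_lit 0, nat_lit 11, nat_lit 0)]
def lev0 : Lev := ⟨nat_lit 0, [nat_lit 0x7772a0, nat_lit 0x5778c8, nat_lit 0xf742c2], [(nat_lit 2, nat_lit 0xf742c2, nat_lit 0), (nat_lit 3, nat_lit 0x5778c8, nat_lit 2), (nat_lit 1, nat_lit 0x7772a0, nat_lit 3), (nat_lit 4, nat_lit 0x5778c8, nat_lit 3), (nat_lit 7, nat_lit 0x7772a0, nat_lit 4)], nat_lit 0x9f, nat_lit 0x3aa8c70000000000007723c45af303f742c25739c1fac688, nat_lit 0x1ab539000000000000570f199aa1d9f744195739c1fac688⟩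
def lev1 : Lev := ⟨nat_lit 2, [nat_lit 0x7772a0, nat_lit 0x5778c8], [(nat_lit 3, nat_lit 0x5778c8, nat_lit 2), (nat_lit 1, nat_lit 0x7772a0, nat_lit 3), (nat_lit 4, nat_lit 0x5778c8, nat_lit 3), (nat_lit 7, nat_lit 0x7772a0, nat_lit 4)], nat_lit 0x9e, nat_lit 0x3727e00000000000007aaf085778c8fac6885abe60000000, nat_lit 0x5717380000000000007aaf089735c8fac6887a99d0000000⟩
def lev2 : Lev := ⟨nat_lit 1, [nat_lit 0x7772a0], [(nat_lit 4, nat_lit 0x7772a0, nat_lit 1), (nat_lit 7, nat_lit 0x7772a0, nat_lit 4), (nat_lit 3, nat_lit 0x7772a0, nat_lit 7)], nat_lit 0x9a, nat_lit 0x3ab8b80000000000007772a0971e98000000fac688000000, nat_lit 0x3ab8b8000000000000971e987772a0000000fac688000000⟩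
def levels : List Lev := [lev0, lev1, lev2]

theorem valid : allL (validC 8 3 7 idc8) T = true := by decide +kernel

theorem check : checkAll 8 3 7 24 0xffffff idc8 T prog levels = true := by decide +kernel

def targets : List (List Nat) := [N00.T, N08.T]
def cert : StepCert where
  N := nat_lit 168
  b := nat_lit 8
  bm := nat_lit 255
  U := nat_lit 0xb062fad0d6b8a1e9cab1e439c559d8abe10bafe062dc5313d1507bcbd2e0ac69d1bde054c3d31aa3e6a1c0dee2c5d817bce702acee84a5eea0be6443c1570fc8d9c3de50caa163e3a7e710c7d423ce53c2ad6847ddd508be6298c9de0ccd5e21a4651fca505fc457e2b0ee13d0d4c7aa67c8bd6119de5611a16e5ca86e63ccd117a262d7d1de42c255d9a5663cc45ed4a9e307c65687b16ec8cc547cd1d3d0abe819d05e99a8e0fcc3d853c1d2bca7e8c2cfd88857067cf708991a94fc3730bc977688f664c1fa56501bd8d13465dc17e662385f139854cf37e61495e47878d1d49467d119d5e115ee543bd11a99d21774ef0294e09f39581f7bd44457e8589950f955e3c498d5c33561e377e3105bd22395664759df081666b9746857f8d51854e13b1957cc1a545f7853e2f4e81358d8c7156f193a543bf5e11156660f795e603660d7f9d8425a51d975623c76607af95303546ee17a5287f568c858567cf4670a18dea3f8589914e4fc35ee2239d0bc97e2c29bd688b066b9a1e857c7d518a5613bd0545fc1d3e2a7e813c558c7d0d43bafe111b1660fc9de60b0e0d7cfd842d151d9a9e23cb1e07acbd303a16ee1d1d287abe8c8c1567ca3e70ac45ea3c3d899a464fcacee22ccd0bcbe62c2de5688d2b07aab7303b33287caf8c8c2f70aa70ea3a37899c684fcce9e22af10bcdec2c2bf4688fac688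
  V := nat_lit 0x33e41d3e66a853ba0e33eac25e3370b3a18bb39c13de205d3e6153be159853bc45d38a53be221eb396867e142e1e3a72d3a629738ca9739ab0d3d0d11e274e5e31a9de540b53915eb3a670be10f25e5c1913bd51de2ac8d3d2987e0b8a7e1d4213a2f51e53935e163573e06a1e64e953d788d3a343de56427383567391951e2c6b13d45e7e6a115e52c63387727e047513ab991e56b173e5483e0cd55e6a58b3b3827e62853385abbe30563e0a9eb3b431be3c883707d4f732843a84e73708bb977688f354c1fa5650ba34475302fdb316177a207d1a74cdb3067a337ad05a0e6b5376455a1ac7730a57ba223b1a7a5a732e291372ab1a337aba0ed1b333d03a7543530bd95a70e953117bb32e58ba11da1377517a2bc8335687133e55fa22e83321eb5a074f1a52d75a1e1df3306a1a35e97323473a50faf32a431357ca7a1f5013547bfa3a115a53c3330f5a335e13fa21597315c51a5e99f335483a07d5f3260d7a10affa32853304ef731a3a3a0abbb37419ba768833e68513ba56be22f033a1731e62d55e1a1eb3b0721e35713e60eab3ac4313e74a7e1b9013e46bbe3c115e6343338b9a33ea13be21997395461e6a99b3b5883e0756b3a60e7e10b5be32863384f5739c2a3e0cabd3d419de56883ee81397a19917e8999eb5889ea60e7790b497b2863e84f47e9c22378ca3dec419d7c688fac688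
  tabsA := [(nat_lit 0x8c73aa, nat_lit 0xa22c798f6b651e1c014092a69f7539473e055794466a8a0b0c386d42768007483464094e022b4591555256818e72684f315f4d70240a196982a366836e9d74a5299b6c73152688772a99511896787b0f5c635b1a7c4b875e06711760109a903f49581d8c360461a113a03b127d2133142d938b301f7e2e1b3211957aa416234a679e273c00538459506222545d973a3728353d2041864c2f430d0e6f039c447f5a89088598a78d25), (nat_lit 0x972e19, nat_lit 0x237728a2297c8a841526970d8376101d8d218b75789d1c131aa4729a9486a09b0f7e7d8988182a201185a17916276e956f8c932419719225a68e170e6700696b6837340c310a2f43652b5e48534d662c58035c3e35630104603a386102465d5a2d4941575b2e44095452080b4e4c065536424f3347073f053b595f454aa36d7ba5708f73741f8090121b917f149ea799817a8722961e989c6c9f823d3239305051564b6462403c6a)]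
  tabsL := [(nat_lit 0xf742c2, nat_lit 0x9fa792a6a59c8e81a4a1a38fa29e7e85a0789980779d948c9b9a839897919695937390717a8d8b8a8988878684826e7f7d7c7b79766c757472706f6d6a686b6967656653464d414c645063524742625661605a5f545e5d5c5b594e58573a553244513e4f30494b4a48352e4543382d403f3d3c3b3937363433312f2b2c1c271425202312292a28171026241a0f22211f1e1d1b1918161513110d0e0a040c030b0809060705010200), (nat_lit 0x7a90bc, nat_lit 0xa697a787a288a5a4a3897c9d7b8d8aa0a19a9b989f9e95759c8b999074967f939492918f8e708c7d86826f84858381807e6d797a7877767273716c6e696b676a68575d58665e65403f63643c605c3b61625f375b51553659345a4b4f33564a54535250454e4d4c48494746434442412f3d3e31393a382b352c32302e2d222a21191e261d162829271824252315111f20131b1c1a0d170e1412100f050b07090c010a020806040300)]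
  rt := nat_lit 0x6c6c6c6c6c6c6c6c6c6c6c6c6c6c6c6c6c6c6c6c6c6c6c6c6c6c6c6c6c6c6c6c6c6c6c6c6c6c6c6c6c6c6c6c6c6c6c6c6c6c6c6c6c6c6c6c6c6c6c6c67676767672b2b2b2b2b2b2b2b2b2b2b2b2b2b2b2b2b2b2b2b2b2b2b2b2b2b2b2b2b2b2b2b2b2b2b2b2b2b2b2b2b2b2b2b2b2b2b2b2b2b2b2b2b2b2b2b2b2b2b2b0d0d0d0d0d0d0d0d0d0d0d0d0d0d0d0d0d0d0d0d0d0d0d0d0d0d0d0d0d0d01010101010101010101010100
  par := nat_lit 0xa5a4a19f9d9b97979392928f8f8e8d8c8b898887878685858483828181807f7e7d7c7b7b7a7a79787877777675747473727171706f6f6e6e6d6c6c00696868670063615d5d575756545251504f4e4e4c4b4a4948474646454443424141403f3f3e3d3c3b3b3a39383736363534333332323130302f2e2e2d2d2c2b2b00222121201e1d1d1c1a1918181716151514141312121110100f0f0e0d0d0008080606040403030201010000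
  gi := nat_lit 0x10001000000010001010001000001000000000100010100010100010000000000000100010001010001000000010001010100000100010000010000000100010001010100010000000000000001000000010001010100010001010100000100010100010001010000010000000100010000010000010001000101000000010001000100010000010000000100010000010000010001000101000001000100010001000101000000
  rootMask := nat_lit 0x1080000000000000080000002002
  roots := [(nat_lit 1, nat_lit 0, [nat_lit 0x4b48b2c9, nat_lit 0x4cb68b6c9]), (nat_lit 13, nat_lit 0, [nat_lit 0x8a693691, nat_lit 0x3453459]), (nat_lit 43, nat_lit 0, [nat_lit 0x124532d1, nat_lit 0x265a4cb]), (nat_lit 103, nat_lit 1, [nat_lit 0x9b48b, nat_lit 0x24cb]), (nat_lit 108, nat_lit 0, [nat_lit 0x12689459, nat_lit 0x1b252451])]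

theorem stepc : stepCheck 8 3 7 24 0xffffff idc8 levels targets T cert = true := by decide +kernel

def b_T : List Nat := [nat_lit 0x3460, nat_lit 0x8d1]
def b_prog : List (Nat × Nat × Nat) := [(nat_lit 1, nat_lit 1, nat_lit 0), (nat_lit 1, nat_lit 1, nat_lit 0), (nat_lit 0, nat_lit 2, nat_lit 3), (nat_lit 0, nat_lit 0, nat_lit 4), (nat_lit 0, nat_lit 0, nat_lit 4), (nat_lit 0, nat_lit 0, nat_lit 6), (nat_lit 0, nat_lit 0, nat_lit 7), (nat_lit 0, nat_lit 6, nat_lit 6), (nat_lit 0, nat_lit 0, nat_lit 1), (nat_lit 0, nat_lit 10, nat_lit 9), (nat_lit 0, nat_lit 10, nat_lit 10), (nat_lit 0, nat_lit 0, nat_lit 11), (nat_lit 0, nat_lit 0, nat_lit 12), (nat_lit 0, nat_lit 0, nat_lit 14), (nat_lit 0, nat_lit 0, nat_lit 14), (nat_lit 0, nat_lit 0, nat_lit 16), (nat_lit 0, nat_lit 0, nat_lit 17), (nat_lit 0, nat_lit 0, nat_lit 18), (nat_lit 0, nat_lit 0, nat_lit 18), (nat_lit 0, nat_lit 17, nat_lit 0), (nat_lit 0, nat_lit 10, nat_lit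 20), (nat_lit 0, nat_lit 0, nat_lit 21), (nat_lit 0, nat_lit 0, nat_lit 22), (nat_lit 0, nat_lit 0, nat_lit 23), (nat_lit 0, nat_lit 0, nat_lit 24), (nat_lit 0, nat_lit 0, nat_lit 26), (nat_lit 0, nat_lit 25, nat_lit 24), (nat_lit 0, nat_lit 0, nat_lit 1), (nat_lit 1, nat_lit 0, nat_lit 0), (nat_lit 0, nat_lit 1, nat_lit 1), (nat_lit 0, nat_lit 0, nat_lit 10), (nat_lit 0, nat_lit 0, nat_lit 3), (nat_lit 0, nat_lit 0, nat_lit 4), (nat_lit 0, nat_lit 0, nat_lit 5), (nat_lit 0, nat_lit 25, nat_lit 6), (nat_lit 0, nat_lit 0, nat_lit 7), (nat_lit 0, nat_lit 0, nat_lit 16), (nat_lit 0, nat_lit 0, nat_lit 17), (nat_lit 0, nat_lit 0, nat_lit 29), (nat_lit 0, nat_lit 0, nat_lit 30), (nat_lit 0, nat_lit 11, nat_lit 0), (nat_lit 0, nat_lit 21, nat_lit 32), (nat_lit 0, nat_lit 0, nat_lit 22), (nat_lit 0, nat_lit 0, nat_lit 34), (nat_lit 0, nat_lit 0, nat_lit 24), (nat_lit 0, nat_lit 0, nat_lit 36), (nat_lit 0, nat_lit 0, nat_lit 37), (nat_lit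 0, nat_lit 0, nat_lit 27), (nat_lit 0, nat_lit 0, nat_lit 28), (nat_lit 0, nat_lit 0, nat_lit 29), (nat_lit 0, nat_lit 0, nat_lit 41), (nat_lit 1, nat_lit 17, nat_lit 0), (nat_lit 1, nat_lit 1, nat_lit 0), (nat_lit 0, nat_lit 19, nat_lit 12), (nat_lit 0, nat_lit 0, nat_lit 3), (nat_lit 0, nat_lit 0, nat_lit 4), (nat_lit 0, nat_lit 4, nat_lit 3), (nat_lit 0, nat_lit 0, nat_lit 1)]
def b_lev0 : Lev := ⟨nat_lit 1, [nat_lit 0x2708, nat_lit 0x3888, nat_lit 0x40ca, nat_lit 0x3460], [(nat_lit 4, nat_lit 0x3460, nat_lit 1), (nat_lit 2, nat_lit 0x2708, nat_lit 4), (nat_lit 3, nat_lit 0x3888, nat_lit 4), (nat_lit 0, nat_lit 0x40ca, nat_lit 3)], nat_lit 0x1f, nat_lit 0x346088b0e1423444642, nat_lit 0x18d085a0e1423444611⟩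
def b_lev1 : Lev := ⟨nat_lit 0, [nat_lit 0x2708, nat_lit 0x3888, nat_lit 0x40ca], [(nat_lit 2, nat_lit 0x40ca, nat_lit 0), (nat_lit 4, nat_lit 0x2708, nat_lit 2), (nat_lit 3, nat_lit 0x40ca, nat_lit 2)], nat_lit 0x1d, nat_lit 0x20cc881703280004688, nat_lit 0x50b8195102c0004688⟩
def b_lev2 : Lev := ⟨nat_lit 3, [nat_lit 0x2708, nat_lit 0x3888], [(nat_lit 4, nat_lit 0x3888, nat_lit 3), (nat_lit 2, nat_lit 0x2708, nat_lit 4)], nat_lit 0x1c, nat_lit 0x38888d10d4200000000, nat_lit 0x38888d10a3200000000⟩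
def b_lev3 : Lev := ⟨nat_lit 2, [nat_lit 0x2708], [(nat_lit 4, nat_lit 0x2708, nat_lit 2)], nat_lit 0x14, nat_lit 0x270800011a200000000, nat_lit 0x270800011a200000000⟩
def b_levels : List Lev := [b_lev0, b_lev1, b_lev2, b_lev3]

def d_T : List Nat := [nat_lit 0xba9c875641302, nat_lit 0x8cba936510274]
def d_prog : List (Nat × Nat × Nat) := [(nat_lit 1, nat_lit 1, nat_lit 0), (nat_lit 1, nat_lit 1, nat_lit 0), (nat_lit 0, nat_lit 3, nat_lit 3), (nat_lit 0, nat_lit 0, nat_lit 3), (nat_lit 0, nat_lit 0, nat_lit 4), (nat_lit 0, nat_lit 0, nat_lit 6), (nat_lit 0, nat_lit 0, nat_lit 7), (nat_lit 0, nat_lit 0, nat_lit 8), (nat_lit 0, nat_lit 0, nat_lit 9), (nat_lit 0, nat_lit 8, nat_lit 0), (nat_lit 0, nat_lit 10, nat_lit 10), (nat_lit 0, nat_lit 0, nat_lit 12), (nat_lit 0, nat_lit 0, nat_lit 13), (nat_lit 0, nat_lit 0, nat_lit 13), (nat_lit 0, nat_lit 0, nat_lit 14), (nat_lit 0, nat_lit 0, nat_lit 16), (nat_lit 0, nat_lit 0, nat_lit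 17), (nat_lit 0, nat_lit 0, nat_lit 17), (nat_lit 0, nat_lit 0, nat_lit 19), (nat_lit 0, nat_lit 0, nat_lit 20), (nat_lit 0, nat_lit 0, nat_lit 20), (nat_lit 0, nat_lit 20, nat_lit 20), (nat_lit 0, nat_lit 0, nat_lit 1), (nat_lit 0, nat_lit 23, nat_lit 24), (nat_lit 0, nat_lit 0, nat_lit 24), (nat_lit 0, nat_lit 0, nat_lit 25), (nat_lit 0, nat_lit 0, nat_lit 26), (nat_lit 0, nat_lit 0, nat_lit 28), (nat_lit 0, nat_lit 0, nat_lit 28), (nat_lit 0, nat_lit 27, nat_lit 27), (nat_lit 0, nat_lit 0, nat_lit 28), (nat_lit 0, nat_lit 0, nat_lit 2), (nat_lit 1, nat_lit 22, nat_lit 0), (nat_lit 1, nat_lit 1, nat_lit 0), (nat_lit 0, nat_lit 24, nat_lit 2), (nat_lit 0, nat_lit 0, nat_lit 3), (nat_lit 0, nat_lit 0, nat_lit 13), (nat_lit 0, nat_lit 0, nat_lit 5), (nat_lit 0, nat_lit 0, nat_lit 28), (nat_lit 0, nat_lit 0, nat_lit 16), (nat_lit 0, nat_lit 0, nat_lit 17), (nat_lit 0, nat_lit 8, nat_lit 7), (nat_lit 0, nat_lit 0, nat_lit 1)]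
def d_lev0 : Lev := ⟨nat_lit 0, [nat_lit 0x9b8ac35671240, nat_lit 0xc8ba925674310, nat_lit 0xba9c875641302], [(nat_lit 2, nat_lit 0xba9c875641302, nat_lit 0), (nat_lit 3, nat_lit 0xc8ba925674310, nat_lit 2), (nat_lit 1, nat_lit 0x9b8ac35671240, nat_lit 3), (nat_lit 4, nat_lit 0xc8ba925674310, nat_lit 3), (nat_lit 7, nat_lit 0x9b8ac35671240, nat_lit 4)], nat_lit 0x9f, nat_lit 0xacb98165243070000000000000000000000000098bca356217048bac926571403ba9c875641302cb89a25634701cba9876543210, nat_lit 0xbac9806532471000000000000000000000000009a8cb256074319ba8c465207319cba875642031cb89a25634701cba9876543210⟩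
def d_lev1 : Lev := ⟨nat_lit 2, [nat_lit 0x9b8ac35671240, nat_lit 0xc8ba925674310], [(nat_lit 3, nat_lit 0xc8ba925674310, nat_lit 2), (nat_lit 1, nat_lit 0x9b8ac35671240, nat_lit 3), (nat_lit 4, nat_lit 0xc8ba925674310, nat_lit 3), (nat_lit 7, nat_lit 0x9b8ac35671240, nat_lit 4)], nat_lit 0x9e, nat_lit 0x9acb81562374000000000000000000000000000c98ba36527410c8ba925674310cba98765432109cb8a265371400000000000000, nat_lit 0xa9bc82561347000000000000000000000000000c98ba36527410ca98b45632710cba9876543210ba8c9365147200000000000000⟩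
def d_lev2 : Lev := ⟨nat_lit 1, [nat_lit 0x9b8ac35671240], [(nat_lit 4, nat_lit 0x9b8ac35671240, nat_lit 1), (nat_lit 7, nat_lit 0x9b8ac35671240, nat_lit 4), (nat_lit 3, nat_lit 0x9b8ac35671240, nat_lit 7)], nat_lit 0x9a, nat_lit 0xabc8916534270000000000000000000000000009b8ac356712408b9ca456172300000000000000cba98765432100000000000000, nat_lit 0xabc8916534270000000000000000000000000008b9ca456172309b8ac356712400000000000000cba98765432100000000000000⟩
def d_levels : List Lev := [d_lev0, d_lev1, d_lev2]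

def Ds : List (Nat × Nat × Nat) := [(nat_lit 0xf742c2, nat_lit 0x3460, nat_lit 0xba9c875641302), (nat_lit 0x7a90bc, nat_lit 0x8d1, nat_lit 0x8cba936510274)]
theorem hid2 : ∀ i < 5, app 3 7 0x4688 i = i := by decide +kernel

theorem diag : allL (diagOK 4 15 5 3 7 0x4688) Ds = true := by decide +kernel

theorem check2 : checkAll 5 3 7 15 0x7fff 0x4688 (Ds.map (·.2.1)) b_prog b_levels = true := by decide +kernel

theorem check3 : checkAll (8 + 5) 4 15 52 0xfffffffffffff 0xcba9876543210 (Ds.map (·.2.2)) d_prog d_levels = true := by decide +kernel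

theorem check1 : checkAll 8 3 7 24 0xffffff idc8 (Ds.map (·.1)) prog levels = true := by decide +kernel

theorem o1 : orderC d_levels = orderC levels := by decide +kernel

theorem o2 : orderC d_levels = orderC b_levels := by decide +kernel

theorem o3 : orderC b_levels = Nat.factorial 5 := by decide +kernel

theorem self : Excl (HH T) → Target (HH T) := fun _ =>
  Or.inr (Or.inl (exists_iso_perm (k := 5) (by decide +kernel) hm8 hid2 diag check1 check2 check3 o1 o2 o3))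

theorem concl : Concl Amb.gA T := by
  refine concl_of_step valid check stepc (by decide +kernel) self ?_
  intro t ht

  simp only [targets, List.mem_cons, List.not_mem_nil, or_false] at ht
  rcases ht with rfl | rfl
  · exact N00.concl
  · exact N08.concl

end Cfsg.Agent.Lib.OverLat.A8.N24
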